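import Mathlib

/-!
# Groups generated by two commuting elements (helper69)

Normal forms and cardinality bounds for a group generated by two commuting elements of bounded
order.
-/

namespace Cfsg.Agent.Lib.Helper69.TwoGen

/-- integer normal form in the closure of two commuting elements -/
theorem exists_zpow_of_mem_closure {Q : Type*} [Group Q] (a b : Q) (hab : a * b = b * a) (q : Q)
    (hq : q ∈ Subgroup.closure ({a, b} : Set Q)) : ∃ i j : ℤ, q = a ^ i * b ^ j := by
  have hc : Commute a b := hab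
  induction hq using Subgroup.closure_induction with
  | mem g hg =>
    rcases hg with rfl | rfl
    · exact ⟨1, 0, by simp⟩
    · exact ⟨0, 1, by simp⟩
  | one => exact ⟨0, 0, by simp⟩
  | mul g h _ _ ihg ihh =>
    obtain ⟨i, j, rfl⟩ := ihg
    obtain ⟨k, l, rfl⟩ := ihh
    refine ⟨i + k, j + l, ?_⟩
    rw [zpow_add, zpow_add]
    have h1 : b ^ j * a ^ k = a ^ k * b ^ j := ((hc.zpow_zpow k j).eq).symm
    calc a ^ i * b ^ j * (a ^ k * b ^ l) = a ^ i * (b ^ j * a ^ k) * b ^ l := by group
      _ = a ^ i * (a ^ k * b ^ j) * b ^ l := by rw [h1]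
      _ = a ^ i * a ^ k * (b ^ j * b ^ l) := by group
  | inv g _ ih =>
    obtain ⟨i, j, rfl⟩ := ih
    refine ⟨-i, -j, ?_⟩
    rw [mul_inv_rev, zpow_neg, zpow_neg]
    exact ((hc.zpow_zpow i j).inv_inv).eq.symm

/-- reduced normal form in the closure of two commuting elements of bounded order -/
theorem exists_pow_of_mem_closure {Q : Type*} [Group Q] (a b : Q) (hab : a * b = b * a)
    (n m : ℕ) (hn : 0 < n) (hm : 0 < m) (ha : a ^ n = 1) (hb : b ^ m = 1) (q : Q)
    (hq : q ∈ Subgroup.closure ({a, b} : Set Q)) :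
    ∃ i < n, ∃ j < m, q = a ^ i * b ^ j := by
  obtain ⟨i, j, rfl⟩ := exists_zpow_of_mem_closure a b hab q hq
  have hi0 := Int.emod_nonneg i (by omega : (n : ℤ) ≠ 0)
  have hi1 := Int.emod_lt_of_pos i (by omega : (0 : ℤ) < n)
  have hj0 := Int.emod_nonneg j (by omega : (m : ℤ) ≠ 0)
  have hj1 := Int.emod_lt_of_pos j (by omega : (0 : ℤ) < m)
  refine ⟨(i % n).toNat, by omega, (j % m).toNat, by omega, ?_⟩
  rw [zpow_eq_zpow_emod' i ha, zpow_eq_zpow_emod' j hb, ← zpow_natCast a, ← zpow_natCast b,
    Int.toNat_of_nonneg hi0, Int.toNat_of_nonneg hj0]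

/-- a group generated by two commuting elements of orders dividing `n`, `m` has at most `n * m`
elements -/
theorem card_le_of_closure_eq_top {Q : Type*} [Group Q] (a b : Q) (hab : a * b = b * a)
    (n m : ℕ) (hn : 0 < n) (hm : 0 < m) (ha : a ^ n = 1) (hb : b ^ m = 1)
    (hgen : Subgroup.closure ({a, b} : Set Q) = ⊤) : Nat.card Q ≤ n * m := by
  have hsurj : Function.Surjective
      (fun ij : Fin n × Fin m => a ^ (ij.1 : ℕ) * b ^ (ij.2 : ℕ)) := by
    intro q
    obtain ⟨i, hi, j, hj, rfl⟩ :=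
      exists_pow_of_mem_closure a b hab n m hn hm ha hb q (by rw [hgen]; trivial)
    exact ⟨(⟨i, hi⟩, ⟨j, hj⟩), rfl⟩
  have h := Nat.card_le_card_of_surjective _ hsurj
  simpa [Nat.card_prod] using h

/-- the image of a generating pair generates the quotient -/
theorem closure_map_eq_top {G H : Type*} [Group G] [Group H] (f : G →* H)
    (hf : Function.Surjective f) (s : Set G) (hs : Subgroup.closure s = ⊤) :
    Subgroup.closure (f '' s) = ⊤ := by
  rw [← MonoidHom.map_closure, hs, Subgroup.map_top_of_surjective f hf]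

end Cfsg.Agent.Lib.Helper69.TwoGen
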