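import Mathlib
import Cfsg.Agent.Lib.Helper69.TwoGen

/-!
# The rank-two groups `C(p,n)` (helper69; piece R2a of S5289)

`G = ⟨x, y, z⟩` with `z` central, `x ^ p = y ^ p = 1` and `[y, x] ∈ ⟨z⟩`.
-/

namespace Cfsg.Agent.Lib.Helper69.Cpn

open Cfsg.Agent.Lib.Helper69

/-- an element commuting with a generating set is central -/
theorem central_of_gen {G : Type*} [Group G] (s : Set G) (hs : Subgroup.closure s = ⊤) (z : G)
    (h : ∀ a ∈ s, a * z = z * a) : ∀ g : G, g * z = z * g := by
  intro g
  have hg : g ∈ Subgroup.closure s := by rw [hs]; trivial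
  have hle : Subgroup.closure s ≤ Subgroup.centralizer {z} := by
    rw [Subgroup.closure_le]
    intro a ha
    rw [SetLike.mem_coe, Subgroup.mem_centralizer_singleton_iff]
    exact h a ha
  exact Subgroup.mem_centralizer_singleton_iff.mp (hle hg)

/-- the subgroup generated by a central element is normal -/
theorem normal_zpowers_of_central {G : Type*} [Group G] (z : G) (hz : ∀ g : G, g * z = z * g) :
    (Subgroup.zpowers z).Normal := by
  refine ⟨fun n hn g => ?_⟩
  obtain ⟨k, rfl⟩ := Subgroup.mem_zpowers_iff.mp hn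
  have hc : Commute g (z ^ k) := Commute.zpow_right (hz g) k
  have : g * z ^ k * g⁻¹ = z ^ k := by rw [hc.eq]; group
  rw [this]
  exact Subgroup.zpow_mem _ (Subgroup.mem_zpowers z) k

/-- in the quotient by a normal subgroup containing `z` and the commutator of `x`, `y`, a group
generated by `x, y, z` becomes generated by the commuting images of `x`, `y` -/
theorem quot_data {G : Type*} [Group G] (N : Subgroup G) [N.Normal] (x y z : G)
    (hgen : Subgroup.closure ({x, y, z} : Set G) = ⊤) (hz : z ∈ N)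
    (hxy : y⁻¹ * x⁻¹ * y * x ∈ N) :
    (QuotientGroup.mk x : G ⧸ N) * QuotientGroup.mk y = QuotientGroup.mk y * QuotientGroup.mk x ∧
      Subgroup.closure ({(QuotientGroup.mk x : G ⧸ N), QuotientGroup.mk y} : Set (G ⧸ N)) = ⊤ := by
  have hab : (QuotientGroup.mk x : G ⧸ N) * QuotientGroup.mk y
      = QuotientGroup.mk y * QuotientGroup.mk x := by
    rw [← QuotientGroup.mk_mul, ← QuotientGroup.mk_mul, QuotientGroup.eq]
    have : (x * y)⁻¹ * (y * x) = y⁻¹ * x⁻¹ * y * x := by group
    rw [this]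
    exact hxy
  refine ⟨hab, ?_⟩
  have h1 := TwoGen.closure_map_eq_top (QuotientGroup.mk' N) (QuotientGroup.mk'_surjective _) _ hgen
  rw [eq_top_iff, ← h1, Subgroup.closure_le]
  rintro q ⟨g, hg, rfl⟩
  rcases hg with rfl | rfl | rfl
  · exact Subgroup.subset_closure (Or.inl rfl)
  · exact Subgroup.subset_closure (Or.inr rfl)
  · have : (QuotientGroup.mk' N) g = 1 := (QuotientGroup.eq_one_iff g).mpr hz
    rw [this]
    exact Subgroup.one_mem _

/-- all commutators of a group generated by `x, y, z` lie in a normal subgroup containing `z`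
and the commutator of `x` and `y` -/
theorem comm_mem {G : Type*} [Group G] (N : Subgroup G) [N.Normal] (x y z : G)
    (hgen : Subgroup.closure ({x, y, z} : Set G) = ⊤) (hz : z ∈ N)
    (hxy : y⁻¹ * x⁻¹ * y * x ∈ N) (a b : G) : a * b * a⁻¹ * b⁻¹ ∈ N := by
  obtain ⟨hab, htop⟩ := quot_data N x y z hgen hz hxy
  have hcomm : IsMulCommutative
      (Subgroup.closure ({(QuotientGroup.mk x : G ⧸ N), QuotientGroup.mk y} : Set (G ⧸ N))) := by
    apply Subgroup.isMulCommutative_closure
    intro u hu v hv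
    rcases hu with rfl | rfl <;> rcases hv with rfl | rfl
    · rfl
    · exact hab
    · exact hab.symm
    · rfl
  have h2 : (QuotientGroup.mk a : G ⧸ N) * QuotientGroup.mk b
      = QuotientGroup.mk b * QuotientGroup.mk a :=
    setLike_mul_comm
      (s := Subgroup.closure ({(QuotientGroup.mk x : G ⧸ N), QuotientGroup.mk y} : Set (G ⧸ N)))
      (by rw [htop]; trivial) (by rw [htop]; trivial)
  rw [← QuotientGroup.eq_one_iff, QuotientGroup.mk_mul, QuotientGroup.mk_mul, QuotientGroup.mk_mul,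
    h2, QuotientGroup.mk_inv, QuotientGroup.mk_inv]
  group

/-- [R2a] the rank-two group C(p,n), n ≥ 4: proper subgroups containing the centre -/
theorem cpn_large {G : Type*} [Group G] [Finite G] {p : ℕ} [Fact p.Prime] (hp : p ≠ 2) (n : ℕ)
    (hn : 4 ≤ n) (hG : Nat.card G = p ^ n) (x y z : G)
    (hgen : Subgroup.closure ({x, y, z} : Set G) = ⊤) (hx : x ^ p = 1) (hy : y ^ p = 1)
    (hz : z ^ p ^ (n - 2) = 1) (hxz : x * z = z * x) (hyz : y * z = z * y)
    (hxy : x⁻¹ * y * x = y * z ^ p ^ (n - 3)) (E : Subgroup G) (hE : Subgroup.center G ≤ E)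
    (hne : E ≠ ⊤) :
    z ^ p ≠ 1 ∧ z ∈ E ∧ IsMulCommutative E ∧ ∃ e : G, E = Subgroup.closure {z, e} := by
  have hpp : p.Prime := Fact.out
  have hp0 : 0 < p := hpp.pos
  have hp1 : 1 < p := hpp.one_lt
  have hzc : ∀ g : G, g * z = z * g := by
    apply central_of_gen _ hgen
    intro a ha
    rcases ha with rfl | rfl | rfl
    · exact hxz
    · exact hyz
    · rfl
  have hzcen : z ∈ Subgroup.center G := Subgroup.mem_center_iff.mpr hzc
  have hzE : z ∈ E := hE hzcen
  have hN : (Subgroup.zpowers z).Normal := normal_zpowers_of_central z hzc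
  have hxyN : y⁻¹ * x⁻¹ * y * x ∈ Subgroup.zpowers z := by
    have : y⁻¹ * x⁻¹ * y * x = z ^ p ^ (n - 3) := by
      rw [mul_assoc, mul_assoc, ← mul_assoc x⁻¹, hxy]; group
    rw [this]
    exact Subgroup.pow_mem _ (Subgroup.mem_zpowers z) _
  obtain ⟨hab, htop⟩ := quot_data (Subgroup.zpowers z) x y z hgen (Subgroup.mem_zpowers z) hxyN
  have hap : (QuotientGroup.mk x : G ⧸ Subgroup.zpowers z) ^ p = 1 := by
    rw [← QuotientGroup.mk_pow, hx]; rfl
  have hbp : (QuotientGroup.mk y : G ⧸ Subgroup.zpowers z) ^ p = 1 := by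
    rw [← QuotientGroup.mk_pow, hy]; rfl
  have hQle : Nat.card (G ⧸ Subgroup.zpowers z) ≤ p * p :=
    TwoGen.card_le_of_closure_eq_top _ _ hab p p hp0 hp0 hap hbp htop
  have hmul := Subgroup.card_eq_card_quotient_mul_card_subgroup (Subgroup.zpowers z)
  rw [Nat.card_zpowers, hG] at hmul
  obtain ⟨k, hk, hord⟩ := (Nat.dvd_prime_pow hpp).mp (orderOf_dvd_of_pow_eq_one hz)
  -- the order of `z` is exactly `p ^ (n - 2)`
  have hkn : k = n - 2 := by
    have h1 : p ^ n ≤ p ^ (k + 2) := by
      calc p ^ n = Nat.card (G ⧸ Subgroup.zpowers z) * orderOf z := hmul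
        _ ≤ p * p * p ^ k := by rw [hord]; exact Nat.mul_le_mul_right _ hQle
        _ = p ^ (k + 2) := by ring
    have h2 : n ≤ k + 2 := (Nat.pow_le_pow_iff_right hp1).mp h1
    omega
  subst hkn
  have hQ : Nat.card (G ⧸ Subgroup.zpowers z) = p ^ 2 := by
    have h1 : p ^ n = p ^ 2 * p ^ (n - 2) := by
      rw [← pow_add]; congr 1; omega
    rw [hord, h1] at hmul
    exact (Nat.eq_of_mul_eq_mul_right (pow_pos hp0 _) hmul).symm
  have hzp : z ^ p ≠ 1 := by
    intro h
    have h1 : p ^ (n - 2) ∣ p ^ 1 := by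
      rw [← hord, pow_one]; exact orderOf_dvd_of_pow_eq_one h
    have h2 := (Nat.pow_dvd_pow_iff_le_right hp1).mp h1
    omega
  have hNE : Subgroup.zpowers z ≤ E := by
    rw [Subgroup.zpowers_le]; exact hzE
  -- the image of `E` in the quotient
  have hE' : E.map (QuotientGroup.mk' (Subgroup.zpowers z)) ≠ ⊤ := by
    intro h
    apply hne
    rw [eq_top_iff]
    intro g _
    have hg : (QuotientGroup.mk' (Subgroup.zpowers z)) g ∈
        E.map (QuotientGroup.mk' (Subgroup.zpowers z)) := by rw [h]; trivial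
    obtain ⟨e, he, hge⟩ := Subgroup.mem_map.mp hg
    have h1 : e⁻¹ * g ∈ Subgroup.zpowers z := by
      have h2 : (QuotientGroup.mk e : G ⧸ Subgroup.zpowers z) = QuotientGroup.mk g := hge
      exact QuotientGroup.eq.mp h2
    have h3 : g = e * (e⁻¹ * g) := by group
    rw [h3]
    exact E.mul_mem he (hNE h1)
  have hfinQ : Finite (G ⧸ Subgroup.zpowers z) := inferInstance
  have hdvd : Nat.card (E.map (QuotientGroup.mk' (Subgroup.zpowers z))) ∣ p := by
    have h1 := Subgroup.card_subgroup_dvd_card (E.map (QuotientGroup.mk' (Subgroup.zpowers z)))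
    rw [hQ] at h1
    obtain ⟨j, hj, hcard⟩ := (Nat.dvd_prime_pow hpp).mp h1
    have hj2 : j ≠ 2 := by
      intro hj2
      apply hE'
      apply Subgroup.eq_top_of_card_eq
      rw [hcard, hj2, hQ]
    rw [hcard]
    have hj1 : j ≤ 1 := by omega
    calc p ^ j ∣ p ^ 1 := pow_dvd_pow p hj1
      _ = p := pow_one p
  have hcyc : IsCyclic (E.map (QuotientGroup.mk' (Subgroup.zpowers z))) :=
    isCyclic_of_card_dvd_prime hdvd
  obtain ⟨e0, he0⟩ := hcyc.exists_generator
  obtain ⟨e, heE, hee0⟩ := Subgroup.mem_map.mp e0.2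
  have hEcl : E = Subgroup.closure {z, e} := by
    apply le_antisymm
    · intro g hg
      have hgm : (QuotientGroup.mk' (Subgroup.zpowers z)) g ∈
          E.map (QuotientGroup.mk' (Subgroup.zpowers z)) := Subgroup.mem_map_of_mem _ hg
      obtain ⟨k, hk⟩ := Subgroup.mem_zpowers_iff.mp (he0 ⟨_, hgm⟩)
      have hk' : (QuotientGroup.mk (e ^ k) : G ⧸ Subgroup.zpowers z) = QuotientGroup.mk g := by
        have h1 := congrArg Subtype.val hk
        rw [Subgroup.coe_zpow] at h1
        rw [QuotientGroup.mk_zpow]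
        rw [← hee0] at h1
        exact h1
      have h2 : (e ^ k)⁻¹ * g ∈ Subgroup.zpowers z := QuotientGroup.eq.mp hk'
      obtain ⟨l, hl⟩ := Subgroup.mem_zpowers_iff.mp h2
      have h3 : g = e ^ k * z ^ l := by rw [hl]; group
      rw [h3]
      exact Subgroup.mul_mem _
        (Subgroup.zpow_mem _ (Subgroup.subset_closure (by simp)) k)
        (Subgroup.zpow_mem _ (Subgroup.subset_closure (by simp)) l)
    · rw [Subgroup.closure_le]
      intro g hg
      rcases hg with rfl | rfl
      · exact hzE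
      · exact heE
  refine ⟨hzp, hzE, ?_, e, hEcl⟩
  rw [hEcl]
  apply Subgroup.isMulCommutative_closure
  intro u hu v hv
  rcases hu with rfl | rfl <;> rcases hv with rfl | rfl
  · rfl
  · exact (hzc v).symm
  · exact hzc u
  · rfl

end Cfsg.Agent.Lib.Helper69.Cpn
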