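import Mathlib
import Cfsg.Agent.Lib.Helper69.Cpn

/-!
# The group `C(p,3)` has exponent `p` (helper69; piece R2b of S5289)
-/

namespace Cfsg.Agent.Lib.Helper69.Cpn3

open Cfsg.Agent.Lib.Helper69

/-- moving `a` across a power of `b` when the commutator `c` is central -/
theorem pow_mul_comm_central {G : Type*} [Group G] (a b c : G) (hc : ∀ g : G, g * c = c * g)
    (h : b * a = a * b * c) (k : ℕ) : b ^ k * a = a * b ^ k * c ^ k := by
  induction k with
  | zero => simp
  | succ k ih =>
    calc b ^ (k + 1) * a = b * (b ^ k * a) := by rw [pow_succ']; group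
      _ = b * (a * b ^ k * c ^ k) := by rw [ih]
      _ = (b * a) * b ^ k * c ^ k := by group
      _ = a * b * c * b ^ k * c ^ k := by rw [h]
      _ = a * b * (c * b ^ k) * c ^ k := by group
      _ = a * b * (b ^ k * c) * c ^ k := by rw [hc (b ^ k)]
      _ = a * (b * b ^ k) * (c * c ^ k) := by group
      _ = a * b ^ (k + 1) * c ^ (k + 1) := by rw [← pow_succ', ← pow_succ']

/-- the power of a product in class two: `(a b)^n = a^n b^n c^(n choose 2)` -/
theorem mul_pow_central {G : Type*} [Group G] (a b c : G) (hc : ∀ g : G, g * c = c * g)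
    (h : b * a = a * b * c) (n : ℕ) : (a * b) ^ n = a ^ n * b ^ n * c ^ (n.choose 2) := by
  induction n with
  | zero => simp
  | succ n ih =>
    have h1 := pow_mul_comm_central a b c hc h n
    have hcn : ∀ (m : ℕ) (g : G), c ^ m * g = g * c ^ m :=
      fun m g => ((Commute.pow_right (hc g) m).eq).symm
    have hch : (n + 1).choose 2 = n + n.choose 2 := by
      rw [Nat.choose_succ_succ' n 1, Nat.choose_one_right]
    calc (a * b) ^ (n + 1) = (a * b) ^ n * (a * b) := pow_succ _ _
      _ = a ^ n * b ^ n * c ^ (n.choose 2) * (a * b) := by rw [ih]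
      _ = a ^ n * b ^ n * (c ^ (n.choose 2) * (a * b)) := by group
      _ = a ^ n * b ^ n * ((a * b) * c ^ (n.choose 2)) := by rw [hcn (n.choose 2) (a * b)]
      _ = a ^ n * (b ^ n * a) * b * c ^ (n.choose 2) := by group
      _ = a ^ n * (a * b ^ n * c ^ n) * b * c ^ (n.choose 2) := by rw [h1]
      _ = a ^ n * a * b ^ n * (c ^ n * b) * c ^ (n.choose 2) := by group
      _ = a ^ n * a * b ^ n * (b * c ^ n) * c ^ (n.choose 2) := by rw [hcn n b]
      _ = (a ^ n * a) * (b ^ n * b) * (c ^ n * c ^ (n.choose 2)) := by group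
      _ = a ^ (n + 1) * b ^ (n + 1) * c ^ ((n + 1).choose 2) := by
        rw [← pow_succ, ← pow_succ, ← pow_add, hch]

/-- in a group whose commutators are central, the product of two elements of odd prime order `p`
has `p`-th power one -/
theorem mul_pow_eq_one {G : Type*} [Group G] {p : ℕ} [Fact p.Prime] (hp : p ≠ 2)
    (hcomm : ∀ a b g : G, g * (a * b * a⁻¹ * b⁻¹) = (a * b * a⁻¹ * b⁻¹) * g) (a b : G)
    (ha : a ^ p = 1) (hb : b ^ p = 1) : (a * b) ^ p = 1 := by
  have hpp : p.Prime := Fact.out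
  have hc : ∀ g : G, g * (b⁻¹ * a⁻¹ * b * a) = (b⁻¹ * a⁻¹ * b * a) * g := by
    intro g
    have := hcomm b⁻¹ a⁻¹ g
    simpa using this
  have h : b * a = a * b * (b⁻¹ * a⁻¹ * b * a) := by group
  have h1 := pow_mul_comm_central a b _ hc h p
  rw [hb, one_mul, mul_one] at h1
  have hcp : (b⁻¹ * a⁻¹ * b * a) ^ p = 1 := by
    have := congrArg (fun t => a⁻¹ * t) h1
    simpa using this.symm
  have h2 := mul_pow_central a b _ hc h p
  rw [ha, hb, one_mul, one_mul] at h2
  have hdvd : p ∣ p.choose 2 := by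
    apply hpp.dvd_choose_self (by norm_num)
    have := hpp.two_le
    omega
  obtain ⟨m, hm⟩ := hdvd
  rw [h2, hm, pow_mul, hcp, one_pow]

/-- [R2b] C(p,3) has exponent p -/
theorem cpn_three {G : Type*} [Group G] [Finite G] {p : ℕ} [Fact p.Prime] (hp : p ≠ 2)
    (hG : Nat.card G = p ^ 3) (x y z : G)
    (hgen : Subgroup.closure ({x, y, z} : Set G) = ⊤) (hx : x ^ p = 1) (hy : y ^ p = 1)
    (hz : z ^ p ^ (3 - 2) = 1) (hxz : x * z = z * x) (hyz : y * z = z * y)
    (hxy : x⁻¹ * y * x = y * z ^ p ^ (3 - 3)) : Monoid.exponent G = p := by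
  have hpp : p.Prime := Fact.out
  have hzp : z ^ p = 1 := by simpa using hz
  have hzc : ∀ g : G, g * z = z * g := by
    apply Cpn.central_of_gen _ hgen
    intro a ha
    rcases ha with rfl | rfl | rfl
    · exact hxz
    · exact hyz
    · rfl
  have hN : (Subgroup.zpowers z).Normal := Cpn.normal_zpowers_of_central z hzc
  have hxyN : y⁻¹ * x⁻¹ * y * x ∈ Subgroup.zpowers z := by
    have : y⁻¹ * x⁻¹ * y * x = z := by
      rw [mul_assoc, mul_assoc, ← mul_assoc x⁻¹, hxy]; simp
    rw [this]
    exact Subgroup.mem_zpowers z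
  have hcomm : ∀ a b g : G, g * (a * b * a⁻¹ * b⁻¹) = (a * b * a⁻¹ * b⁻¹) * g := by
    intro a b g
    have hm := Cpn.comm_mem (Subgroup.zpowers z) x y z hgen (Subgroup.mem_zpowers z) hxyN a b
    obtain ⟨k, hk⟩ := Subgroup.mem_zpowers_iff.mp hm
    rw [← hk]
    exact (Commute.zpow_right (hzc g) k).eq
  have hall : ∀ g : G, g ^ p = 1 := by
    intro g
    have hg : g ∈ Subgroup.closure ({x, y, z} : Set G) := by rw [hgen]; trivial
    induction hg using Subgroup.closure_induction with
    | mem g hg =>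
      rcases hg with rfl | rfl | rfl
      · exact hx
      · exact hy
      · exact hzp
    | one => exact one_pow p
    | mul a b _ _ iha ihb => exact mul_pow_eq_one hp hcomm a b iha ihb
    | inv a _ iha => rw [inv_pow, iha, inv_one]
  have hdvd : Monoid.exponent G ∣ p := Monoid.exponent_dvd_of_forall_pow_eq_one hall
  rcases (Nat.dvd_prime hpp).mp hdvd with h1 | h1
  · exfalso
    have hsub : Subsingleton G := Monoid.exp_eq_one_iff.mp h1
    have hc1 : Nat.card G = 1 := Nat.card_of_subsingleton 1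
    rw [hG] at hc1
    have := hpp.one_lt
    have h3 : 1 < p ^ 3 := Nat.one_lt_pow (by norm_num) this
    omega
  · exact h1

end Cfsg.Agent.Lib.Helper69.Cpn3
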