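import Mathlib
import Cfsg.Agent.Lib.Helper69.TwoGen

/-!
# Frattini quotient of a two-generated abelian `p`-group (helper69; piece R8 of S5289)
-/

namespace Cfsg.Agent.Lib.Helper69.FratTwo

open Cfsg.Agent.Lib.Helper69

/-- in a commutative `p`-group every `p`-th power lies in every maximal subgroup -/
theorem pow_mem_of_isCoatom {A : Type*} [Group A] [IsMulCommutative A] {p : ℕ} [Fact p.Prime]
    (hA : IsPGroup p A) (M : Subgroup A) (hM : IsCoatom M) (g : A) : g ^ p ∈ M := by
  by_contra hg
  have hlt : M < M ⊔ Subgroup.zpowers (g ^ p) := by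
    refine lt_of_le_of_ne le_sup_left ?_
    intro h
    apply hg
    have : Subgroup.zpowers (g ^ p) ≤ M := by
      rw [h]; exact le_sup_right
    exact this (Subgroup.mem_zpowers _)
  have htop := hM.2 _ hlt
  have hgmem : g ∈ (↑(M ⊔ Subgroup.zpowers (g ^ p)) : Set A) := by
    rw [htop]; trivial
  rw [Subgroup.mul_normal] at hgmem
  obtain ⟨m, hm, w, hw, hmw⟩ := Set.mem_mul.mp hgmem
  obtain ⟨k, hk⟩ := Subgroup.mem_zpowers_iff.mp hw
  obtain ⟨t, ht⟩ := hA g
  -- m = g ^ (1 - p * k)
  have hm' : m = g ^ (1 - (p : ℤ) * k) := by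
    have h1 : w = g ^ ((p : ℤ) * k) := by
      rw [← hk, zpow_mul, zpow_natCast]
    have h2 : m = g * w⁻¹ := by rw [← hmw]; group
    rw [h2, h1, zpow_sub, zpow_one]
  obtain ⟨r, s, hrs⟩ : IsCoprime (1 - (p : ℤ) * k) ((p : ℤ) ^ t) :=
    IsCoprime.pow_right ⟨1, k, by ring⟩
  have hgM : g ∈ M := by
    have h3 : g = (g ^ (1 - (p : ℤ) * k)) ^ r * (g ^ ((p : ℤ) ^ t)) ^ s := by
      rw [← zpow_mul, ← zpow_mul, ← zpow_add]
      have : (1 - (p : ℤ) * k) * r + (p : ℤ) ^ t * s = 1 := by linarith
      rw [this, zpow_one]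
    have h4 : g ^ ((p : ℤ) ^ t) = 1 := by
      have : ((p : ℤ) ^ t) = ((p ^ t : ℕ) : ℤ) := by push_cast; rfl
      rw [this, zpow_natCast, ht]
    rw [h3, h4, one_zpow, mul_one, ← hm']
    exact M.zpow_mem hm r
  exact hg (M.pow_mem hgM p)

/-- in a commutative `p`-group every `p`-th power lies in the Frattini subgroup -/
theorem pow_mem_frattini {A : Type*} [Group A] [IsMulCommutative A] {p : ℕ} [Fact p.Prime]
    (hA : IsPGroup p A) (g : A) : g ^ p ∈ frattini A := by
  unfold frattini Order.radical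
  simp only [Subgroup.mem_iInf]
  intro M hM
  exact pow_mem_of_isCoatom hA M hM g

/-- [R8] a two-generated abelian `p`-group has Frattini quotient of order at most `p ^ 2` -/
theorem frattini_index_le {G : Type*} [Group G] (A : Subgroup G) [Finite A] {p : ℕ}
    [Fact p.Prime] (hA : IsPGroup p A) (hab : IsMulCommutative ↥A) (u v : G)
    (h : A = Subgroup.closure {u, v}) : (frattini ↥A).index ≤ p ^ 2 := by
  have hp : 0 < p := (Fact.out : p.Prime).pos
  have huA : u ∈ A := by rw [h]; exact Subgroup.subset_closure (by simp)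
  have hvA : v ∈ A := by rw [h]; exact Subgroup.subset_closure (by simp)
  -- the pair generates `A` as a group of its own
  have hgenA : Subgroup.closure ({⟨u, huA⟩, ⟨v, hvA⟩} : Set ↥A) = ⊤ := by
    rw [eq_top_iff]
    rintro ⟨g, hg⟩ -
    have hg' : g ∈ Subgroup.closure ({u, v} : Set G) := h ▸ hg
    have key : ∀ (g : G) (hg' : g ∈ Subgroup.closure ({u, v} : Set G)),
        ∀ hgA : g ∈ A, (⟨g, hgA⟩ : ↥A) ∈ Subgroup.closure ({⟨u, huA⟩, ⟨v, hvA⟩} : Set ↥A) := by
      intro g hg'
      induction hg' using Subgroup.closure_induction with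
      | mem g hg =>
        intro hgA
        apply Subgroup.subset_closure
        rcases hg with rfl | rfl
        · exact Or.inl rfl
        · exact Or.inr rfl
      | one => intro _; exact Subgroup.one_mem _
      | mul a b ha hb iha ihb =>
        intro hgA
        have haA : a ∈ A := h ▸ ha
        have hbA : b ∈ A := h ▸ hb
        exact Subgroup.mul_mem _ (iha haA) (ihb hbA)
      | inv a ha iha =>
        intro hgA
        have haA : a ∈ A := h ▸ ha
        exact Subgroup.inv_mem _ (iha haA)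
    exact key g hg' hg
  have hnorm : (frattini ↥A).Normal := inferInstance
  set a : ↥A ⧸ frattini ↥A := QuotientGroup.mk ⟨u, huA⟩ with ha_def
  set b : ↥A ⧸ frattini ↥A := QuotientGroup.mk ⟨v, hvA⟩ with hb_def
  have hcomm : a * b = b * a := by
    rw [ha_def, hb_def, ← QuotientGroup.mk_mul, ← QuotientGroup.mk_mul]
    congr 1
    exact hab.is_comm.comm _ _
  have hap : a ^ p = 1 := by
    rw [ha_def, ← QuotientGroup.mk_pow, QuotientGroup.eq_one_iff]
    exact pow_mem_frattini hA _
  have hbp : b ^ p = 1 := by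
    rw [hb_def, ← QuotientGroup.mk_pow, QuotientGroup.eq_one_iff]
    exact pow_mem_frattini hA _
  have hgenQ : Subgroup.closure ({a, b} : Set (↥A ⧸ frattini ↥A)) = ⊤ := by
    have := TwoGen.closure_map_eq_top (QuotientGroup.mk' (frattini ↥A))
      (QuotientGroup.mk'_surjective _) _ hgenA
    rwa [Set.image_pair] at this
  have hcard := TwoGen.card_le_of_closure_eq_top a b hcomm p p hp hp hap hbp hgenQ
  rw [Subgroup.index_eq_card, pow_two]
  exact hcard

end Cfsg.Agent.Lib.Helper69.FratTwo
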