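import Mathlib

/-!
# The subgroup `Z(S)⟨x⟩` for cyclic centre (helper69; piece R6b of S5289)
-/

namespace Cfsg.Agent.Lib.Helper69.TypeH

/-- [R6b] the subgroup `Z(S)⟨x⟩` when `Z(S)` is cyclic -/
theorem typeH_data {Ω : Type*} [Group Ω] {S : Subgroup Ω} [Finite S]
    (hcyc : IsCyclic (Subgroup.center ↥S)) (x : Ω) (hxS : x ∈ S)
    (P : Subgroup Ω)
    (hP : P = (S ⊓ Subgroup.centralizer (S : Set Ω)) ⊔ Subgroup.zpowers x) :
    IsMulCommutative ↥P ∧ ∃ c : Ω, P = Subgroup.closure {c, x} := by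
  obtain ⟨c0, hc0⟩ := hcyc.exists_generator
  have hcS : ((c0 : ↥S) : Ω) ∈ S := (c0 : ↥S).2
  have hcC : ((c0 : ↥S) : Ω) ∈ Subgroup.centralizer (S : Set Ω) := by
    rw [Subgroup.mem_centralizer_iff]
    intro h hh
    have := Subgroup.mem_center_iff.mp c0.2 ⟨h, hh⟩
    exact congrArg Subtype.val this
  have hZ : S ⊓ Subgroup.centralizer (S : Set Ω) = Subgroup.zpowers ((c0 : ↥S) : Ω) := by
    apply le_antisymm
    · rintro g ⟨hgS, hgC⟩
      have hgc : (⟨g, hgS⟩ : ↥S) ∈ Subgroup.center ↥S := by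
        rw [Subgroup.mem_center_iff]
        intro h
        have := (Subgroup.mem_centralizer_iff.mp hgC) h.1 h.2
        exact Subtype.ext this
      obtain ⟨k, hk⟩ := Subgroup.mem_zpowers_iff.mp (hc0 ⟨_, hgc⟩)
      refine Subgroup.mem_zpowers_iff.mpr ⟨k, ?_⟩
      have := congrArg (fun z : Subgroup.center ↥S => ((z : ↥S) : Ω)) hk
      simpa using this
    · rw [Subgroup.zpowers_le]
      exact ⟨hcS, hcC⟩
  have hPc : P = Subgroup.closure {((c0 : ↥S) : Ω), x} := by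
    rw [hP, hZ, Set.insert_eq, Subgroup.closure_union, ← Subgroup.zpowers_eq_closure,
      ← Subgroup.zpowers_eq_closure]
  have hcx : ((c0 : ↥S) : Ω) * x = x * ((c0 : ↥S) : Ω) :=
    ((Subgroup.mem_centralizer_iff.mp hcC) x hxS).symm
  refine ⟨?_, _, hPc⟩
  rw [hPc]
  apply Subgroup.isMulCommutative_closure
  intro a ha b hb
  rcases ha with rfl | rfl <;> rcases hb with rfl | rfl
  · rfl
  · exact hcx
  · exact hcx.symm
  · rfl

end Cfsg.Agent.Lib.Helper69.TypeH
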