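import Mathlib
import Cfsg.Agent.Lib.Helper14.TC3Stmt
import Cfsg.Agent.Lib.Helper3.TDFrob

/-!
# S4460 piece W2 (call of helper14): Isaacs 12.4

`FSec K N p`, `ψ ∈ Irr(N)` with `ψ_K` irreducible: some `β ψ` (`β` a linear character of `N/K`) has
inertia group `N`, so `G` has an irreducible character of degree `[G:N] ψ(1)`.
Adapted from `Cfsg.Agent.Lib.Helper3.TDFrob.frobenius_section`.
-/

set_option autoImplicit false

namespace Cfsg.Agent.Lib.Helper69.TC3W2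

open Cfsg Cfsg.Agent.Lib.Helper80.Integrality Cfsg.Agent.Lib.Helper80.Restrict
open Cfsg.Agent.Lib.CT.Wedderburn Cfsg.Agent.Lib.CT.Orth
open Cfsg.Agent.Lib.CT.FrobRec Cfsg.Agent.Lib.CT.IndChar
open Cfsg.Agent.Lib.CT.Clifford Cfsg.Agent.Lib.CT.LinChar
open Cfsg.Agent.Lib.Helper3.TDBasic
open Cfsg.Agent.Lib.Helper78.CliffordCorr
open Cfsg.Agent.Lib.Helper14
open scoped ComplexConjugate
open scoped commutatorElement

universe u

theorem main : TC3Stmt.W2.{u} := by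
  intro G _ _ K N p hF ψ₀ hθirr0
  obtain ⟨hKn, hp, hNn, hKN, hcommN, hNtop, hpN, hrel, hlt, hab, hfree⟩ := hF
  classical
  have := Fintype.ofFinite G
  have : Fintype N := Fintype.ofFinite N
  have := hNn
  set K' : Subgroup N := K.subgroupOf N with hK'
  have hK'n : K'.Normal := hKn.subgroupOf N
  have : Fintype K' := Fintype.ofFinite _
  have hK'idx : K'.index = K.relIndex N := rfl
  have hcf : ∀ (β : N → ℂ), IsClassFunction N β → ∀ g : G, g ∈ N →
      ∀ n : N, β ⟨g * n * g⁻¹, hNn.conj_mem (n : G) n.2 g⟩ = β n := by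
    intro β hβ g hg n
    have h := hβ n ⟨g, hg⟩
    have e : (⟨g * n * g⁻¹, hNn.conj_mem (n : G) n.2 g⟩ : N) = ⟨g, hg⟩ * n * ⟨g, hg⟩⁻¹ :=
      Subtype.ext (by simp)
    rw [e]
    exact h
  -- linear characters killing K and invariant under some g ∉ N are trivial
  have hkill : ∀ (β : N → ℂ), IsCharacter N β → β 1 = 1 → (∀ k : N, (k : G) ∈ K → β k = 1) →
      ∀ g : G, g ∉ N → (∀ n : N, β ⟨g * n * g⁻¹, hNn.conj_mem (n : G) n.2 g⟩ = β n) →
      ∀ n : N, β n = 1 := by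
    intro β hβ hβ1 hβK g hg hinv n
    obtain ⟨x, hx, k, hk, hn⟩ := hfree g hg n n.2
    have e : n = (⟨g * x * g⁻¹, hNn.conj_mem x hx g⟩ : N) * (⟨x, hx⟩ : N)⁻¹ * ⟨k, hKN hk⟩ :=
      Subtype.ext (by simpa using hn)
    have h1 := hinv ⟨x, hx⟩
    rw [e, linear_mul hβ hβ1, linear_mul hβ hβ1, linear_inv hβ hβ1, h1, hβK ⟨k, hKN hk⟩ hk, mul_one,
      mul_inv_cancel₀ (linear_ne_zero hβ hβ1 _)]
  -- a nontrivial linear character of N trivial on K
  by_contra hno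
  set θ : K' → ℂ := fun k => (ψ₀ : N → ℂ) k with hθdef
  have hθirr : IsIrrCharacter K' θ := hθirr0
  have := finite_irrCharacter N
  have := Fintype.ofFinite (IrrCharacter N)
  have hone0 : IsIrrCharacter K' (fun _ => (1 : ℂ)) := Cfsg.Agent.Lib.CT.Ops.isIrrCharacter_one
  have e10 : (fun k : K' => (fun _ : K' => (1 : ℂ)) k * (ψ₀ : N → ℂ) k) = θ := by
    funext k
    simp [hθdef]
  have hprod0 : IsIrrCharacter K' (fun k : K' => (fun _ : K' => (1 : ℂ)) k * (ψ₀ : N → ℂ) k) := by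
    rw [e10]
    exact hθirr
  obtain ⟨-, -, hG30⟩ := Cfsg.Agent.Lib.Helper78.Gallagher.gallagher_core K' hK'n
    (fun _ => (1 : ℂ)) hone0 (fun _ _ => rfl) (ψ₀ : N → ℂ) ψ₀.2 hprod0
  have hover : ∀ ψ : IrrCharacter N, classInner (indFun K' θ) (ψ : N → ℂ) ≠ 0 →
      ∀ k : K', (ψ : N → ℂ) k = θ k := by
    intro ψ hc k
    have hc2 : classInner (indFun K' (fun k : K' => (fun _ : K' => (1 : ℂ)) k * (ψ₀ : N → ℂ) k))
        (ψ : N → ℂ) ≠ 0 := by
      rw [e10]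
      exact hc
    obtain ⟨β, hβ1, hβ2⟩ := hG30 ψ hc2
    have hΦ : IsCharacter N (indFun K' (fun _ : K' => (1 : ℂ))) :=
      isCharacter_indFun K' _ (isCharacter_of_irr hone0)
    have hΦk : ∀ k : K', indFun K' (fun _ : K' => (1 : ℂ)) (k : N) =
        indFun K' (fun _ : K' => (1 : ℂ)) 1 := by
      intro k
      rw [indFun_apply, indFun_apply]
      congr 1
      apply Finset.sum_congr rfl
      intro x _
      have h1 : x⁻¹ * (k : N) * x ∈ K' := by
        have := hK'n.conj_mem k k.2 x⁻¹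
        rwa [inv_inv] at this
      have h2 : x⁻¹ * (1 : N) * x ∈ K' := by simp
      rw [extendByZero_apply_of_mem K' _ h1, extendByZero_apply_of_mem K' _ h2]
    have hβk : ∀ k : K', (β : N → ℂ) k = (β : N → ℂ) 1 := fun k =>
      Cfsg.Agent.Lib.Helper3.MGroup.constituent_apply_eq hΦ β.2 hβ1 (hΦk k)
    have hβdeg : (β : N → ℂ) 1 = 1 := by
      apply Cfsg.Agent.Lib.Helper3.MGroup.apply_one_eq_one_of_comm β.2
      intro a b
      have hmem : ⁅a, b⁆ ∈ K' := by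
        rw [hK', Subgroup.mem_subgroupOf, commutatorElement_def]
        have := hab (a⁻¹ : N) (inv_mem a.2) (b⁻¹ : N) (inv_mem b.2)
        simpa [mul_assoc] using this
      exact hβk ⟨_, hmem⟩
    have b := congrFun hβ2 k
    rw [Pi.mul_apply, hβk k, hβdeg, one_mul] at b
    rw [← b]
  let S : Finset (IrrCharacter N) :=
    Finset.univ.filter (fun ψ => ∀ k : K', (ψ : N → ℂ) k = θ k)
  have hSmem : ∀ ψ : IrrCharacter N, ψ ∈ S ↔ ∀ k : K', (ψ : N → ℂ) k = θ k := by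
    intro ψ
    simp [S]
  have hdegS : ∀ ψ ∈ S, charDegree (ψ : N → ℂ) = charDegree θ := by
    intro ψ hψ
    have h := (hSmem ψ).1 hψ 1
    show ⌊((ψ : N → ℂ) 1).re⌋₊ = ⌊(θ 1).re⌋₊
    rw [← h]
    rfl
  have hθpos : 0 < charDegree θ := charDegree_pos ⟨θ, hθirr⟩
  have hScard : S.card = K'.index := by
    have hind : IsCharacter N (indFun K' θ) :=
      isCharacter_indFun K' θ (isCharacter_of_irr hθirr)
    obtain ⟨mm, hmm1, -, hmm3, -⟩ := exists_mult hind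
    have hmmval : ∀ ψ : IrrCharacter N, mm ψ = if ψ ∈ S then 1 else 0 := by
      intro ψ
      have h1 := hmm1 ψ
      by_cases hψS : ψ ∈ S
      · rw [if_pos hψS]
        rw [frobenius_reciprocity K' θ (ψ : N → ℂ) (irr_isClassFunction ψ)] at h1
        have e2 : (fun k : K' => (ψ : N → ℂ) k) = θ := funext ((hSmem ψ).1 hψS)
        rw [e2, Cfsg.Agent.Lib.CT.NormOne.inner_self_eq_one_of_irr hθirr] at h1
        exact_mod_cast h1.symm
      · rw [if_neg hψS]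
        by_contra hne
        apply hψS
        rw [hSmem]
        apply hover ψ
        rw [h1]
        exact_mod_cast hne
    rw [Cfsg.Agent.Lib.Helper80.IndDeg.charDegree_indFun K' θ (isCharacter_of_irr hθirr)] at hmm3
    have hsum : ∑ ψ : IrrCharacter N, mm ψ * charDegree (ψ : N → ℂ) = S.card * charDegree θ := by
      have h1 : ∀ ψ : IrrCharacter N, mm ψ * charDegree (ψ : N → ℂ) =
          if ψ ∈ S then charDegree θ else 0 := by
        intro ψ
        rw [hmmval ψ]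
        by_cases hψS : ψ ∈ S
        · rw [if_pos hψS, if_pos hψS, one_mul, hdegS ψ hψS]
        · rw [if_neg hψS, if_neg hψS, zero_mul]
      rw [Finset.sum_congr rfl (fun ψ _ => h1 ψ), Finset.sum_ite_mem, Finset.univ_inter,
        Finset.sum_const, smul_eq_mul]
    rw [hsum] at hmm3
    exact (Nat.eq_of_mul_eq_mul_right hθpos hmm3).symm
  have hdθ : charDegree θ = charDegree (ψ₀ : N → ℂ) := rfl
  -- each ψ ∈ S is fixed by some element outside N
  have hout : ∀ ψ : IrrCharacter N, ψ ∈ S → ∃ g : G, g ∉ N ∧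
      ∀ n : N, (ψ : N → ℂ) ⟨g * n * g⁻¹, hNn.conj_mem (n : G) n.2 g⟩ = (ψ : N → ℂ) n := by
    intro ψ hψS
    by_contra hcon2
    push Not at hcon2
    have hT' : ∀ g : G, g ∈ N ↔
        ∀ n : N, (ψ : N → ℂ) ⟨g * n * g⁻¹, hNn.conj_mem (n : G) n.2 g⟩ = (ψ : N → ℂ) n := by
      intro g
      constructor
      · intro hg n
        exact hcf _ (irr_isClassFunction ψ) g hg n
      · intro hinv
        by_contra hg
        obtain ⟨n, hn⟩ := hcon2 g hg
        exact hn (hinv n)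
    obtain ⟨χ, hcon, -, -⟩ := exists_over N ψ
    obtain ⟨ψ', e, hψ', -, he0, -, hψH, hdeg⟩ :=
      clifford_corr N hNn (ψ : N → ℂ) ψ.2 N hT' le_rfl (χ : G → ℂ) χ.2 hcon
    have he1 : e = 1 := by
      have h2 : ψ' = (e : ℂ) • (ψ : N → ℂ) := by
        funext n
        have h3 := hψH n
        simpa using h3
      have h1 : classInner ψ' (ψ : N → ℂ) = e := by
        rw [h2, Cfsg.Agent.Lib.CT.Orth.classInner_smul_left,
          Cfsg.Agent.Lib.CT.NormOne.inner_self_eq_one_of_irr ψ.2, mul_one]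
      have h3 := Cfsg.Agent.Lib.Helper3.Irr.irr_orthonormal (⟨ψ', hψ'⟩ : IrrCharacter N) ψ
      simp only at h3
      rw [h1] at h3
      by_cases h4 : (⟨ψ', hψ'⟩ : IrrCharacter N) = ψ
      · rw [if_pos h4] at h3
        exact_mod_cast h3
      · rw [if_neg h4] at h3
        exact absurd (by exact_mod_cast h3) he0
    apply hno
    refine ⟨χ, ?_⟩
    rw [hdeg, he1, hdegS ψ hψS, hdθ]
    ring
  choose! gsel hgsel using hout
  have claim : ∀ ψ₁ ψ₂ : IrrCharacter N, ψ₁ ∈ S → ψ₂ ∈ S → ∀ g : G, g ∉ N →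
      (∀ n : N, (ψ₁ : N → ℂ) ⟨g * n * g⁻¹, hNn.conj_mem (n : G) n.2 g⟩ = (ψ₁ : N → ℂ) n) →
      (∀ n : N, (ψ₂ : N → ℂ) ⟨g * n * g⁻¹, hNn.conj_mem (n : G) n.2 g⟩ = (ψ₂ : N → ℂ) n) →
      ψ₁ = ψ₂ := by
    intro ψ₁ ψ₂ h₁ h₂ g hgN hf₁ hf₂
    have hr₁ := (hSmem ψ₁).1 h₁
    have hr₂ := (hSmem ψ₂).1 h₂
    have hone : IsIrrCharacter K' (fun _ => (1 : ℂ)) := Cfsg.Agent.Lib.CT.Ops.isIrrCharacter_one
    have e1 : (fun k : K' => (fun _ : K' => (1 : ℂ)) k * (ψ₁ : N → ℂ) k) = θ := by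
      funext k
      simp [hr₁ k]
    have hprod : IsIrrCharacter K' (fun k : K' => (fun _ : K' => (1 : ℂ)) k * (ψ₁ : N → ℂ) k) := by
      rw [e1]
      exact hθirr
    obtain ⟨-, hG2, hG3⟩ := Cfsg.Agent.Lib.Helper78.Gallagher.gallagher_core K' hK'n
      (fun _ => (1 : ℂ)) hone (fun _ _ => rfl) (ψ₁ : N → ℂ) ψ₁.2 hprod
    have hc2 : classInner (indFun K' (fun k : K' => (fun _ : K' => (1 : ℂ)) k * (ψ₁ : N → ℂ) k))
        (ψ₂ : N → ℂ) ≠ 0 := by
      rw [frobenius_reciprocity K' _ (ψ₂ : N → ℂ) (irr_isClassFunction ψ₂)]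
      have e2 : (fun k : K' => (ψ₂ : N → ℂ) k) = θ := funext hr₂
      rw [e1, e2, Cfsg.Agent.Lib.CT.NormOne.inner_self_eq_one_of_irr hθirr]
      exact one_ne_zero
    obtain ⟨β, hβ1, hβ2⟩ := hG3 ψ₂ hc2
    have hβdeg : (β : N → ℂ) 1 = 1 := by
      have h := congrFun hβ2 1
      rw [Pi.mul_apply] at h
      have h1' : (ψ₂ : N → ℂ) 1 = (ψ₁ : N → ℂ) 1 := by
        have a := hr₁ 1
        have b := hr₂ 1
        simp only [Subgroup.coe_one] at a b
        rw [a, b]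
      rw [h1'] at h
      have hne : (ψ₁ : N → ℂ) 1 ≠ 0 :=
        Cfsg.Agent.Lib.Helper3.Irr.IsIrrCharacter.apply_one_ne_zero ψ₁.2
      exact mul_right_cancel₀ hne (by rw [h, one_mul])
    have hβc : IsCharacter N (β : N → ℂ) := isCharacter_of_irr β.2
    have hβK : ∀ k : N, (k : G) ∈ K → (β : N → ℂ) k = 1 := by
      have hβ1' := hβ1
      rw [frobenius_reciprocity K' _ (β : N → ℂ) (irr_isClassFunction β)] at hβ1'
      have hβres : IsIrrCharacter K' (fun k : K' => (β : N → ℂ) k) :=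
        isIrrCharacter_of_linear (Cfsg.Agent.Lib.CT.Ops.isCharacter_restrict K' hβc)
          (by simpa using hβdeg)
      have h := Cfsg.Agent.Lib.Helper3.Irr.irr_orthonormal
        (⟨fun _ => 1, hone⟩ : IrrCharacter K') ⟨_, hβres⟩
      simp only at h
      rw [h] at hβ1'
      by_cases heq : (⟨fun _ => 1, hone⟩ : IrrCharacter K') = ⟨_, hβres⟩
      · intro k hk
        have h3 := congrFun (congrArg Subtype.val heq) ⟨k, by
          rw [hK', Subgroup.mem_subgroupOf]; exact hk⟩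
        exact h3.symm
      · rw [if_neg heq] at hβ1'
        exact absurd rfl hβ1'
    set β' : N → ℂ := conjFun N hNn (β : N → ℂ) g with hβ'
    have hβ'irr : IsIrrCharacter N β' := isIrrCharacter_conjFun N hNn β.2 g
    have hβ'K : ∀ k : K', β' k = 1 := by
      intro k
      rw [hβ', conjFun_apply]
      exact hβK _ (hKn.conj_mem _ (Subgroup.mem_subgroupOf.1 k.2) g)
    have hβ'1 : classInner (indFun K' (fun _ => (1 : ℂ))) β' ≠ 0 := by
      rw [frobenius_reciprocity K' _ β' (char_isClassFunction (isCharacter_of_irr hβ'irr))]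
      have e : (fun k : K' => β' k) = fun _ => (1 : ℂ) := funext hβ'K
      rw [e, Cfsg.Agent.Lib.CT.NormOne.inner_self_eq_one_of_irr hone]
      exact one_ne_zero
    have hmul : (β' : N → ℂ) * (ψ₁ : N → ℂ) = (β : N → ℂ) * (ψ₁ : N → ℂ) := by
      funext n
      rw [Pi.mul_apply, Pi.mul_apply, hβ', conjFun_apply]
      have a := congrFun hβ2 ⟨g * n * g⁻¹, hNn.conj_mem n n.2 g⟩
      have b := congrFun hβ2 n
      rw [Pi.mul_apply] at a b
      rw [← hf₁ n, a, hf₂ n, ← b, hf₁ n]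
    have hββ' : (⟨β', hβ'irr⟩ : IrrCharacter N) = β := hG2 ⟨β', hβ'irr⟩ β hβ'1 hβ1 hmul
    have hβinv : ∀ n : N, (β : N → ℂ) ⟨g * n * g⁻¹, hNn.conj_mem (n : G) n.2 g⟩ =
        (β : N → ℂ) n := by
      intro n
      have h := congrFun (congrArg Subtype.val hββ') n
      exact h
    have hβone := hkill (β : N → ℂ) hβc hβdeg hβK g hgN hβinv
    apply Subtype.ext
    funext n
    have b := congrFun hβ2 n
    rw [Pi.mul_apply, hβone n, one_mul] at b
    exact b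
  have hinj : ∀ ψ₁ ∈ S, ∀ ψ₂ ∈ S, (gsel ψ₁ : G ⧸ N) = (gsel ψ₂ : G ⧸ N) → ψ₁ = ψ₂ := by
    intro ψ₁ h₁ ψ₂ h₂ hq
    have hgN : gsel ψ₂ ∉ N := (hgsel ψ₂ h₂).1
    have hfix₂ := (hgsel ψ₂ h₂).2
    have hfix₁ : ∀ n : N, (ψ₁ : N → ℂ)
        ⟨gsel ψ₂ * n * (gsel ψ₂)⁻¹, hNn.conj_mem (n : G) n.2 (gsel ψ₂)⟩ = (ψ₁ : N → ℂ) n := by
      have h1 : gsel ψ₁ ∈ inertia N hNn (ψ₁ : N → ℂ) :=
        (mem_inertia N hNn _ _).2 (hgsel ψ₁ h₁).2
      have h2 : (gsel ψ₁)⁻¹ * gsel ψ₂ ∈ N := QuotientGroup.eq.1 hq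
      have h3 : (gsel ψ₁)⁻¹ * gsel ψ₂ ∈ inertia N hNn (ψ₁ : N → ℂ) :=
        le_inertia N hNn (irr_isClassFunction ψ₁) h2
      have h4 := Subgroup.mul_mem _ h1 h3
      rw [mul_inv_cancel_left] at h4
      exact (mem_inertia N hNn _ _).1 h4
    exact claim ψ₁ ψ₂ h₁ h₂ (gsel ψ₂) hgN hfix₁ hfix₂
  have := Fintype.ofFinite (G ⧸ N)
  have hcount : S.card ≤ N.index - 1 := by
    have h1 : (S.image (fun ψ => (gsel ψ : G ⧸ N))).card = S.card :=
      Finset.card_image_of_injOn (fun ψ₁ h₁ ψ₂ h₂ h => hinj ψ₁ h₁ ψ₂ h₂ h)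
    have h2 : S.image (fun ψ => (gsel ψ : G ⧸ N)) ⊆ Finset.univ.erase (1 : G ⧸ N) := by
      intro q hq
      obtain ⟨ψ, hψ, rfl⟩ := Finset.mem_image.1 hq
      rw [Finset.mem_erase]
      refine ⟨?_, Finset.mem_univ _⟩
      intro h
      exact (hgsel ψ hψ).1 ((QuotientGroup.eq_one_iff _).1 h)
    have h3 := Finset.card_le_card h2
    rw [h1, Finset.card_erase_of_mem (Finset.mem_univ _), Finset.card_univ,
      ← Nat.card_eq_fintype_card, ← Subgroup.index_eq_card] at h3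
    exact h3
  rw [hScard, hK'idx] at hcount
  omega

end Cfsg.Agent.Lib.Helper69.TC3W2
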