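import Mathlib
import Cfsg.Agent.Lib.Helper16.BRStmt
import Cfsg.Agent.Lib.Helper16.ZR
import Cfsg.Agent.Lib.Helper17.BrTop
import Cfsg.Agent.Lib.Helper17.ExcSimple
import Cfsg.Agent.Lib.Helper17.Sylow2
import Cfsg.Agent.Lib.Helper80.Integrality
import Cfsg.Agent.Lib.CT.Knorr
import Cfsg.Agent.S0154

/-!
Brauer–Reynolds, piece [T1]: `|N_G(P) : C_G(P)| = p - 1` does not occur in a perfect group of
order `< p ^ 3`.
-/

set_option autoImplicit false
set_option linter.style.haveILetI false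

namespace Cfsg.Agent.Lib.Helper69.BRT1

open Cfsg Subgroup
open Cfsg.Agent.Lib.CT.Orth Cfsg.Agent.Lib.CT.Wedderburn
open Cfsg.Agent.Lib.Helper17.ExcMain Cfsg.Agent.Lib.Helper17.ExcCor
open Cfsg.Agent.Lib.Helper17.Sylow Cfsg.Agent.Lib.Helper17.Sylow2

universe u

/-- Divisors of `p ^ 2 - 1` congruent to `1` modulo `p` (`p = q + 1`). -/
theorem arith_pos (q f g : ℕ) (hq : 1 ≤ q) (hfg : f * g = q * (q + 2))
    (hf : (q + 1) ∣ f + q) : f = 1 ∨ f = q + 2 := by
  have hf0 : f ≠ 0 := by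
    rintro rfl
    rw [zero_mul] at hfg
    have : 0 < q * (q + 2) := by positivity
    omega
  obtain ⟨m, hm⟩ := hf
  obtain ⟨k, rfl⟩ : ∃ k, m = k + 1 := by
    refine ⟨m - 1, ?_⟩
    rcases m with _ | m
    · rw [mul_zero] at hm
      omega
    · rfl
  have hfk : f = (q + 1) * k + 1 := by
    have e : (q + 1) * (k + 1) = (q + 1) * k + 1 + q := by ring
    omega
  subst hfk
  -- `(q + 1) ∣ g + 1`
  have h1 : (q + 1) * k * g + (g + 1) = (q + 1) * (q + 1) := by
    have e : ((q + 1) * k + 1) * g = (q + 1) * k * g + g := by ring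
    have e2 : (q + 1) * (q + 1) = q * (q + 2) + 1 := by ring
    omega
  have h2 : (q + 1) ∣ g + 1 := by
    have h3 : (q + 1) ∣ (q + 1) * k * g + (g + 1) := h1 ▸ dvd_mul_right (q + 1) (q + 1)
    exact (Nat.dvd_add_right ⟨k * g, by ring⟩).mp h3
  obtain ⟨j, hj⟩ := h2
  obtain ⟨j', rfl⟩ : ∃ j', j = j' + 1 := by
    refine ⟨j - 1, ?_⟩
    rcases j with _ | j
    · rw [mul_zero] at hj
      omega
    · rfl
  have hg : g = (q + 1) * j' + q := by
    have e : (q + 1) * (j' + 1) = (q + 1) * j' + q + 1 := by ring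
    omega
  subst hg
  rcases k with _ | k'
  · left
    simp
  · right
    have e : ((q + 1) * (k' + 1) + 1) * ((q + 1) * j' + q)
        = q * (q + 2) + ((q + 1) * k' * ((q + 1) * j' + q) + (q + 2) * (q + 1) * j') := by ring
    rw [e] at hfg
    have h0 : (q + 1) * k' * ((q + 1) * j' + q) + (q + 2) * (q + 1) * j' = 0 := by omega
    have h4 : (q + 1) * k' * ((q + 1) * j' + q) = 0 := (Nat.add_eq_zero_iff.mp h0).1
    have hk0 : k' = 0 := by
      rcases Nat.mul_eq_zero.mp h4 with h5 | h5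
      · rcases Nat.mul_eq_zero.mp h5 with h6 | h6
        · omega
        · exact h6
      · omega
    subst hk0
    ring

/-- Divisors of `p ^ 2 - 1` congruent to `-1` modulo `p` (`p = q + 1`). -/
theorem arith_neg (q f g : ℕ) (hq : 1 ≤ q) (hfg : f * g = q * (q + 2))
    (hf : (q + 1) ∣ f + 1) : f = q ∨ g = 1 := by
  have hg0 : g ≠ 0 := by
    rintro rfl
    rw [mul_zero] at hfg
    have : 0 < q * (q + 2) := by positivity
    omega
  obtain ⟨m, hm⟩ := hf
  obtain ⟨k, rfl⟩ : ∃ k, m = k + 1 := by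
    refine ⟨m - 1, ?_⟩
    rcases m with _ | m
    · rw [mul_zero] at hm
      omega
    · rfl
  have hfk : f = (q + 1) * k + q := by
    have e : (q + 1) * (k + 1) = (q + 1) * k + q + 1 := by ring
    omega
  subst hfk
  obtain ⟨g', rfl⟩ : ∃ g', g = g' + 1 := ⟨g - 1, by omega⟩
  have h1 : (q + 1) * k * (g' + 1) + q * g' = q * (q + 1) := by
    have e : ((q + 1) * k + q) * (g' + 1) = (q + 1) * k * (g' + 1) + q * g' + q := by ring
    have e2 : q * (q + 2) = q * (q + 1) + q := by ring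
    omega
  have h2 : (q + 1) ∣ q * g' := by
    have h3 : (q + 1) ∣ (q + 1) * k * (g' + 1) + q * g' := h1 ▸ dvd_mul_left (q + 1) q
    exact (Nat.dvd_add_right ⟨k * (g' + 1), by ring⟩).mp h3
  have hcop : Nat.Coprime (q + 1) q := by
    rw [Nat.coprime_comm]
    exact (Nat.coprime_self_add_right (n := 1) (m := q)).mpr (Nat.coprime_one_right q)
  have h4 : (q + 1) ∣ g' := hcop.dvd_of_dvd_mul_left h2
  obtain ⟨j, rfl⟩ := h4
  rcases j with _ | j'
  · right
    simp
  · left
    have e : (q + 1) * k * ((q + 1) * (j' + 1) + 1) + q * ((q + 1) * (j' + 1))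
        = q * (q + 1) + ((q + 1) * k * ((q + 1) * (j' + 1) + 1) + q * (q + 1) * j') := by ring
    rw [e] at h1
    have h0 : (q + 1) * k * ((q + 1) * (j' + 1) + 1) + q * (q + 1) * j' = 0 := by omega
    have h5 : (q + 1) * k * ((q + 1) * (j' + 1) + 1) = 0 := (Nat.add_eq_zero_iff.mp h0).1
    have hk0 : k = 0 := by
      rcases Nat.mul_eq_zero.mp h5 with h6 | h6
      · rcases Nat.mul_eq_zero.mp h6 with h7 | h7
        · omega
        · exact h7
      · omega
    subst hk0
    ring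

/-- A divisor `d ≠ 1` of `p (p - 1) (p + 1)` with `d ≡ ± 1` modulo `p` is even (`p` odd). -/
theorem even_deg {q d : ℕ} (hq : 1 ≤ q) (hqe : Even q) (hd : d ∣ (q + 1) * q * (q + 2))
    (s : ℤ) (hs : s = 1 ∨ s = -1) (hmod : (d : ℤ) ≡ s [ZMOD ((q + 1 : ℕ) : ℤ)])
    (hd1 : d ≠ 1) : Even d := by
  obtain ⟨k, hk⟩ := hmod.dvd
  have hcop : Nat.Coprime d (q + 1) := by
    rw [← Nat.isCoprime_iff_coprime]
    rcases hs with rfl | rfl
    · exact ⟨1, k, by linarith⟩
    · exact ⟨-1, -k, by linarith⟩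
  have hd2 : d ∣ q * (q + 2) := by
    have e : (q + 1) * q * (q + 2) = (q + 1) * (q * (q + 2)) := by ring
    rw [e] at hd
    exact hcop.dvd_of_dvd_mul_left hd
  obtain ⟨g, hg⟩ := hd2
  obtain ⟨r, hr⟩ := hqe
  rcases hs with rfl | rfl
  · have h1 : ((q + 1 : ℕ) : ℤ) ∣ ((d + q : ℕ) : ℤ) := by
      refine ⟨1 - k, ?_⟩
      push_cast at hk ⊢
      linarith
    have h2 : (q + 1) ∣ d + q := Int.natCast_dvd_natCast.mp h1
    rcases arith_pos q d g hq hg.symm h2 with h3 | h3
    · exact absurd h3 hd1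
    · rw [h3]
      exact ⟨r + 1, by omega⟩
  · have h1 : ((q + 1 : ℕ) : ℤ) ∣ ((d + 1 : ℕ) : ℤ) := by
      refine ⟨-k, ?_⟩
      push_cast at hk ⊢
      linarith
    have h2 : (q + 1) ∣ d + 1 := Int.natCast_dvd_natCast.mp h1
    rcases arith_neg q d g hq hg.symm h2 with h3 | h3
    · rw [h3]
      exact ⟨r, hr⟩
    · rw [h3, mul_one] at hg
      rw [← hg, hr]
      exact ⟨r * (r + r + 2), by ring⟩

/-- The order of the group. -/
theorem order_arith (q c m : ℕ) (hq : 2 ≤ q) (hc : 1 ≤ c) (hm : m % (q + 1) = 1) (hm1 : m ≠ 1)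
    (hlt : (q + 1) * c * q * m < (q + 1) ^ 3) : c = 1 ∧ m = q + 2 := by
  have hmn := Nat.div_add_mod m (q + 1)
  rw [hm] at hmn
  generalize m / (q + 1) = n at hmn
  have hn1 : 1 ≤ n := by
    by_contra h0
    have : n = 0 := by omega
    rw [this, mul_zero] at hmn
    omega
  have hlt2 : c * q * m < (q + 1) ^ 2 := by
    have e1 : (q + 1) * c * q * m = (q + 1) * (c * q * m) := by ring
    have e2 : (q + 1) ^ 3 = (q + 1) * (q + 1) ^ 2 := by ring
    rw [e1, e2] at hlt
    exact Nat.lt_of_mul_lt_mul_left hlt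
  have hmge : q + 2 ≤ m := by nlinarith
  have hc1 : c = 1 := by
    by_contra hne
    have hc2 : 2 ≤ c := by omega
    have h1 : 2 * q * (q + 2) ≤ c * q * m :=
      Nat.mul_le_mul (Nat.mul_le_mul hc2 le_rfl) hmge
    nlinarith
  subst hc1
  refine ⟨rfl, ?_⟩
  have hn2 : n = 1 := by
    by_contra hne
    have hn2 : 2 ≤ n := by omega
    have h1 : 2 * q + 3 ≤ m := by nlinarith
    have h2 : q * (2 * q + 3) ≤ q * m := Nat.mul_le_mul le_rfl h1
    nlinarith
  rw [hn2] at hmn
  omega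

/-- In a perfect group a normal cyclic subgroup is central. -/
theorem centralizer_eq_top_of_normal {G : Type u} [Group G]
    (hperf : _root_.commutator G = ⊤) (P : Subgroup G) [P.Normal] (hcyc : IsCyclic P) :
    centralizer (P : Set G) = ⊤ := by
  let f : G →* (ZMod (Nat.card P))ˣ :=
    (hcyc.mulAutMulEquiv).toMonoidHom.comp (MulAut.conjNormal (H := P))
  have hk : f.ker = ⊤ := by
    have h1 := Abelianization.commutator_subset_ker f
    rw [hperf] at h1
    exact top_le_iff.mp h1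
  rw [eq_top_iff]
  intro g _
  have hg : f g = 1 := by
    have h1 : g ∈ f.ker := by rw [hk]; trivial
    exact MonoidHom.mem_ker.mp h1
  have hg' : MulAut.conjNormal (H := P) g = 1 := by
    apply hcyc.mulAutMulEquiv.injective
    rw [map_one]
    exact hg
  rw [mem_centralizer_iff]
  intro h hh
  have h1 : ((MulAut.conjNormal (H := P) g ⟨h, hh⟩ : P) : G) = h := by
    rw [hg']
    rfl
  rw [MulAut.conjNormal_apply] at h1
  have h2 : g * h = g * h * g⁻¹ * g := by group
  rw [h2, h1]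

/-- In a perfect group the only linear character is the trivial one. -/
theorem charDegree_ne_one_of_perfect {G : Type u} [Group G] [Finite G]
    (hperf : _root_.commutator G = ⊤) (χ : IrrCharacter G) (hχ : χ ≠ trivIrr G) :
    charDegree (χ : G → ℂ) ≠ 1 := by
  intro h
  have h1 := Cfsg.Agent.S0154.result (G := G)
  rw [hperf, index_top] at h1
  have hsub : Subsingleton {χ : Cfsg.IrrCharacter G // (χ : G → ℂ) 1 = 1} :=
    (Nat.card_eq_one_iff_unique.mp h1).1
  have e1 : (χ : G → ℂ) 1 = 1 := by rw [deg_eq, h]; norm_num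
  have e2 : ((trivIrr G : IrrCharacter G) : G → ℂ) 1 = 1 := trivIrr_apply G 1
  have := hsub.elim ⟨χ, e1⟩ ⟨trivIrr G, e2⟩
  exact hχ (congrArg Subtype.val this)

/-- [T1]. -/
theorem main : Cfsg.Agent.Lib.Helper16.BRStmt.TNeOne.{u} := by
  intro G _ _ hperf p _ hp3 P hP hlt he
  classical
  haveI : Fintype G := Fintype.ofFinite G
  have : Finite (IrrCharacter G) := finite_irrCharacter G
  haveI : Fintype (IrrCharacter G) := Fintype.ofFinite _
  have hp : p.Prime := Fact.out
  obtain ⟨q, rfl⟩ : ∃ q, p = q + 1 := ⟨p - 1, by omega⟩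
  have hq2 : 2 ≤ q := by omega
  have hqe : Even q := by
    rcases hp.eq_two_or_odd' with h2 | hodd
    · omega
    · obtain ⟨r, hr⟩ := hodd
      exact ⟨r, by omega⟩
  have he' : (centralizer ((P : Subgroup G) : Set G)).relIndex
      (normalizer ((P : Subgroup G) : Set G)) = q := by
    rw [he]
    omega
  -- the order of `G`
  have hPC : (P : Subgroup G) ≤ centralizer ((P : Subgroup G) : Set G) :=
    le_centralizer_of_card_prime (P : Subgroup G) hP
  have hCN : centralizer ((P : Subgroup G) : Set G) ≤ normalizer ((P : Subgroup G) : Set G) :=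
    Subgroup.centralizer_le_normalizer (s := ((P : Subgroup G) : Set G))
  have h1 := card_mul_relIndex hCN
  rw [he'] at h1
  have h2 := card_normalizer_mul_card_sylow P
  have h3 := card_sylow_mod (G := G) (q + 1)
  obtain ⟨c, hc⟩ : (q + 1) ∣ Nat.card (centralizer ((P : Subgroup G) : Set G)) := by
    have := Subgroup.card_dvd_of_le hPC
    rwa [hP] at this
  have hc1 : 1 ≤ c := by
    have hpos : 0 < Nat.card (centralizer ((P : Subgroup G) : Set G)) := Nat.card_pos
    rw [hc] at hpos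
    rcases c with _ | c
    · simp at hpos
    · omega
  have hne1 : Nat.card (Sylow (q + 1) G) ≠ 1 := by
    intro h0
    rw [P.card_eq_index_normalizer] at h0
    have htop : normalizer ((P : Subgroup G) : Set G) = ⊤ := index_eq_one.mp h0
    haveI : (P : Subgroup G).Normal := normalizer_eq_top_iff.mp htop
    have hcyc : IsCyclic (P : Subgroup G) := isCyclic_of_prime_card hP
    have hct := centralizer_eq_top_of_normal hperf (P : Subgroup G) hcyc
    rw [hct, Subgroup.relIndex_top_left] at he'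
    omega
  have hord := order_arith q c (Nat.card (Sylow (q + 1) G)) hq2 hc1 h3 hne1 (by
    have e : (q + 1) * c * q * Nat.card (Sylow (q + 1) G) = Nat.card G := by
      rw [← h2, ← h1, hc]
    rw [e]
    exact hlt)
  obtain ⟨hc1', hnp⟩ := hord
  subst hc1'
  have hGcard : Nat.card G = (q + 1) * q * (q + 2) := by
    rw [← h2, ← h1, hc, hnp, mul_one]
  -- the principal block
  obtain ⟨M, hM⟩ := Cfsg.Agent.Lib.CT.Knorr.exists_isPModular (q + 1) hp
  have hMp : M.IsPrime := hM.2.1.isPrime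
  obtain ⟨X, Y, hB, hdisj, hXc, hYc, εX, ε, hX, hε, hYdeg, hYagree, hYsum⟩ :=
    Cfsg.Agent.Lib.Helper17.BrTop.main (q + 1) M hM P hP q he'
  obtain ⟨XF, hmemX⟩ : ∃ XF : Finset (IrrCharacter G), ∀ χ, χ ∈ XF ↔ χ ∈ X :=
    ⟨Finset.univ.filter (fun χ => χ ∈ X), fun χ => by simp⟩
  have hXeq : X = (XF : Set (IrrCharacter G)) := by
    ext χ
    simp [hmemX]
  have hfinsum : ∀ F : IrrCharacter G → ℂ, ∑ᶠ χ ∈ X, F χ = ∑ χ ∈ XF, F χ := by
    intro F
    rw [hXeq, finsum_mem_coe_finset]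
  have hT : ∀ g : G, ((trivIrr G : IrrCharacter G) : G → ℂ) g = 1 := trivIrr_apply G
  have hdegT : charDegree ((trivIrr G : IrrCharacter G) : G → ℂ) = 1 := by
    have h1 := deg_eq (trivIrr G)
    rw [hT 1] at h1
    exact_mod_cast h1.symm
  have htrivB : trivIrr G ∈ principalBlock M G := by
    have h1 := Cfsg.Agent.Lib.Helper16.ZR.mem_blockOf_self hMp (trivIrr G)
    have h2 : ((trivIrr G : IrrCharacter G) : G → ℂ) = fun _ => 1 := funext hT
    rw [h2] at h1
    exact h1
  have hreg1 : ¬ (q + 1) ∣ orderOf (1 : G) := by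
    rw [orderOf_one]
    intro hdv
    have := Nat.le_of_dvd (by norm_num) hdv
    omega
  have hdvd : ∀ χ : IrrCharacter G, charDegree (χ : G → ℂ) ∣ (q + 1) * q * (q + 2) := fun χ =>
    hGcard ▸ Cfsg.Agent.Lib.Helper80.Integrality.charDegree_dvd_card χ
  -- nontrivial characters of the principal block have even degree
  have hXeven : ∀ χ ∈ X, χ ≠ trivIrr G → Even (charDegree (χ : G → ℂ)) := by
    intro χ hχ hχT
    obtain ⟨hs, hmod, -⟩ := hX χ hχ
    exact even_deg (by omega) hqe (hdvd χ) (εX χ) hs hmod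
      (charDegree_ne_one_of_perfect hperf χ hχT)
  have hYeven : ∀ θ ∈ Y, θ ≠ trivIrr G → Even (charDegree (θ : G → ℂ)) := by
    intro θ hθ hθT
    have hmod := hYdeg θ hθ
    have hmod' : (charDegree (θ : G → ℂ) : ℤ) ≡ -ε [ZMOD ((q + 1 : ℕ) : ℤ)] := by
      refine hmod.trans ?_
      rw [Int.modEq_iff_dvd]
      refine ⟨-ε, ?_⟩
      push_cast
      ring
    have hs : -ε = 1 ∨ -ε = -1 := by
      rcases hε with h | h
      · right; rw [h]
      · left; rw [h]; norm_num
    exact even_deg (by omega) hqe (hdvd θ) (-ε) hs hmod'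
      (charDegree_ne_one_of_perfect hperf θ hθT)
  -- `Y` is nonempty
  have hYne : ∃ θ, θ ∈ Y := by
    have h5 : Nat.card Y = 1 := by
      rw [hYc]
      have e : q + 1 - 1 = q := by omega
      rw [e]
      exact Nat.div_self (by omega)
    have hne : Nonempty Y := (Nat.card_eq_one_iff_unique.mp h5).2
    obtain ⟨θ, hθ⟩ := hne
    exact ⟨θ, hθ⟩
  -- the degree equation over `ℤ`
  have hsumZ : ∀ θ ∈ Y, ε * (charDegree (θ : G → ℂ) : ℤ)
      = ∑ χ ∈ XF, εX χ * (charDegree (χ : G → ℂ) : ℤ) := by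
    intro θ hθ
    have h5 := hYsum θ hθ 1 hreg1
    rw [hfinsum, deg_eq θ] at h5
    have h6 : ((ε * (charDegree (θ : G → ℂ) : ℤ) : ℤ) : ℂ)
        = ((∑ χ ∈ XF, εX χ * (charDegree (χ : G → ℂ) : ℤ) : ℤ) : ℂ) := by
      push_cast
      rw [h5]
      refine Finset.sum_congr rfl (fun χ _ => ?_)
      rw [deg_eq χ]
    exact_mod_cast h6
  have htB := htrivB
  rw [hB] at htB
  rcases htB with htX | htY
  · -- the trivial character in `X`
    obtain ⟨θ, hθ⟩ := hYne
    have hθT : θ ≠ trivIrr G := by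
      rintro rfl
      exact (Set.disjoint_left.mp hdisj) htX hθ
    have h5 := hsumZ θ hθ
    have htXF : trivIrr G ∈ XF := (hmemX _).mpr htX
    rw [← Finset.add_sum_erase XF _ htXF, hdegT] at h5
    have h6 : Even (∑ χ ∈ XF.erase (trivIrr G), εX χ * (charDegree (χ : G → ℂ) : ℤ)) := by
      apply Finset.even_sum
      intro χ hχ
      have h7 := hXeven χ ((hmemX χ).mp (Finset.mem_of_mem_erase hχ)) (Finset.ne_of_mem_erase hχ)
      exact Even.mul_left (by exact_mod_cast h7) _
    obtain ⟨a, ha⟩ := h6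
    obtain ⟨b, hb⟩ := hYeven θ hθ hθT
    rw [ha, hb] at h5
    push_cast at h5
    obtain ⟨hs, -, -⟩ := hX (trivIrr G) htX
    rcases hs with hs | hs <;> rcases hε with h8 | h8 <;> rw [hs, h8] at h5 <;> omega
  · -- the trivial character in `Y`
    have h5 := hsumZ (trivIrr G) htY
    rw [hdegT] at h5
    have h6 : Even (∑ χ ∈ XF, εX χ * (charDegree (χ : G → ℂ) : ℤ)) := by
      apply Finset.even_sum
      intro χ hχ
      have hχX := (hmemX χ).mp hχ
      have hχT : χ ≠ trivIrr G := by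
        rintro rfl
        exact (Set.disjoint_left.mp hdisj) hχX htY
      have h7 := hXeven χ hχX hχT
      exact Even.mul_left (by exact_mod_cast h7) _
    obtain ⟨a, ha⟩ := h6
    rw [ha] at h5
    rcases hε with h8 | h8 <;> rw [h8] at h5 <;> omega

end Cfsg.Agent.Lib.Helper69.BRT1
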