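import Mathlib
import Cfsg.Prelude.Def_Characters

/-!
Determinant trick: in a perfect group, the value of a character at an element `s` with
`s * s = 1` is congruent to the degree modulo `4`.
-/

set_option autoImplicit false

namespace Cfsg.Agent.Lib.Helper69.InvDet

open Cfsg Polynomial

universe u

/-- Sum and product of a multiset of signs. -/
theorem multiset_pm (R : Multiset ℂ) (h : ∀ x ∈ R, x = 1 ∨ x = -1) :
    ∃ k : ℕ, R.prod = (-1) ^ k ∧ R.sum = (Multiset.card R : ℂ) - 2 * k := by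
  induction R using Multiset.induction_on with
  | empty => exact ⟨0, by simp⟩
  | cons a R ih =>
    obtain ⟨k, hk1, hk2⟩ := ih (fun x hx => h x (Multiset.mem_cons_of_mem hx))
    rcases h a (Multiset.mem_cons_self a R) with rfl | rfl
    · refine ⟨k, by simp [hk1], ?_⟩
      rw [Multiset.sum_cons, hk2, Multiset.card_cons]
      push_cast
      ring
    · refine ⟨k + 1, ?_, ?_⟩
      · rw [Multiset.prod_cons, hk1, pow_succ]
        ring
      · rw [Multiset.sum_cons, hk2, Multiset.card_cons]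
        push_cast
        ring

/-- A complex matrix with `A * A = 1` and determinant `1` has trace `≡ n (mod 4)`. -/
theorem matrix_invol {n : ℕ} (A : Matrix (Fin n) (Fin n) ℂ) (hA : A * A = 1)
    (hdet : A.det = 1) : ∃ m : ℕ, A.trace = (n : ℂ) - 4 * m := by
  have hroots : ∀ r ∈ A.charpoly.roots, r = 1 ∨ r = -1 := by
    intro r hr
    have hr' : IsRoot A.charpoly r := isRoot_of_mem_roots hr
    have hs : r ∈ spectrum ℂ A := Matrix.mem_spectrum_iff_isRoot_charpoly.mpr hr'
    by_contra hne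
    push Not at hne
    have hr2 : r ^ 2 - 1 ≠ 0 := by
      intro h0
      have h1 : (r - 1) * (r + 1) = 0 := by linear_combination h0
      rcases mul_eq_zero.mp h1 with h | h
      · exact hne.1 (by linear_combination h)
      · exact hne.2 (by linear_combination h)
    apply (spectrum.mem_iff.mp hs)
    rw [Algebra.algebraMap_eq_smul_one]
    have h1 : (r • (1 : Matrix (Fin n) (Fin n) ℂ) - A) * (r • (1 : Matrix (Fin n) (Fin n) ℂ) + A)
        = (r ^ 2 - 1) • (1 : Matrix (Fin n) (Fin n) ℂ) := by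
      simp only [sub_mul, mul_add, smul_mul_assoc, mul_smul_comm, one_mul, mul_one, hA]
      module
    have h2 : (r • (1 : Matrix (Fin n) (Fin n) ℂ) + A) * (r • (1 : Matrix (Fin n) (Fin n) ℂ) - A)
        = (r ^ 2 - 1) • (1 : Matrix (Fin n) (Fin n) ℂ) := by
      simp only [add_mul, mul_sub, smul_mul_assoc, mul_smul_comm, one_mul, mul_one, hA]
      module
    refine ⟨⟨r • (1 : Matrix (Fin n) (Fin n) ℂ) - A,
      (r ^ 2 - 1)⁻¹ • (r • (1 : Matrix (Fin n) (Fin n) ℂ) + A), ?_, ?_⟩, rfl⟩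
    · rw [mul_smul_comm, h1, smul_smul, inv_mul_cancel₀ hr2, one_smul]
    · rw [smul_mul_assoc, h2, smul_smul, inv_mul_cancel₀ hr2, one_smul]
  obtain ⟨k, hk1, hk2⟩ := multiset_pm _ hroots
  have hd : (-1 : ℂ) ^ k = 1 := by
    rw [← hk1, ← Matrix.det_eq_prod_roots_charpoly, hdet]
  have hk : Even k := (neg_one_pow_eq_one_iff_even (by norm_num : (-1 : ℂ) ≠ 1)).mp hd
  obtain ⟨m, hm⟩ := hk
  have hcard : Multiset.card A.charpoly.roots = n := by
    rw [splits_iff_card_roots.mp (IsAlgClosed.splits A.charpoly), Matrix.charpoly_natDegree_eq_dim,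
      Fintype.card_fin]
  refine ⟨m, ?_⟩
  rw [Matrix.trace_eq_sum_roots_charpoly, hk2, hcard, hm]
  push_cast
  ring

/-- In a perfect group, `χ s ≡ χ 1 (mod 4)` for a character `χ` and `s * s = 1`. -/
theorem char_invol {G : Type u} [Group G] (hperf : _root_.commutator G = ⊤) {χ : G → ℂ}
    (hχ : IsCharacter G χ) (s : G) (hs : s * s = 1) : ∃ m : ℕ, χ s = χ 1 - 4 * m := by
  obtain ⟨n, ρ, rfl⟩ := hχ
  let φ : G →* ℂˣ := ((LinearMap.det : ((Fin n → ℂ) →ₗ[ℂ] (Fin n → ℂ)) →* ℂ).comp ρ).toHomUnits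
  have hker : _root_.commutator G ≤ φ.ker := Abelianization.commutator_subset_ker φ
  have hsφ : φ s = 1 := by
    have : s ∈ φ.ker := hker (hperf ▸ Subgroup.mem_top s)
    exact MonoidHom.mem_ker.mp this
  have hdet : LinearMap.det (ρ s) = 1 := by
    have h1 : ((φ s : ℂˣ) : ℂ) = LinearMap.det (ρ s) := rfl
    rw [← h1, hsφ, Units.val_one]
  have hA : LinearMap.toMatrix' (ρ s) * LinearMap.toMatrix' (ρ s) = 1 := by
    rw [← LinearMap.toMatrix'_mul, ← map_mul, hs, map_one, LinearMap.toMatrix'_one]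
  have hdet' : (LinearMap.toMatrix' (ρ s)).det = 1 := by
    rw [LinearMap.det_toMatrix', hdet]
  obtain ⟨m, hm⟩ := matrix_invol _ hA hdet'
  refine ⟨m, ?_⟩
  rw [Representation.char_one, Module.finrank_fin_fun]
  show LinearMap.trace ℂ (Fin n → ℂ) (ρ s) = _
  rw [LinearMap.trace_eq_matrix_trace ℂ (Pi.basisFun ℂ (Fin n)), LinearMap.toMatrix_eq_toMatrix', hm]

end Cfsg.Agent.Lib.Helper69.InvDet
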