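import Mathlib
import Cfsg.Agent.Lib.Helper17.ExcInv
import Cfsg.Agent.Lib.CT.IndChar
import Cfsg.Agent.Lib.CT.NormOne

/-!
Characters on a self-centralizing subgroup `P` of prime order `p` whose normalizer has order
`p (p - 1)` (the case `e = p - 1`, no exceptional characters): every irreducible character is
constant, with an integer value `c ψ`, on `P ∖ 1`; `∑ c ψ ^ 2 = p`; and
`ψ 1 ≡ c ψ (mod p)`.
-/

set_option autoImplicit false
set_option linter.style.haveILetI false

namespace Cfsg.Agent.Lib.Helper69.FullExc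

open Cfsg Subgroup
open Cfsg.Agent.Lib.CT.FrobRec Cfsg.Agent.Lib.CT.Orth Cfsg.Agent.Lib.CT.Wedderburn
open Cfsg.Agent.Lib.Helper17.ExcOrb Cfsg.Agent.Lib.Helper17.ExcMain
open Cfsg.Agent.Lib.Helper17.ExcCor
open scoped ComplexConjugate

universe u

variable {G : Type u} [Group G]

/-- An element commuting with a nonidentity element of `P` centralizes `P`. -/
theorem mem_centralizer_of_commute [Finite G] (P : Subgroup G) {p : ℕ} (hp : p.Prime)
    (hP : Nat.card P = p) (y : G) (hy : y ∈ P) (hy1 : y ≠ 1) (g : G) (hg : y * g = g * y) :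
    g ∈ centralizer (P : Set G) := by
  rw [mem_centralizer_iff]
  intro h hh
  have hh' : h ∈ zpowers y := by
    rw [zpowers_eq_of_card_prime P hp hP y hy hy1]; exact hh
  obtain ⟨i, rfl⟩ := mem_zpowers_iff.mp hh'
  exact (Commute.zpow_left (show Commute y g from hg) i).eq

/-- All nonidentity elements of `P` are conjugate. -/
theorem conj_of_mem [Fintype G] (P : Subgroup G) {p : ℕ} (hp : p.Prime) (hP : Nat.card P = p)
    (hC : centralizer (P : Set G) ≤ P) (hN : Nat.card (normalizer (P : Set G)) = p * (p - 1))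
    (y z : G) (hy : y ∈ P) (hy1 : y ≠ 1) (hz : z ∈ P) (hz1 : z ≠ 1) :
    ∃ g : G, g * y * g⁻¹ = z := by
  classical
  let Nf : Finset G := Finset.univ.filter (fun g => g ∈ normalizer (P : Set G))
  let Pf : Finset G := Finset.univ.filter (fun g => g ∈ P)
  have hNf : Nf.card = p * (p - 1) := by
    rw [← hN, Nat.card_eq_fintype_card, Fintype.card_subtype]
  have hPf : Pf.card = p := by
    rw [← hP, Nat.card_eq_fintype_card, Fintype.card_subtype]
  let f : G → G := fun g => g * y * g⁻¹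
  have himg : Nf.image f ⊆ Pf.erase 1 := by
    intro a ha
    obtain ⟨g, hg, rfl⟩ := Finset.mem_image.mp ha
    have hgN : g ∈ normalizer (P : Set G) := (Finset.mem_filter.mp hg).2
    rw [Finset.mem_erase, Finset.mem_filter]
    refine ⟨?_, Finset.mem_univ _, (mem_normalizer_iff.mp hgN y).mp hy⟩
    intro h0
    apply hy1
    have h0' : g * y * g⁻¹ = 1 := h0
    have h3 : y = g⁻¹ * (g * y * g⁻¹) * g := by group
    rw [h3, h0']
    group
  have hfib : ∀ a ∈ Nf.image f, (Nf.filter fun x => f x = a).card ≤ p := by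
    intro a ha
    obtain ⟨g₀, hg₀, rfl⟩ := Finset.mem_image.mp ha
    rw [← hPf]
    apply Finset.card_le_card_of_injOn (fun x => g₀⁻¹ * x)
    · intro x hx
      have hx' := Finset.mem_filter.mp hx
      have hxe : x * y * x⁻¹ = g₀ * y * g₀⁻¹ := hx'.2
      show g₀⁻¹ * x ∈ Pf
      rw [Finset.mem_filter]
      refine ⟨Finset.mem_univ _, hC (mem_centralizer_of_commute P hp hP y hy hy1 _ ?_)⟩
      have h1 : y * (g₀⁻¹ * x) = g₀⁻¹ * (g₀ * y * g₀⁻¹) * x := by group
      have h2 : g₀⁻¹ * x * y = g₀⁻¹ * (x * y * x⁻¹) * x := by group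
      rw [h1, h2, hxe]
    · intro a _ b _ hab
      exact mul_left_cancel hab
  have h1 := Finset.card_le_mul_card_image Nf p hfib
  rw [hNf] at h1
  have h2 : p - 1 ≤ (Nf.image f).card := Nat.le_of_mul_le_mul_left h1 hp.pos
  have h3 : (Pf.erase 1).card = p - 1 := by
    rw [Finset.card_erase_of_mem (Finset.mem_filter.mpr ⟨Finset.mem_univ _, P.one_mem⟩), hPf]
  have h4 : Nf.image f = Pf.erase 1 := Finset.eq_of_subset_of_card_le himg (by rw [h3]; exact h2)
  have hzm : z ∈ Nf.image f := by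
    rw [h4, Finset.mem_erase, Finset.mem_filter]
    exact ⟨hz1, Finset.mem_univ _, hz⟩
  obtain ⟨g, -, hg⟩ := Finset.mem_image.mp hzm
  exact ⟨g, hg⟩

/-- Irreducible characters are integer-valued and constant on `P ∖ 1`. -/
theorem exists_int [Fintype G] (P : Subgroup G) {p : ℕ} (hp : p.Prime) (hP : Nat.card P = p)
    (hC : centralizer (P : Set G) ≤ P) (hN : Nat.card (normalizer (P : Set G)) = p * (p - 1))
    (ψ : IrrCharacter G) : ∃ c : ℤ, ∀ z ∈ P, z ≠ 1 → (ψ : G → ℂ) z = (c : ℂ) := by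
  obtain ⟨y, hyP, hy1⟩ := exists_mem_ne_one P hp hP
  have hcl := irr_isClassFunction ψ
  have hord : orderOf y = p := by
    rw [← Nat.card_zpowers, zpowers_eq_of_card_prime P hp hP y hyP hy1, hP]
  obtain ⟨c, hc⟩ := Cfsg.Agent.S1508.int_of_pow_fixed (isCharacter_of_irr ψ.2) y (by
    intro m hm
    rw [hord] at hm
    have hym : y ^ m ∈ P := P.pow_mem hyP m
    have hym1 : y ^ m ≠ 1 := by
      intro h0
      have h1 : p ∣ m := hord ▸ orderOf_dvd_of_pow_eq_one h0
      exact hp.one_lt.ne' (Nat.Coprime.eq_one_of_dvd hm.symm h1)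
    obtain ⟨g, hg⟩ := conj_of_mem P hp hP hC hN y (y ^ m) hyP hy1 hym hym1
    rw [← hg]
    exact hcl y g)
  refine ⟨c, fun z hz hz1 => ?_⟩
  obtain ⟨g, hg⟩ := conj_of_mem P hp hP hC hN y z hyP hy1 hz hz1
  rw [← hg, hcl y g, hc]

/-- The case `e = p - 1`: integer values `c ψ` on `P ∖ 1`. -/
theorem full_exc [Fintype G] [Fintype (IrrCharacter G)] (P : Subgroup G) {p : ℕ} (hp : p.Prime)
    (hP : Nat.card P = p) (hC : centralizer (P : Set G) ≤ P)
    (hN : Nat.card (normalizer (P : Set G)) = p * (p - 1)) :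
    ∃ c : IrrCharacter G → ℤ,
      (∀ ψ : IrrCharacter G, ∀ z ∈ P, z ≠ 1 → (ψ : G → ℂ) z = (c ψ : ℂ)) ∧
      c (trivIrr G) = 1 ∧ ∑ ψ, c ψ ^ 2 = (p : ℤ) ∧
      ∀ ψ : IrrCharacter G, ∃ m : ℤ,
        (charDegree (ψ : G → ℂ) : ℤ) + ((p : ℤ) - 1) * c ψ = p * m := by
  classical
  choose c hc using fun ψ => exists_int P hp hP hC hN ψ
  obtain ⟨y, hyP, hy1⟩ := exists_mem_ne_one P hp hP
  refine ⟨c, hc, ?_, ?_, ?_⟩
  · have h := hc (trivIrr G) y hyP hy1
    rw [trivIrr_apply] at h
    exact_mod_cast h.symm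
  · have h := second_orthogonality_sum_of_isConj y y (IsConj.refl y)
    have hcent : centralizer ({y} : Set G) = P := by
      apply le_antisymm
      · intro g hg
        exact hC (mem_centralizer_of_commute P hp hP y hyP hy1 g
          (mem_centralizer_singleton_iff.mp hg).symm)
      · intro g hg
        rw [mem_centralizer_singleton_iff]
        exact congrArg Subtype.val (comm_of_card_prime P hp hP ⟨g, hg⟩ ⟨y, hyP⟩)
    rw [hcent, hP] at h
    have h2 : ∑ ψ : IrrCharacter G, ((c ψ ^ 2 : ℤ) : ℂ) = (p : ℂ) := by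
      rw [← h]
      refine Finset.sum_congr rfl (fun ψ _ => ?_)
      rw [hc ψ y hyP hy1]
      simp [pow_two]
    exact_mod_cast h2
  · intro ψ
    haveI : Fintype P := Fintype.ofFinite _
    have hchar : IsCharacter G (indFun P (cf (1 : P →* ℂˣ))) :=
      Cfsg.Agent.Lib.CT.IndChar.isCharacter_indFun P _ (cf_isChar 1)
    obtain ⟨m, hm, -⟩ := Cfsg.Agent.Lib.CT.NormOne.exists_mult_sum hchar
    have h1 := frobenius_reciprocity P (cf (1 : P →* ℂˣ)) (ψ : G → ℂ) (irr_isClassFunction ψ)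
    rw [hm ψ] at h1
    have h2 : ∑ h : P, cf (1 : P →* ℂˣ) h * conj ((ψ : G → ℂ) h)
        = (charDegree (ψ : G → ℂ) : ℂ) + ((p : ℂ) - 1) * (c ψ : ℂ) := by
      rw [← Finset.add_sum_erase Finset.univ _ (Finset.mem_univ (1 : P))]
      congr 1
      · rw [cf_one_apply, one_mul, OneMemClass.coe_one, irr_conj_apply_one, deg_eq]
      · have h3 : ∀ h ∈ Finset.univ.erase (1 : P),
            cf (1 : P →* ℂˣ) h * conj ((ψ : G → ℂ) h) = (c ψ : ℂ) := by
          intro h hh
          have hne : (h : G) ≠ 1 := fun h0 => (Finset.mem_erase.mp hh).1 (Subtype.ext h0)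
          rw [cf_one_apply, one_mul, hc ψ h h.2 hne]
          simp
        rw [Finset.sum_congr rfl h3, Finset.sum_const,
          Finset.card_erase_of_mem (Finset.mem_univ _), Finset.card_univ,
          ← Nat.card_eq_fintype_card, hP, nsmul_eq_mul]
        push_cast [Nat.cast_sub hp.one_lt.le]
        ring
    unfold classInner at h1
    rw [h2, hP] at h1
    refine ⟨(m ψ : ℤ), ?_⟩
    have hp0 : (p : ℂ) ≠ 0 := Nat.cast_ne_zero.mpr hp.ne_zero
    have h3 : (((charDegree (ψ : G → ℂ) : ℤ) + ((p : ℤ) - 1) * c ψ : ℤ) : ℂ)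
        = ((p * (m ψ : ℤ) : ℤ) : ℂ) := by
      push_cast
      rw [h1]
      field_simp
    exact_mod_cast h3

end Cfsg.Agent.Lib.Helper69.FullExc
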