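import Mathlib

/-!
The arithmetic of the principal `5`-block of a hypothetical simple group of order `4320` whose
Sylow `5`-normalizer is a Frobenius group of order `20`: no degrees `f i` (with signs) and
values `u i` at an involution satisfy the block orthogonality relations, the determinant
congruence modulo `4` and the class multiplication equation.
-/

set_option autoImplicit false

namespace Cfsg.Agent.Lib.Helper69.Num4320

/-- candidate (degree, sign) pairs -/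
def L : List (ℤ × ℤ) := [(4, -1), (9, -1), (24, -1), (54, -1), (6, 1), (16, 1), (36, 1)]

/-- candidate centralizer orders -/
def D : List ℤ := [1, 2, 3, 4, 5, 6, 8, 9, 10, 12, 15, 16, 18, 20, 24, 27, 30, 32, 36, 40, 45, 48,
  54, 60]

/-- candidate character values -/
def U : List ℤ := [-8, -7, -6, -5, -4, -3, -2, -1, 0, 1, 2, 3, 4, 5, 6, 7, 8]

theorem numeric : ∀ p1 ∈ L, ∀ p2 ∈ L, ∀ p3 ∈ L, ∀ p4 ∈ L,
    1 + p1.2 * p1.1 + p2.2 * p2.1 + p3.2 * p3.1 + p4.2 * p4.1 = 0 →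
    ∀ u1 ∈ U, (p1.1 - u1) % 4 = 0 → ∀ u2 ∈ U, (p2.1 - u2) % 4 = 0 →
    ∀ u3 ∈ U, (p3.1 - u3) % 4 = 0 → ∀ u4 ∈ U, (p4.1 - u4) % 4 = 0 →
    1 + p1.2 * u1 + p2.2 * u2 + p3.2 * u3 + p4.2 * u4 = 0 →
    ∀ c ∈ D, 1 + u1 * u1 + u2 * u2 + u3 * u3 + u4 * u4 ≤ c →
    5 * (c * c) * (p1.1 * p2.1 * p3.1 * p4.1) ≠
      4320 * (p1.1 * p2.1 * p3.1 * p4.1 + p1.2 * (u1 * u1) * (p2.1 * p3.1 * p4.1)
        + p2.2 * (u2 * u2) * (p1.1 * p3.1 * p4.1) + p3.2 * (u3 * u3) * (p1.1 * p2.1 * p4.1)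
        + p4.2 * (u4 * u4) * (p1.1 * p2.1 * p3.1)) := by
  decide +kernel

theorem degree_cases : ∀ f ∈ Nat.divisors 4320, f ≠ 1 → f * f < 4320 →
    (f % 5 = 1 → f = 6 ∨ f = 16 ∨ f = 36) ∧ (f % 5 = 4 → f = 4 ∨ f = 9 ∨ f = 24 ∨ f = 54) := by
  decide +kernel

theorem mem_D : ∀ c ∈ Nat.divisors 4320, c ≤ 65 → (c : ℤ) ∈ D := by
  decide +kernel

theorem mem_U (u : ℤ) (h : u * u ≤ 64) : u ∈ U := by
  have h1 : -8 ≤ u := by nlinarith
  have h2 : u ≤ 8 := by nlinarith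
  interval_cases u <;> simp [U]

theorem mem_L (f : ℕ) (ε : ℤ) (hf : f ∈ Nat.divisors 4320) (hf1 : f ≠ 1) (hff : f * f < 4320)
    (hε : ε = 1 ∨ ε = -1) (m : ℤ) (hm : (f : ℤ) + 4 * ε = 5 * m) : ((f : ℤ), ε) ∈ L := by
  obtain ⟨h1, h4⟩ := degree_cases f hf hf1 hff
  rcases hε with rfl | rfl
  · have h5 : f % 5 = 1 := by omega
    rcases h1 h5 with rfl | rfl | rfl <;> simp [L]
  · have h5 : f % 5 = 4 := by omega
    rcases h4 h5 with rfl | rfl | rfl | rfl <;> simp [L]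

end Cfsg.Agent.Lib.Helper69.Num4320
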