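import Mathlib
import Cfsg.Agent.Lib.Helper17.CentFix
import Cfsg.Agent.Lib.Helper17.Count
import Cfsg.Agent.Lib.Helper17.Classes

/-!
Counting pairs of conjugate involutions with product of order `5`: if an involution `a`
normalizes but does not centralize a Sylow `5`-subgroup of order `5`, then every element of
order `5` is a product of two conjugates of `a` in at least five ways, so
`5 * #(elements of order 5) ≤ |a^G|^2`.
-/

set_option autoImplicit false

namespace Cfsg.Agent.Lib.Helper69.PairInv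

open Subgroup MulAction
open Cfsg.Agent.Lib.Helper17.SylowConj Cfsg.Agent.Lib.Helper17.FixedPoints
open Cfsg.Agent.Lib.Helper17.Count Cfsg.Agent.Lib.Helper17.Classes

variable {G : Type*} [Group G]

/-- An involution normalizing but not centralizing `⟨x⟩`, `x` of order `5`, inverts `x`. -/
theorem inverts_of_five (x b : G) (hx : orderOf x = 5) (hb : b * b = 1)
    (hmem : b * x * b⁻¹ ∈ zpowers x) (hne : b * x * b⁻¹ ≠ x) : b * x * b⁻¹ = x⁻¹ := by
  have hx5 : x ^ 5 = 1 := hx ▸ pow_orderOf_eq_one x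
  obtain ⟨k, hk, hkx⟩ : ∃ k : ℕ, k < 5 ∧ x ^ k = b * x * b⁻¹ := by
    obtain ⟨i, hi⟩ := mem_zpowers_iff.mp hmem
    refine ⟨(i % 5).toNat, ?_, ?_⟩
    · have := Int.emod_lt_of_pos i (by norm_num : (0 : ℤ) < 5)
      have h0 := Int.emod_nonneg i (by norm_num : (5 : ℤ) ≠ 0)
      omega
    · rw [← hi, ← zpow_natCast, Int.toNat_of_nonneg (Int.emod_nonneg i (by norm_num))]
      have h1 := zpow_mod_orderOf x i
      rw [hx] at h1
      exact h1
  have hback : b * (b * x * b⁻¹) * b⁻¹ = x := by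
    have h1 : b * (b * x * b⁻¹) * b⁻¹ = (b * b) * x * (b * b)⁻¹ := by group
    rw [h1, hb]
    group
  have hpow : (x ^ k) ^ k = x := by
    have h1 : b * x ^ k * b⁻¹ = (b * x * b⁻¹) ^ k := conj_pow.symm
    rw [← hkx, h1, ← hkx] at hback
    exact hback
  have hxne : x ≠ 1 := by
    rintro rfl
    rw [orderOf_one] at hx
    omega
  interval_cases k
  · exfalso
    apply hxne
    rw [← hpow]
    simp
  · exfalso
    apply hne
    rw [← hkx, pow_one]
  · exfalso
    have h3 : x ^ 3 = 1 := by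
      have h4 : x ^ 4 = x := by
        calc x ^ 4 = (x ^ 2) ^ 2 := by group
          _ = x := hpow
      calc x ^ 3 = x ^ 4 * x⁻¹ := by group
        _ = x * x⁻¹ := by rw [h4]
        _ = 1 := mul_inv_cancel x
    have := orderOf_dvd_of_pow_eq_one h3
    rw [hx] at this
    omega
  · exfalso
    have h8 : x ^ 8 = 1 := by
      have h9 : x ^ 9 = x := by
        calc x ^ 9 = (x ^ 3) ^ 3 := by group
          _ = x := hpow
      calc x ^ 8 = x ^ 9 * x⁻¹ := by group
        _ = x * x⁻¹ := by rw [h9]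
        _ = 1 := mul_inv_cancel x
    have := orderOf_dvd_of_pow_eq_one h8
    rw [hx] at this
    omega
  · rw [← hkx]
    apply eq_inv_of_mul_eq_one_left
    rw [← pow_succ, hx5]

/-- If `x b x = b` then `x ^ n b x ^ n = b`. -/
theorem pow_mul_pow (x b : G) (h : x * b * x = b) (n : ℕ) : x ^ n * b * x ^ n = b := by
  induction n with
  | zero => simp
  | succ n ih =>
    have h1 : x ^ (n + 1) * b * x ^ (n + 1) = x * (x ^ n * b * x ^ n) * x := by
      have h2 : x * x ^ n = x ^ n * x := (pow_succ' x n).symm.trans (pow_succ x n)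
      rw [pow_succ' x n]
      nth_rewrite 2 [h2]
      simp only [mul_assoc]
    rw [h1, ih, h]

/-- If `x b x = b` and `x ^ 5 = 1`, then `b x ^ k` is conjugate to `b`. -/
theorem conj_mul_pow (x b : G) (hx5 : x ^ 5 = 1) (h : x * b * x = b) (k : ℕ) :
    ∃ g : G, g * b * g⁻¹ = b * x ^ k := by
  have hn := pow_mul_pow x b h
  refine ⟨x ^ (2 * k), ?_⟩
  have h1 := hn (2 * k)
  have h2 : (x ^ (2 * k))⁻¹ = x ^ (3 * k) := by
    apply inv_eq_of_mul_eq_one_right
    rw [← pow_add, show 2 * k + 3 * k = 5 * k by ring, pow_mul, hx5, one_pow]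
  have h3 : x ^ (2 * k) * b * (x ^ (2 * k))⁻¹
      = (x ^ (2 * k) * b * x ^ (2 * k)) * ((x ^ (2 * k))⁻¹ * (x ^ (2 * k))⁻¹) := by group
  rw [h3, h1, h2, ← pow_add, show 3 * k + 3 * k = k + 5 * k by ring, pow_add, pow_mul, hx5,
    one_pow, mul_one]

/-- The pair count. -/
theorem pair_count [Finite G] (P : Sylow 5 G) (hP : Nat.card (P : Subgroup G) = 5) (a : G)
    (ha : a * a = 1) (haN : a ∈ normalizer ((P : Subgroup G) : Set G))
    (haC : a ∉ centralizer ((P : Subgroup G) : Set G)) :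
    5 * (Nat.card (Sylow 5 G) * 4) ≤ Nat.card {h : G // IsConj a h} ^ 2 := by
  have : Fact (Nat.Prime 5) := ⟨by norm_num⟩
  have key : ∀ x : G, orderOf x = 5 → ∃ b : G, IsConj a b ∧ x * b * x = b := by
    intro x hx
    obtain ⟨Q, hQ⟩ := exists_sylow_eq_zpowers P hP x hx
    obtain ⟨g, hg⟩ := MulAction.exists_smul_eq G P Q
    have hxQ : x ∈ (Q : Subgroup G) := hQ ▸ mem_zpowers x
    have hx'P : g⁻¹ * x * g ∈ (P : Subgroup G) := by
      rw [← hg] at hxQ
      exact mem_smul_sylow_iff.mp hxQ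
    have hx'ord : orderOf (g⁻¹ * x * g) = 5 := by
      have h1 := orderOf_conj_eq g⁻¹ x
      rw [inv_inv] at h1
      rw [h1, hx]
    have hx'1 : g⁻¹ * x * g ≠ 1 := by
      intro h
      rw [h, orderOf_one] at hx'ord
      omega
    have hzp : zpowers (g⁻¹ * x * g) = (P : Subgroup G) :=
      (zpowers_eq_of_mem P hP _ hx'P hx'1).2
    have hinv : a * (g⁻¹ * x * g) * a⁻¹ = (g⁻¹ * x * g)⁻¹ := by
      apply inverts_of_five _ a hx'ord ha
      · rw [hzp]
        exact (mem_normalizer_iff.mp haN _).mp hx'P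
      · intro hcomm
        apply haC
        rw [mem_centralizer_iff]
        intro h hh
        have hh' : h ∈ zpowers (g⁻¹ * x * g) := by rw [hzp]; exact hh
        obtain ⟨i, rfl⟩ := mem_zpowers_iff.mp hh'
        have hc : Commute (g⁻¹ * x * g) a := by
          show g⁻¹ * x * g * a = a * (g⁻¹ * x * g)
          have h1 : a * (g⁻¹ * x * g) = (a * (g⁻¹ * x * g) * a⁻¹) * a := by group
          rw [h1, hcomm]
        exact (Commute.zpow_left hc i).eq
    refine ⟨g * a * g⁻¹, isConj_iff.mpr ⟨g, rfl⟩, ?_⟩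
    have h1 : (g⁻¹ * x * g) * a * (g⁻¹ * x * g) = a := by
      have h2 : (g⁻¹ * x * g) * a * (g⁻¹ * x * g)
          = (g⁻¹ * x * g) * (a * (g⁻¹ * x * g) * a⁻¹) * a := by group
      rw [h2, hinv]
      group
    have h2 : x * (g * a * g⁻¹) * x = g * ((g⁻¹ * x * g) * a * (g⁻¹ * x * g)) * g⁻¹ := by group
    rw [h2, h1]
  choose! b hb1 hb2 using key
  have hx5 : ∀ x : G, orderOf x = 5 → x ^ 5 = 1 := fun x hx => hx ▸ pow_orderOf_eq_one x
  have hmem : ∀ x : G, orderOf x = 5 → ∀ k : ℕ, IsConj a (b x * x ^ k) := by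
    intro x hx k
    obtain ⟨g, hg⟩ := conj_mul_pow x (b x) (hx5 x hx) (hb2 x hx) k
    exact (hb1 x hx).trans (isConj_iff.mpr ⟨g, hg⟩)
  let Φ : {x : G // orderOf x = 5} × Fin 5 → {h : G // IsConj a h} × {h : G // IsConj a h} :=
    fun q => (⟨b q.1.1 * q.1.1 ^ (q.2 : ℕ), hmem q.1.1 q.1.2 _⟩,
      ⟨b q.1.1 * q.1.1 ^ ((q.2 : ℕ) + 1), hmem q.1.1 q.1.2 _⟩)
  have hinj : Function.Injective Φ := by
    rintro ⟨⟨x, hx⟩, j⟩ ⟨⟨x', hx'⟩, j'⟩ h
    have e1 : b x * x ^ (j : ℕ) = b x' * x' ^ (j' : ℕ) :=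
      congrArg (fun r => (r.1 : G)) h
    have e2 : b x * x ^ ((j : ℕ) + 1) = b x' * x' ^ ((j' : ℕ) + 1) :=
      congrArg (fun r => (r.2 : G)) h
    have hxx : x = x' := by
      have h1 : x = (b x * x ^ (j : ℕ))⁻¹ * (b x * x ^ ((j : ℕ) + 1)) := by
        rw [pow_succ]; group
      have h2 : x' = (b x' * x' ^ (j' : ℕ))⁻¹ * (b x' * x' ^ ((j' : ℕ) + 1)) := by
        rw [pow_succ]; group
      rw [h1, h2, e1, e2]
    subst hxx
    have hjj : (j : ℕ) = (j' : ℕ) := by
      have h1 : x ^ (j : ℕ) = x ^ (j' : ℕ) := mul_left_cancel e1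
      have h2 := pow_eq_pow_iff_modEq.mp h1
      rw [hx] at h2
      have hj := j.2
      have hj' := j'.2
      unfold Nat.ModEq at h2
      omega
    have : j = j' := Fin.ext hjj
    rw [this]
  have hcard := Nat.card_le_card_of_injective Φ hinj
  have hall : ∀ Q : Sylow 5 G, Nat.card (Q : Subgroup G) = 5 := fun Q =>
    (card_sylow_eq P Q).trans hP
  rw [Nat.card_prod, Nat.card_prod, card_orderOf_eq_prime hall, Nat.card_eq_fintype_card (α := Fin 5),
    Fintype.card_fin] at hcard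
  rw [pow_two]
  omega

end Cfsg.Agent.Lib.Helper69.PairInv
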