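import Mathlib
import Cfsg.Agent.Lib.Helper17.ExcSimple
import Cfsg.Agent.Lib.Helper17.ExcInv
import Cfsg.Agent.Lib.Helper69.FullExc
import Cfsg.Agent.Lib.Helper69.InvDet
import Cfsg.Agent.Lib.Helper69.PairInv
import Cfsg.Agent.Lib.Helper69.Num4320

/-!
Order `4320`, the case `|N(P)| = 20`, `|C(P)| = 5` for a Sylow `5`-subgroup `P`: character
theory of the principal `5`-block.
-/

set_option autoImplicit false
set_option linter.style.haveILetI false

namespace Cfsg.Agent.Lib.Helper69.O4320c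

open Cfsg Subgroup
open Cfsg.Agent.Lib.CT.Orth Cfsg.Agent.Lib.CT.Wedderburn Cfsg.Agent.Lib.CT.ClassMult
open Cfsg.Agent.Lib.Helper17.ExcOrb Cfsg.Agent.Lib.Helper17.ExcMain
open Cfsg.Agent.Lib.Helper17.ExcCor Cfsg.Agent.Lib.Helper17.ExcSimple
open Cfsg.Agent.Lib.Helper17.ExcInv Cfsg.Agent.Lib.Helper17.Sylow2
open Cfsg.Agent.Lib.Helper17.Classes
open Cfsg.Agent.Lib.Helper69.FullExc Cfsg.Agent.Lib.Helper69.InvDet
open Cfsg.Agent.Lib.Helper69.PairInv Cfsg.Agent.Lib.Helper69.Num4320
open scoped ComplexConjugate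

universe u

/-- A sum of four nonzero integer squares equal to `4`. -/
theorem four_cases {ι : Type*} [DecidableEq ι] (S : Finset ι) (c : ι → ℤ)
    (hne : ∀ i ∈ S, c i ≠ 0) (hsum : ∑ i ∈ S, c i ^ 2 = 4) :
    (∃ χ, S = {χ} ∧ (c χ = 2 ∨ c χ = -2)) ∨
    (∃ a b d e, a ≠ b ∧ a ≠ d ∧ a ≠ e ∧ b ≠ d ∧ b ≠ e ∧ d ≠ e ∧ S = {a, b, d, e} ∧
      (c a = 1 ∨ c a = -1) ∧ (c b = 1 ∨ c b = -1) ∧ (c d = 1 ∨ c d = -1) ∧
      (c e = 1 ∨ c e = -1)) := by
  have hpos : ∀ i ∈ S, 1 ≤ c i ^ 2 := by
    intro i hi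
    have h1 : c i ^ 2 ≠ 0 := pow_ne_zero 2 (hne i hi)
    have h2 := sq_nonneg (c i)
    omega
  by_cases hbig : ∃ i ∈ S, 4 ≤ c i ^ 2
  · left
    obtain ⟨i, hi, h4⟩ := hbig
    have h1 := Finset.add_sum_erase S (fun j => c j ^ 2) hi
    rw [hsum] at h1
    have h0 : 0 ≤ ∑ j ∈ S.erase i, c j ^ 2 := Finset.sum_nonneg (fun j _ => sq_nonneg (c j))
    have h3 : S.erase i = ∅ := by
      by_contra hne'
      obtain ⟨j, hj⟩ := Finset.nonempty_iff_ne_empty.mpr hne'
      have hj1 := hpos j (Finset.mem_of_mem_erase hj)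
      have h5 : c j ^ 2 ≤ ∑ j ∈ S.erase i, c j ^ 2 :=
        Finset.single_le_sum (f := fun j => c j ^ 2) (fun j _ => sq_nonneg (c j)) hj
      have h1' : c i ^ 2 + ∑ j ∈ S.erase i, c j ^ 2 = 4 := h1
      linarith
    refine ⟨i, ?_, ?_⟩
    · rw [← Finset.insert_erase hi, h3]
      rfl
    · rw [h3, Finset.sum_empty, add_zero] at h1
      have h1' : c i ^ 2 = 4 := h1
      have h6 : (c i - 2) * (c i + 2) = 0 := by
        linear_combination h1'
      rcases mul_eq_zero.mp h6 with h | h
      · left; linarith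
      · right; linarith
  · right
    push Not at hbig
    have hone : ∀ i ∈ S, c i = 1 ∨ c i = -1 := by
      intro i hi
      have h1 := hbig i hi
      have h2 := hne i hi
      have h3 : -2 < c i := by nlinarith
      have h4 : c i < 2 := by nlinarith
      omega
    have hcard : S.card = 4 := by
      have h1 : ∑ i ∈ S, c i ^ 2 = ∑ i ∈ S, (1 : ℤ) :=
        Finset.sum_congr rfl (fun i hi => by rcases hone i hi with h | h <;> rw [h] <;> norm_num)
      rw [hsum, Finset.sum_const, nsmul_eq_mul, mul_one] at h1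
      exact_mod_cast h1.symm
    obtain ⟨a, S1, ha, rfl, hS1⟩ := Finset.card_eq_succ.mp hcard
    obtain ⟨b, d, e, hbd, hbe, hde, rfl⟩ := Finset.card_eq_three.mp hS1
    simp only [Finset.mem_insert, Finset.mem_singleton, not_or] at ha
    refine ⟨a, b, d, e, ha.1, ha.2.1, ha.2.2, hbd, hbe, hde, rfl, ?_, ?_, ?_, ?_⟩
    · exact hone a (by simp)
    · exact hone b (by simp)
    · exact hone d (by simp)
    · exact hone e (by simp)

/-- The number of ways to write `z` as a product of two conjugates of `s`. -/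
theorem card_A {G : Type u} [Group G] [Fintype G] [DecidableEq G] (P : Subgroup G)
    (hP : Nat.card P = 5) (hC : centralizer (P : Set G) ≤ P) (s z : G) (hss : s * s = 1)
    (hzP : z ∈ P) (hz1 : z ≠ 1) (hzsz : z * s * z = s) :
    (Finset.univ.filter fun s' : G => (∃ k : G, k * s * k⁻¹ = s') ∧
      ∃ k : G, k * s * k⁻¹ = s'⁻¹ * z).card = 5 := by
  haveI : DecidablePred (fun w : G => w ∈ P) := fun _ => Classical.propDecidable _
  have hp5 : Nat.Prime 5 := by norm_num
  have hzo5 : orderOf z ∣ 5 := hP ▸ orderOf_dvd_card_of_mem hzP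
  have hz5 : z ^ 5 = 1 := orderOf_dvd_iff_pow_eq_one.mp hzo5
  have hzo : orderOf z = 5 := by
    rcases (Nat.dvd_prime hp5).mp hzo5 with h | h
    · exact absurd (orderOf_eq_one_iff.mp h) hz1
    · exact h
  apply le_antisymm
  · -- at most five
    have hsub : (Finset.univ.filter fun s' : G => (∃ k : G, k * s * k⁻¹ = s') ∧
        ∃ k : G, k * s * k⁻¹ = s'⁻¹ * z)
        ⊆ (Finset.univ.filter fun w : G => w ∈ P).image (fun w => s * w) := by
      intro s' hs'
      obtain ⟨⟨k, hk⟩, ⟨k', hk'⟩⟩ := (Finset.mem_filter.mp hs').2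
      have hs's' : s' * s' = 1 := by
        rw [← hk]
        have e1 : (k * s * k⁻¹) * (k * s * k⁻¹) = k * (s * s) * k⁻¹ := by group
        rw [e1, hss]
        group
      have hs'inv : s'⁻¹ = s' := (eq_inv_of_mul_eq_one_left hs's').symm
      have hsz : (s'⁻¹ * z) * (s'⁻¹ * z) = 1 := by
        rw [← hk']
        have e1 : (k' * s * k'⁻¹) * (k' * s * k'⁻¹) = k' * (s * s) * k'⁻¹ := by group
        rw [e1, hss]
        group
      have h1 : s'⁻¹ * z * s' = z⁻¹ := by
        have h2 : (s'⁻¹ * z * s'⁻¹) * z = 1 := by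
          rw [← hsz]; group
        have h3 : s'⁻¹ * z * s'⁻¹ = z⁻¹ := eq_inv_of_mul_eq_one_left h2
        have h4 : s'⁻¹ * z * s' = s'⁻¹ * z * s'⁻¹ := congrArg (fun w => s'⁻¹ * z * w) hs'inv.symm
        rw [h4, h3]
      have e1 : z * s = s * z⁻¹ := by
        calc z * s = (z * s * z) * z⁻¹ := by group
          _ = s * z⁻¹ := by rw [hzsz]
      have e2 : z⁻¹ * s' = s' * z := by
        calc z⁻¹ * s' = (s'⁻¹ * z * s') * s' := by rw [h1]
          _ = s'⁻¹ * z * (s' * s') := by group
          _ = s'⁻¹ * z := by rw [hs's', mul_one]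
          _ = s' * z := by rw [hs'inv]
      have hcomm : z * (s * s') = (s * s') * z := by
        calc z * (s * s') = (z * s) * s' := by group
          _ = s * (z⁻¹ * s') := by rw [e1]; group
          _ = s * (s' * z) := by rw [e2]
          _ = (s * s') * z := by group
      have hwP : s * s' ∈ P := hC (mem_centralizer_of_commute P hp5 hP z hzP hz1 _ hcomm)
      rw [Finset.mem_image]
      refine ⟨s * s', Finset.mem_filter.mpr ⟨Finset.mem_univ _, hwP⟩, ?_⟩
      calc s * (s * s') = (s * s) * s' := by group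
        _ = s' := by rw [hss, one_mul]
    have h1 := Finset.card_le_card hsub
    have h2 : ((Finset.univ.filter fun w : G => w ∈ P).image (fun w => s * w)).card
        ≤ (Finset.univ.filter fun w : G => w ∈ P).card := Finset.card_image_le
    have h3 : (Finset.univ.filter fun w : G => w ∈ P).card = 5 := by
      rw [← hP, Nat.card_eq_fintype_card, Fintype.card_subtype]
    omega
  · -- at least five
    have hsub : (Finset.range 5).image (fun k : ℕ => s * z ^ k)
        ⊆ (Finset.univ.filter fun s' : G => (∃ k : G, k * s * k⁻¹ = s') ∧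
          ∃ k : G, k * s * k⁻¹ = s'⁻¹ * z) := by
      intro s' hs'
      obtain ⟨k, -, rfl⟩ := Finset.mem_image.mp hs'
      rw [Finset.mem_filter]
      refine ⟨Finset.mem_univ _, conj_mul_pow z s hz5 hzsz k, ?_⟩
      obtain ⟨g, hg⟩ := conj_mul_pow z s hz5 hzsz (k + 1)
      refine ⟨g, ?_⟩
      rw [hg]
      apply eq_inv_mul_of_mul_eq
      have h1 := pow_mul_pow z s hzsz k
      calc s * z ^ k * (s * z ^ (k + 1)) = s * (z ^ k * s * z ^ k) * z := by
            rw [pow_succ]; group
        _ = z := by rw [h1, hss, one_mul]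
    have hinj : Set.InjOn (fun k : ℕ => s * z ^ k) (Finset.range 5 : Set ℕ) := by
      intro k hk k' hk' hkk
      have h1 : z ^ k = z ^ k' := mul_left_cancel hkk
      have h2 := pow_eq_pow_iff_modEq.mp h1
      rw [hzo] at h2
      have hk5 : k < 5 := Finset.mem_range.mp hk
      have hk5' : k' < 5 := Finset.mem_range.mp hk'
      unfold Nat.ModEq at h2
      omega
    have h1 := Finset.card_le_card hsub
    rw [Finset.card_image_of_injOn hinj, Finset.card_range] at h1
    exact h1

theorem case_five {G : Type u} [Group G] [Finite G] [IsSimpleGroup G]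
    (hG : ¬ IsMulCommutative G) (h : Nat.card G = 4320) (P : Sylow 5 G)
    (hP : Nat.card (P : Subgroup G) = 5) (hn : Nat.card (Sylow 5 G) = 216)
    (hNc : Nat.card (normalizer ((P : Subgroup G) : Set G)) = 20)
    (hC : Nat.card (centralizer ((P : Subgroup G) : Set G)) = 5) : False := by
  classical
  haveI : Fintype G := Fintype.ofFinite G
  have : Finite (IrrCharacter G) := finite_irrCharacter G
  haveI : Fintype (IrrCharacter G) := Fintype.ofFinite _
  have : Fact (Nat.Prime 2) := ⟨by norm_num⟩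
  have hp5 : Nat.Prime 5 := by norm_num
  have hCle := centralizer_le_of_card (P : Subgroup G) hp5 hP hC
  obtain ⟨c, hc, hc1, hcsq, hcdeg⟩ := full_exc (P : Subgroup G) hp5 hP hCle (by rw [hNc])
  obtain ⟨y, hyP, hy1⟩ := exists_mem_ne_one (P : Subgroup G) hp5 hP
  have hperf : _root_.commutator G = ⊤ := commutator_eq_top hG
  -- the involution
  obtain ⟨s, hsN, hs⟩ := exists_mem_orderOf_eq_prime
    (normalizer ((P : Subgroup G) : Set G)) 2 (by rw [hNc]; norm_num)
  have hss : s * s = 1 := by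
    have := pow_orderOf_eq_one s
    rwa [hs, pow_two] at this
  have hs1 : s ≠ 1 := by
    rintro rfl
    rw [orderOf_one] at hs
    omega
  have hsinv : s⁻¹ = s := (eq_inv_of_mul_eq_one_left hss).symm
  have hconj_ne : ∀ k : G, k * s * k⁻¹ ≠ 1 := by
    intro k hk
    apply hs1
    have e1 : s = k⁻¹ * (k * s * k⁻¹) * k := by group
    rw [e1, hk]
    group
  have hconj_sq : ∀ k : G, (k * s * k⁻¹) * (k * s * k⁻¹) = 1 := by
    intro k
    have e1 : (k * s * k⁻¹) * (k * s * k⁻¹) = k * (s * s) * k⁻¹ := by group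
    rw [e1, hss]
    group
  have hnotP : ∀ k : G, k * s * k⁻¹ ∉ (P : Subgroup G) := fun k =>
    not_mem_of_sq_eq_one (P : Subgroup G) hp5 hP (by norm_num) _ (hconj_sq k) (hconj_ne k)
  have hsP : s ∉ (P : Subgroup G) := by
    have := hnotP 1
    simpa using this
  have hsC : s ∉ centralizer ((P : Subgroup G) : Set G) := fun hh => hsP (hCle hh)
  -- the element z
  obtain ⟨z, hz⟩ : ∃ z : G, z = s * (y * s * y⁻¹) := ⟨_, rfl⟩
  have hz0 : s * (y * s * y⁻¹) = s * y * s⁻¹ * y⁻¹ := by rw [hsinv]; group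
  have hzP : z ∈ (P : Subgroup G) := by
    rw [hz, hz0]
    exact (P : Subgroup G).mul_mem ((mem_normalizer_iff.mp hsN y).mp hyP)
      ((P : Subgroup G).inv_mem hyP)
  have hz1 : z ≠ 1 := by
    intro h0
    apply hsC
    apply mem_centralizer_of_commute (P : Subgroup G) hp5 hP y hyP hy1 s
    have h1 : s * y * s⁻¹ * y⁻¹ = 1 := by rw [← hz0, ← hz, h0]
    have h3 : s * y = (s * y * s⁻¹ * y⁻¹) * (y * s) := by group
    rw [h3, h1, one_mul]
  have hzsz : z * s * z = s := by
    have e1 : z * s * z = s * ((y * s * y⁻¹) * (s * s) * (y * s * y⁻¹)) := by rw [hz]; group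
    rw [e1, hss, mul_one, hconj_sq y, mul_one]
  have hA := card_A (P : Subgroup G) hP hCle s z hss hzP hz1 hzsz
  -- the set of characters
  let S : Finset (IrrCharacter G) := Finset.univ.filter (fun ψ => ψ ≠ trivIrr G ∧ c ψ ≠ 0)
  have hsubS : ∀ F : IrrCharacter G → ℂ,
      ∑ ψ, F ψ * (c ψ : ℂ) = F (trivIrr G) + ∑ ψ ∈ S, F ψ * (c ψ : ℂ) := by
    intro F
    rw [← Finset.add_sum_erase Finset.univ _ (Finset.mem_univ (trivIrr G)), hc1]
    congr 1
    · simp
    · symm
      apply Finset.sum_subset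
      · intro ψ hψ
        rw [Finset.mem_erase]
        exact ⟨(Finset.mem_filter.mp hψ).2.1, Finset.mem_univ _⟩
      · intro ψ hψ hψS
        have h0 : c ψ = 0 := by
          by_contra h0
          exact hψS (Finset.mem_filter.mpr ⟨Finset.mem_univ _, (Finset.mem_erase.mp hψ).1, h0⟩)
        rw [h0]
        simp
  have hS4 : ∑ ψ ∈ S, c ψ ^ 2 = 4 := by
    have h1 := Finset.add_sum_erase Finset.univ (fun ψ => c ψ ^ 2) (Finset.mem_univ (trivIrr G))
    have h2 : ∑ ψ ∈ Finset.univ.erase (trivIrr G), c ψ ^ 2 = ∑ ψ ∈ S, c ψ ^ 2 := by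
      symm
      apply Finset.sum_subset
      · intro ψ hψ
        rw [Finset.mem_erase]
        exact ⟨(Finset.mem_filter.mp hψ).2.1, Finset.mem_univ _⟩
      · intro ψ hψ hψS
        have h0 : c ψ = 0 := by
          by_contra h0
          exact hψS (Finset.mem_filter.mpr ⟨Finset.mem_univ _, (Finset.mem_erase.mp hψ).1, h0⟩)
        rw [h0]
        norm_num
    rw [h2, hcsq] at h1
    simp only [hc1] at h1
    push_cast at h1
    linarith
  -- column relations
  have hcolone : ∑ ψ : IrrCharacter G, (ψ : G → ℂ) 1 * (c ψ : ℂ) = 0 := by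
    have h1 := second_orthogonality_sum_of_not_isConj (1 : G) y
      (fun hcj => hy1 (isConj_one_right.mp hcj))
    rw [← h1]
    refine Finset.sum_congr rfl (fun ψ _ => ?_)
    rw [hc ψ y hyP hy1]
    simp
  have hnc : ¬ IsConj s z := by
    intro hcj
    obtain ⟨k, hk⟩ := isConj_iff.mp hcj
    exact hnotP k (hk ▸ hzP)
  have hcols : ∑ ψ : IrrCharacter G, (ψ : G → ℂ) s * (c ψ : ℂ) = 0 := by
    have h1 := second_orthogonality_sum_of_not_isConj s z hnc
    rw [← h1]
    refine Finset.sum_congr rfl (fun ψ _ => ?_)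
    rw [hc ψ z hzP hz1]
    simp
  have hT1 : ((trivIrr G : IrrCharacter G) : G → ℂ) 1 = 1 := trivIrr_apply G 1
  have hTs : ((trivIrr G : IrrCharacter G) : G → ℂ) s = 1 := trivIrr_apply G s
  have hdegT : charDegree ((trivIrr G : IrrCharacter G) : G → ℂ) = 1 := by
    have h1 := deg_eq (trivIrr G)
    rw [hT1] at h1
    exact_mod_cast h1.symm
  rcases four_cases S c (fun ψ hψ => (Finset.mem_filter.mp hψ).2.2) hS4 with
    ⟨χ, hSχ, hχ⟩ | ⟨a, b, d, e, hab, had, hae, hbd, hbe, hde, hSeq, hca, hcb, hcd, hce⟩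
  · -- a single character with value ±2: parity
    have h1 := hsubS (fun ψ => (ψ : G → ℂ) 1)
    rw [hcolone, hSχ, Finset.sum_singleton, hT1, deg_eq χ] at h1
    have h2 : (1 : ℤ) + (charDegree (χ : G → ℂ) : ℤ) * c χ = 0 := by exact_mod_cast h1.symm
    rcases hχ with h3 | h3 <;> rw [h3] at h2 <;> omega
  · -- four characters with values ±1
    have hform : ∀ F : IrrCharacter G → ℂ, ∑ ψ, F ψ * (c ψ : ℂ)
        = F (trivIrr G) + (F a * (c a : ℂ) + (F b * (c b : ℂ) + (F d * (c d : ℂ)
          + F e * (c e : ℂ)))) := by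
      intro F
      rw [hsubS F, hSeq, Finset.sum_insert (by simp [hab, had, hae]),
        Finset.sum_insert (by simp [hbd, hbe]), Finset.sum_pair hde]
    have hmemS : ∀ χ ∈ S, χ ≠ trivIrr G := fun χ hχ => (Finset.mem_filter.mp hχ).2.1
    have haT : a ≠ trivIrr G := hmemS a (by rw [hSeq]; simp)
    have hbT : b ≠ trivIrr G := hmemS b (by rw [hSeq]; simp)
    have hdT : d ≠ trivIrr G := hmemS d (by rw [hSeq]; simp)
    have heT : e ≠ trivIrr G := hmemS e (by rw [hSeq]; simp)
    -- degree data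
    have hdegdata : ∀ χ : IrrCharacter G, χ ≠ trivIrr G → (c χ = 1 ∨ c χ = -1) →
        (((charDegree (χ : G → ℂ) : ℕ) : ℤ), c χ) ∈ L := by
      intro χ hχT hcχ
      obtain ⟨m, hm⟩ := hcdeg χ
      have hdvd : charDegree (χ : G → ℂ) ∣ 4320 :=
        h ▸ Cfsg.Agent.Lib.Helper80.Integrality.charDegree_dvd_card χ
      have hsq : charDegree (χ : G → ℂ) * charDegree (χ : G → ℂ) < 4320 := by
        have h1 := sum_charDegree_sq_sum (G := G)
        rw [h] at h1
        have h2 : ∑ ψ ∈ ({trivIrr G, χ} : Finset (IrrCharacter G)), charDegree (ψ : G → ℂ) ^ 2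
            ≤ ∑ ψ : IrrCharacter G, charDegree (ψ : G → ℂ) ^ 2 :=
          Finset.sum_le_sum_of_subset (Finset.subset_univ _)
        rw [Finset.sum_pair (Ne.symm hχT), hdegT, h1] at h2
        nlinarith
      apply mem_L _ _ (Nat.mem_divisors.mpr ⟨hdvd, by norm_num⟩)
        (charDegree_ne_one hG χ hχT) hsq hcχ m
      push_cast at hm
      linarith
    -- values at the involution
    have hval : ∀ χ : IrrCharacter G, ∃ v : ℤ, (χ : G → ℂ) s = (v : ℂ) ∧
        ((charDegree (χ : G → ℂ) : ℤ) - v) % 4 = 0 := by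
      intro χ
      obtain ⟨m, hm⟩ := char_invol hperf (isCharacter_of_irr χ.2) s hss
      refine ⟨(charDegree (χ : G → ℂ) : ℤ) - 4 * m, ?_, by omega⟩
      rw [hm, deg_eq χ]
      push_cast
      ring
    obtain ⟨ua, hua, hma⟩ := hval a
    obtain ⟨ub, hub, hmb⟩ := hval b
    obtain ⟨ud, hud, hmd⟩ := hval d
    obtain ⟨ue, hue, hme⟩ := hval e
    -- the linear relations
    have hdeg : (1 : ℤ) + c a * (charDegree (a : G → ℂ) : ℤ) + c b * (charDegree (b : G → ℂ) : ℤ)
        + c d * (charDegree (d : G → ℂ) : ℤ) + c e * (charDegree (e : G → ℂ) : ℤ) = 0 := by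
      have h1 := hform (fun ψ => (ψ : G → ℂ) 1)
      rw [hcolone] at h1
      simp only [hT1, deg_eq] at h1
      have h2 : (((1 : ℤ) + c a * (charDegree (a : G → ℂ) : ℤ)
          + c b * (charDegree (b : G → ℂ) : ℤ)
          + c d * (charDegree (d : G → ℂ) : ℤ) + c e * (charDegree (e : G → ℂ) : ℤ) : ℤ) : ℂ)
          = 0 := by
        push_cast
        linear_combination -h1
      exact_mod_cast h2
    have hlin : (1 : ℤ) + c a * ua + c b * ub + c d * ud + c e * ue = 0 := by
      have h1 := hform (fun ψ => (ψ : G → ℂ) s)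
      rw [hcols] at h1
      simp only [hTs, hua, hub, hud, hue] at h1
      have h2 : (((1 : ℤ) + c a * ua + c b * ub + c d * ud + c e * ue : ℤ) : ℂ) = 0 := by
        push_cast
        linear_combination -h1
      exact_mod_cast h2
    -- the column of the involution
    have hcS := second_orthogonality_sum_of_isConj s s (IsConj.refl s)
    have hcol : (1 : ℤ) + ua * ua + ub * ub + ud * ud + ue * ue
        ≤ (Nat.card (centralizer ({s} : Set G)) : ℤ) := by
      have h1 : ∑ ψ : IrrCharacter G, Complex.normSq ((ψ : G → ℂ) s)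
          = (Nat.card (centralizer ({s} : Set G)) : ℝ) := by
        have h2 : ((∑ ψ : IrrCharacter G, Complex.normSq ((ψ : G → ℂ) s) : ℝ) : ℂ)
            = ((Nat.card (centralizer ({s} : Set G)) : ℝ) : ℂ) := by
          rw [Complex.ofReal_sum]
          push_cast
          rw [← hcS]
          refine Finset.sum_congr rfl (fun ψ _ => ?_)
          rw [Complex.mul_conj]
        exact_mod_cast h2
      have hTn : trivIrr G ∉ ({a, b, d, e} : Finset (IrrCharacter G)) := by
        simp [Ne.symm haT, Ne.symm hbT, Ne.symm hdT, Ne.symm heT]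
      have h3 : ∑ ψ ∈ insert (trivIrr G) ({a, b, d, e} : Finset (IrrCharacter G)),
          Complex.normSq ((ψ : G → ℂ) s)
          ≤ ∑ ψ : IrrCharacter G, Complex.normSq ((ψ : G → ℂ) s) :=
        Finset.sum_le_sum_of_subset_of_nonneg (Finset.subset_univ _)
          (fun ψ _ _ => Complex.normSq_nonneg _)
      rw [Finset.sum_insert hTn, Finset.sum_insert (by simp [hab, had, hae]),
        Finset.sum_insert (by simp [hbd, hbe]), Finset.sum_pair hde, h1, hTs, hua, hub, hud,
        hue] at h3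
      simp only [Complex.normSq_one, Complex.normSq_intCast] at h3
      have h4 : (((1 : ℤ) + ua * ua + ub * ub + ud * ud + ue * ue : ℤ) : ℝ)
          ≤ ((Nat.card (centralizer ({s} : Set G)) : ℤ) : ℝ) := by
        push_cast
        linarith
      exact_mod_cast h4
    -- the order of the centralizer
    have hcc := card_conj_mul_card_centralizer s
    rw [h] at hcc
    have hpc0 := pair_count P hP s hss hsN hsC
    rw [hn] at hpc0
    have hcS65 : Nat.card (centralizer ({s} : Set G)) ≤ 65 := by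
      by_contra hgt
      push Not at hgt
      have h1 : Nat.card {x : G // IsConj s x} * 66
          ≤ Nat.card {x : G // IsConj s x} * Nat.card (centralizer ({s} : Set G)) :=
        Nat.mul_le_mul_left _ hgt
      have h2 : Nat.card {x : G // IsConj s x} ≤ 65 := by omega
      have h3 := Nat.pow_le_pow_left h2 2
      omega
    have hcSdvd : Nat.card (centralizer ({s} : Set G)) ∈ Nat.divisors 4320 :=
      Nat.mem_divisors.mpr ⟨Dvd.intro_left _ hcc, by norm_num⟩
    have hcD := mem_D _ hcSdvd hcS65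
    -- bounds for the values
    have hcSz : (Nat.card (centralizer ({s} : Set G)) : ℤ) ≤ 65 := by exact_mod_cast hcS65
    have hna := mul_self_nonneg ua
    have hnb := mul_self_nonneg ub
    have hnd := mul_self_nonneg ud
    have hne := mul_self_nonneg ue
    have hUa : ua ∈ U := mem_U ua (by linarith)
    have hUb : ub ∈ U := mem_U ub (by linarith)
    have hUd : ud ∈ U := mem_U ud (by linarith)
    have hUe : ue ∈ U := mem_U ue (by linarith)
    -- the class multiplication equation
    have hcount := card_pairs s z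
    rw [hA] at hcount
    have hpc := conj_pair_count s s z
    rw [hcount, h] at hpc
    have hsum : ∑ ψ : IrrCharacter G,
        (ψ : G → ℂ) s * (ψ : G → ℂ) s * conj ((ψ : G → ℂ) z) / (ψ : G → ℂ) 1
        = ∑ ψ : IrrCharacter G,
          ((ψ : G → ℂ) s * (ψ : G → ℂ) s / (ψ : G → ℂ) 1) * (c ψ : ℂ) := by
      refine Finset.sum_congr rfl (fun ψ _ => ?_)
      rw [hc ψ z hzP hz1]
      simp
      ring
    rw [hsum, hform (fun ψ => (ψ : G → ℂ) s * (ψ : G → ℂ) s / (ψ : G → ℂ) 1)] at hpc
    simp only [hTs, hT1, hua, hub, hud, hue, deg_eq] at hpc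
    have hfa : (charDegree (a : G → ℂ) : ℂ) ≠ 0 :=
      Nat.cast_ne_zero.mpr (irr_charDegree_pos a.2).ne'
    have hfb : (charDegree (b : G → ℂ) : ℂ) ≠ 0 :=
      Nat.cast_ne_zero.mpr (irr_charDegree_pos b.2).ne'
    have hfd : (charDegree (d : G → ℂ) : ℂ) ≠ 0 :=
      Nat.cast_ne_zero.mpr (irr_charDegree_pos d.2).ne'
    have hfe : (charDegree (e : G → ℂ) : ℂ) ≠ 0 :=
      Nat.cast_ne_zero.mpr (irr_charDegree_pos e.2).ne'
    have hmain : (5 : ℤ) * ((Nat.card (centralizer ({s} : Set G)) : ℤ)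
          * (Nat.card (centralizer ({s} : Set G)) : ℤ))
        * ((charDegree (a : G → ℂ) : ℤ) * (charDegree (b : G → ℂ) : ℤ)
          * (charDegree (d : G → ℂ) : ℤ) * (charDegree (e : G → ℂ) : ℤ))
        = 4320 * ((charDegree (a : G → ℂ) : ℤ) * (charDegree (b : G → ℂ) : ℤ)
            * (charDegree (d : G → ℂ) : ℤ) * (charDegree (e : G → ℂ) : ℤ)
          + c a * (ua * ua) * ((charDegree (b : G → ℂ) : ℤ) * (charDegree (d : G → ℂ) : ℤ)
            * (charDegree (e : G → ℂ) : ℤ))
          + c b * (ub * ub) * ((charDegree (a : G → ℂ) : ℤ) * (charDegree (d : G → ℂ) : ℤ)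
            * (charDegree (e : G → ℂ) : ℤ))
          + c d * (ud * ud) * ((charDegree (a : G → ℂ) : ℤ) * (charDegree (b : G → ℂ) : ℤ)
            * (charDegree (e : G → ℂ) : ℤ))
          + c e * (ue * ue) * ((charDegree (a : G → ℂ) : ℤ) * (charDegree (b : G → ℂ) : ℤ)
            * (charDegree (d : G → ℂ) : ℤ))) := by
      have key : (((5 : ℤ) * ((Nat.card (centralizer ({s} : Set G)) : ℤ)
          * (Nat.card (centralizer ({s} : Set G)) : ℤ))
        * ((charDegree (a : G → ℂ) : ℤ) * (charDegree (b : G → ℂ) : ℤ)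
          * (charDegree (d : G → ℂ) : ℤ) * (charDegree (e : G → ℂ) : ℤ)) : ℤ) : ℂ)
        = ((4320 * ((charDegree (a : G → ℂ) : ℤ) * (charDegree (b : G → ℂ) : ℤ)
            * (charDegree (d : G → ℂ) : ℤ) * (charDegree (e : G → ℂ) : ℤ)
          + c a * (ua * ua) * ((charDegree (b : G → ℂ) : ℤ) * (charDegree (d : G → ℂ) : ℤ)
            * (charDegree (e : G → ℂ) : ℤ))
          + c b * (ub * ub) * ((charDegree (a : G → ℂ) : ℤ) * (charDegree (d : G → ℂ) : ℤ)
            * (charDegree (e : G → ℂ) : ℤ))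
          + c d * (ud * ud) * ((charDegree (a : G → ℂ) : ℤ) * (charDegree (b : G → ℂ) : ℤ)
            * (charDegree (e : G → ℂ) : ℤ))
          + c e * (ue * ue) * ((charDegree (a : G → ℂ) : ℤ) * (charDegree (b : G → ℂ) : ℤ)
            * (charDegree (d : G → ℂ) : ℤ))) : ℤ) : ℂ) := by
        push_cast
        push_cast at hpc
        have e1 : (5 : ℂ) * ((Nat.card (centralizer ({s} : Set G)) : ℂ)
            * (Nat.card (centralizer ({s} : Set G)) : ℂ))
            = 5 * (Nat.card (centralizer ({s} : Set G)) : ℂ) ^ 2 := by ring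
        rw [e1, hpc]
        field_simp
        ring
      exact_mod_cast key
    exact numeric _ (hdegdata a haT hca) _ (hdegdata b hbT hcb) _ (hdegdata d hdT hcd)
      _ (hdegdata e heT hce) hdeg ua hUa hma ub hUb hmb ud hUd hmd ue hUe hme hlin _ hcD hcol
      hmain

end Cfsg.Agent.Lib.Helper69.O4320c
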