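import Mathlib
import Cfsg.Agent.Lib.Helper92.M11Stmt
import Cfsg.Agent.Lib.Helper68.M11Syl
import Cfsg.Agent.Lib.Helper17.ExcSimple
import Cfsg.Agent.Lib.Helper17.FixedPoints

/-!
Simple groups of order `7920`, piece [R11]: the character relation coming from the elements of
order `11`.
-/

set_option autoImplicit false
set_option linter.style.haveILetI false

namespace Cfsg.Agent.Lib.Helper69.M11R11

open Cfsg Subgroup
open Cfsg.Agent.Lib.CT.Orth Cfsg.Agent.Lib.CT.Wedderburn
open Cfsg.Agent.Lib.Helper17.ExcMain Cfsg.Agent.Lib.Helper17.ExcCor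
open Cfsg.Agent.Lib.Helper17.ExcSimple Cfsg.Agent.Lib.Helper17.Sylow
open scoped ComplexConjugate

universe u

theorem orderOf_eq_of_isConj {G : Type*} [Group G] {x z : G} (h : IsConj x z) :
    orderOf x = orderOf z := by
  obtain ⟨c, hc⟩ := isConj_iff.mp h
  have h1 : z = MulAut.conj c x := by rw [← hc]; simp [MulAut.conj_apply]
  rw [h1, MulEquiv.orderOf_eq]

theorem orderOf_conj_inv {G : Type*} [Group G] (g x : G) :
    orderOf (g⁻¹ * x * g) = orderOf x := by
  have h : g⁻¹ * x * g = MulAut.conj g⁻¹ x := by simp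
  rw [h, MulEquiv.orderOf_eq]

/-- [R11]. -/
theorem main : Cfsg.Agent.Lib.Helper92.M11Stmt.Rel11.{u} := by
  intro G _ _ _ h D x hx
  classical
  haveI : Fintype G := Fintype.ofFinite G
  have : Finite (IrrCharacter G) := finite_irrCharacter G
  haveI : Fintype (IrrCharacter G) := Fintype.ofFinite _
  have hG : ¬ IsMulCommutative G := not_comm_of_not_prime (by rw [h]; norm_num)
  have : Fact (Nat.Prime 11) := ⟨by norm_num⟩
  obtain ⟨P⟩ : Nonempty (Sylow 11 G) := inferInstance
  obtain ⟨hP, hCP, hNP⟩ := Cfsg.Agent.Lib.Helper68.M11Syl.sylow11 hG h P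
  have hp11 : Nat.Prime 11 := by norm_num
  have hCle := centralizer_le_of_card (P : Subgroup G) hp11 hP hCP
  obtain ⟨n, ε, b, θ, M, i₀, hn, hε, hθinj, hMT, hθT, hMexc, hsq, hdeg, hval, hθvan, hθone,
    hform⟩ := exceptional (P : Subgroup G) (p := 11) (e := 5) hp11 hP hCle (by rw [hNP])
      (by norm_num)
  have hn2 : n = 2 := by omega
  subst hn2
  obtain ⟨y, hyP, hy1⟩ := exists_mem_ne_one (P : Subgroup G) hp11 hP
  have hyo : orderOf y = 11 :=
    (Cfsg.Agent.Lib.Helper17.FixedPoints.zpowers_eq_of_mem P hP y hyP hy1).1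
  -- bounds for `M`
  have hMsum : ∑ ψ, M ψ ^ 2 ≤ 5 := by
    push_cast at hsq
    rcases hε with rfl | rfl
    · rcases le_or_gt b 0 with hb | hb <;> nlinarith
    · rcases le_or_gt b (-1) with hb | hb <;> nlinarith
  have hMbd : ∀ ψ : IrrCharacter G, -2 ≤ M ψ ∧ M ψ ≤ 2 := by
    intro ψ
    have h1 : M ψ ^ 2 ≤ ∑ ψ, M ψ ^ 2 :=
      Finset.single_le_sum (f := fun j => M j ^ 2) (fun j _ => sq_nonneg (M j))
        (Finset.mem_univ ψ)
    constructor <;> nlinarith
  -- the characters of degree 16 are exceptional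
  have hthexc : ∀ i, ∃ j, θ j = D.th i := by
    intro i
    by_contra hno
    push Not at hno
    obtain ⟨a, ha⟩ := hdeg (D.th i) hno
    rw [D.hth i] at ha
    have := hMbd (D.th i)
    push_cast at ha
    omega
  obtain ⟨j0, hj0⟩ := hthexc 0
  obtain ⟨j1, hj1⟩ := hthexc 1
  have hθ16 : ∀ j, charDegree ((θ j : IrrCharacter G) : G → ℂ) = 16 := by
    intro j
    have h1 := hθone j j0
    rw [hj0, deg_eq (θ j), deg_eq (D.th 0), D.hth 0] at h1
    exact_mod_cast h1
  have hnonexc : ∀ ψ : IrrCharacter G, charDegree (ψ : G → ℂ) ≠ 16 → ∀ j, θ j ≠ ψ := by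
    intro ψ hψ j hj
    apply hψ
    rw [← hj]
    exact hθ16 j
  have Ma : ∀ i, M (D.a i) = -1 := by
    intro i
    obtain ⟨a, ha⟩ := hdeg (D.a i) (hnonexc _ (by rw [D.ha i]; norm_num))
    rw [D.ha i] at ha
    have := hMbd (D.a i)
    push_cast at ha
    omega
  have Mb : M D.b = 0 := by
    obtain ⟨a, ha⟩ := hdeg D.b (hnonexc _ (by rw [D.hb]; norm_num))
    rw [D.hb] at ha
    have := hMbd D.b
    push_cast at ha
    omega
  have Md : M D.d = 0 := by
    obtain ⟨a, ha⟩ := hdeg D.d (hnonexc _ (by rw [D.hd]; norm_num))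
    rw [D.hd] at ha
    have := hMbd D.d
    push_cast at ha
    omega
  have Me : M D.e = 1 := by
    obtain ⟨a, ha⟩ := hdeg D.e (hnonexc _ (by rw [D.he]; norm_num))
    rw [D.he] at ha
    have := hMbd D.e
    push_cast at ha
    omega
  have Mf : M D.f = 0 := by
    obtain ⟨a, ha⟩ := hdeg D.f (hnonexc _ (by rw [D.hf]; norm_num))
    rw [D.hf] at ha
    have := hMbd D.f
    push_cast at ha
    omega
  have Mth : ∀ i, M (D.th i) = 0 := by
    intro i
    obtain ⟨j, hj⟩ := hthexc i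
    rw [← hj]
    exact hMexc j
  -- the exceptional characters agree at `x`
  have hθx : ∀ i j, (θ i : G → ℂ) x = (θ j : G → ℂ) x := by
    intro i j
    by_cases hx1 : x = 1
    · rw [hx1]
      exact hθone i j
    · apply hθvan i j x
      intro u hu
      have hne : u⁻¹ * x * u ≠ 1 := by
        intro h1
        apply hx1
        have e1 : x = u * (u⁻¹ * x * u) * u⁻¹ := by group
        rw [e1, h1]
        group
      have ho := (Cfsg.Agent.Lib.Helper17.FixedPoints.zpowers_eq_of_mem P hP _ hu hne).1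
      rw [orderOf_conj_inv] at ho
      exact hx ho
  have hth01 : (D.th 0 : G → ℂ) x = (D.th 1 : G → ℂ) x := by
    rw [← hj0, ← hj1]
    exact hθx j0 j1
  refine ⟨hth01, ?_⟩
  -- the column relation
  have hcol : ∀ g : G, (∀ i j, (θ i : G → ℂ) g = (θ j : G → ℂ) g) → ¬ IsConj g y →
      0 = 1 - ((D.a 0 : G → ℂ) g + (D.a 1 : G → ℂ) g + (D.a 2 : G → ℂ) g) + (D.e : G → ℂ) g
        + (D.th 0 : G → ℂ) g * ((2 : ℂ) * (b : ℂ) - (ε : ℂ)) := by
    intro g hg hnc
    have h1 := hform y hyP hy1 (fun ψ => (ψ : G → ℂ) g) hg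
    rw [second_orthogonality_sum_of_not_isConj g y hnc] at h1
    have hD := D.sum_eq (fun ψ => (ψ : G → ℂ) g * (M ψ : ℂ))
    rw [finsum_eq_sum_of_fintype] at hD
    rw [hD, hMT, Ma 0, Ma 1, Ma 2, Mb, Mth 0, Mth 1, Md, Me, Mf, trivIrr_apply] at h1
    have h2 : (θ i₀ : G → ℂ) g = (D.th 0 : G → ℂ) g := by
      rw [← hj0]
      exact hg i₀ j0
    rw [h2] at h1
    push_cast at h1
    linear_combination h1
  have h1 := hcol 1 (fun i j => hθone i j) (fun hc => hy1 (isConj_one_left.mp hc.symm))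
  simp only [deg_eq, D.ha, D.he, D.hth] at h1
  have h2be : (2 : ℂ) * (b : ℂ) - (ε : ℂ) = -1 := by
    push_cast at h1
    linear_combination (-1 / 16 : ℂ) * h1
  have hncx : ¬ IsConj x y := fun hc => hx ((orderOf_eq_of_isConj hc).trans hyo)
  have h3 := hcol x hθx hncx
  rw [h2be] at h3
  linear_combination (-1 : ℂ) * h3

end Cfsg.Agent.Lib.Helper69.M11R11
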