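import Mathlib
import Cfsg.Agent.Lib.Helper92.M11Stmt
import Cfsg.Agent.Lib.Helper68.M11Syl5
import Cfsg.Agent.Lib.Helper17.ExcSimple
import Cfsg.Agent.Lib.Helper17.FixedPoints
import Cfsg.Agent.Lib.Helper69.FullExc

/-!
Simple groups of order `7920`, piece [R5]: the character relation coming from the elements of
order `5`.
-/

set_option autoImplicit false
set_option linter.style.haveILetI false

namespace Cfsg.Agent.Lib.Helper69.M11R5

open Cfsg Subgroup
open Cfsg.Agent.Lib.CT.Orth Cfsg.Agent.Lib.CT.Wedderburn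
open Cfsg.Agent.Lib.Helper17.ExcMain Cfsg.Agent.Lib.Helper17.ExcCor
open Cfsg.Agent.Lib.Helper17.ExcSimple Cfsg.Agent.Lib.Helper17.Sylow
open Cfsg.Agent.Lib.Helper69.FullExc
open scoped ComplexConjugate

universe u

theorem orderOf_eq_of_isConj {G : Type*} [Group G] {x z : G} (h : IsConj x z) :
    orderOf x = orderOf z := by
  obtain ⟨c, hc⟩ := isConj_iff.mp h
  have h1 : z = MulAut.conj c x := by rw [← hc]; simp [MulAut.conj_apply]
  rw [h1, MulEquiv.orderOf_eq]

/-- [R5]. -/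
theorem main : Cfsg.Agent.Lib.Helper92.M11Stmt.Rel5.{u} := by
  intro G _ _ _ h D x hx
  classical
  haveI : Fintype G := Fintype.ofFinite G
  have : Finite (IrrCharacter G) := finite_irrCharacter G
  haveI : Fintype (IrrCharacter G) := Fintype.ofFinite _
  have hG : ¬ IsMulCommutative G := not_comm_of_not_prime (by rw [h]; norm_num)
  have : Fact (Nat.Prime 5) := ⟨by norm_num⟩
  obtain ⟨Q⟩ : Nonempty (Sylow 5 G) := inferInstance
  obtain ⟨hQ, hCQ, hNQ⟩ := Cfsg.Agent.Lib.Helper68.M11Syl5.sylow5 hG h (D.a 0) (D.ha 0) Q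
  have hp5 : Nat.Prime 5 := by norm_num
  have hCle := centralizer_le_of_card (Q : Subgroup G) hp5 hQ hCQ
  obtain ⟨c, hcval, hcT, hc5, hcm⟩ := full_exc (Q : Subgroup G) hp5 hQ hCle (by rw [hNQ])
  obtain ⟨z, hzQ, hz1⟩ := exists_mem_ne_one (Q : Subgroup G) hp5 hQ
  have hbd : ∀ ψ : IrrCharacter G, -2 ≤ c ψ ∧ c ψ ≤ 2 := by
    intro ψ
    have h1 : c ψ ^ 2 ≤ ∑ ψ, c ψ ^ 2 :=
      Finset.single_le_sum (f := fun j => c j ^ 2) (fun j _ => sq_nonneg (c j))
        (Finset.mem_univ ψ)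
    rw [hc5] at h1
    push_cast at h1
    constructor <;> nlinarith
  have hcm' : ∀ ψ : IrrCharacter G, ∃ m : ℤ, (charDegree (ψ : G → ℂ) : ℤ) + 4 * c ψ = 5 * m := by
    intro ψ
    obtain ⟨m, hm⟩ := hcm ψ
    refine ⟨m, ?_⟩
    push_cast at hm
    linarith
  have hzo : orderOf z = 5 :=
    (Cfsg.Agent.Lib.Helper17.FixedPoints.zpowers_eq_of_mem Q hQ z hzQ hz1).1
  have hnc : ¬ IsConj x z := by
    intro hc
    exact hx ((orderOf_eq_of_isConj hc).trans hzo)
  have horth := second_orthogonality_sum_of_not_isConj x z hnc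
  have hsum : ∑ ψ : IrrCharacter G, (ψ : G → ℂ) x * (c ψ : ℂ) = 0 := by
    rw [← horth]
    refine Finset.sum_congr rfl (fun ψ _ => ?_)
    rw [hcval ψ z hzQ hz1, map_intCast]
  have hD := D.sum_eq (fun ψ => (ψ : G → ℂ) x * (c ψ : ℂ))
  rw [finsum_eq_sum_of_fintype, hsum] at hD
  have ca : ∀ i, c (D.a i) = 0 := by
    intro i
    obtain ⟨m, hm⟩ := hcm' (D.a i)
    rw [D.ha i] at hm
    have := hbd (D.a i)
    push_cast at hm
    omega
  have cb : c D.b = 1 := by
    obtain ⟨m, hm⟩ := hcm' D.b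
    rw [D.hb] at hm
    have := hbd D.b
    push_cast at hm
    omega
  have cth : ∀ i, c (D.th i) = 1 := by
    intro i
    obtain ⟨m, hm⟩ := hcm' (D.th i)
    rw [D.hth i] at hm
    have := hbd (D.th i)
    push_cast at hm
    omega
  have cd : c D.d = -1 := by
    obtain ⟨m, hm⟩ := hcm' D.d
    rw [D.hd] at hm
    have := hbd D.d
    push_cast at hm
    omega
  have ce : c D.e = 0 := by
    obtain ⟨m, hm⟩ := hcm' D.e
    rw [D.he] at hm
    have := hbd D.e
    push_cast at hm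
    omega
  have cf : c D.f = 0 := by
    obtain ⟨m, hm⟩ := hcm' D.f
    rw [D.hf] at hm
    have := hbd D.f
    push_cast at hm
    omega
  rw [hcT, ca 0, ca 1, ca 2, cb, cth 0, cth 1, cd, ce, cf, trivIrr_apply] at hD
  push_cast at hD
  linear_combination -hD

end Cfsg.Agent.Lib.Helper69.M11R5
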