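import Mathlib
import Cfsg.Agent.Lib.Helper6.Pg2

/-!
# Transfer of a maximal subgroup of `PGL(2, F)` to `SL(2, F')`, `|F'| = |F|²` (piece T of S5891)
-/

set_option autoImplicit false
set_option linter.style.haveILetI false
set_option linter.unusedVariables false
set_option linter.unusedSimpArgs false

namespace Cfsg.Agent.Lib.Helper69.PglTransfer

open Matrix MatrixGroups
open Cfsg.Agent.Lib.Helper53.SL2Inv
open Cfsg.Agent.Lib.Helper98.SL2Sub Cfsg.Agent.Lib.Helper98.PSL2Max
open Cfsg.Agent.Lib.Helper98.SL2Field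
open Cfsg.Agent.S5941 (Pk Sk_le_Pk pglIso pglMap pglMap_mk pglMap_injective)
open Cfsg.Agent.Lib.Helper6.Dk2 Cfsg.Agent.Lib.Helper6.Pg1

section key
variable {K F : Type*} [Field K] [Field F]

theorem pglMap_pglIso (ι : K →+* F) (hsqrt : ∀ s ∈ ι.fieldRange, ∃ σ : F, σ ^ 2 = s)
    (z : ↥((Pk ι.fieldRange).map (QuotientGroup.mk' (Subgroup.center SL(2, F))))) :
    pglMap ι (pglIso ι hsqrt z) =
      Matrix.ProjectiveSpecialLinearGroup.toPGL
        (z : Matrix.ProjectiveSpecialLinearGroup (Fin 2) F) := by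
  have h := MulEquiv.apply_symm_apply (MonoidHom.ofInjective (pglMap_injective ι))
    ((MulEquiv.subgroupCongr (Cfsg.Agent.S5941.map_toPGL_eq ι hsqrt))
      ((Subgroup.equivMapOfInjective _ _ Matrix.ProjectiveSpecialLinearGroup.toPGL_injective) z))
  exact congrArg Subtype.val h

theorem pglIso_map (ι : K →+* F) (hsqrt : ∀ s ∈ ι.fieldRange, ∃ σ : F, σ ^ 2 = s)
    (x₀ : SL(2, K))
    (hz : proj (Matrix.SpecialLinearGroup.map ι x₀) ∈ (Pk ι.fieldRange).map (proj (F := F))) :
    pglIso ι hsqrt ⟨_, hz⟩ = Matrix.ProjGenLinGroup.mk (Matrix.SpecialLinearGroup.toGL x₀) := by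
  apply pglMap_injective ι
  rw [pglMap_pglIso, pglMap_mk]
  show Matrix.ProjGenLinGroup.mk
    (Matrix.SpecialLinearGroup.toGL (Matrix.SpecialLinearGroup.map ι x₀)) = _
  congr 1
  apply Matrix.GeneralLinearGroup.ext
  intro i j
  rfl

end key

/-- The image of `SL(2, F)` in `PGL(2, F)` is proper when `|F|` is odd. -/
theorem range_toPGL_ne_top {F : Type*} [Field F] [Fintype F] (hodd : Odd (Fintype.card F)) :
    (Matrix.ProjGenLinGroup.mk.comp Matrix.SpecialLinearGroup.toGL :
      SL(2, F) →* Matrix.ProjGenLinGroup (Fin 2) F).range ≠ ⊤ := by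
  intro htop
  have hch : ringChar F ≠ 2 := by
    intro h
    have h1 := FiniteField.even_card_of_char_two h
    rw [Nat.odd_iff] at hodd
    omega
  obtain ⟨a, ha⟩ := FiniteField.exists_nonsquare hch
  have ha0 : a ≠ 0 := by
    rintro rfl
    exact ha ⟨0, by simp⟩
  let g : GL (Fin 2) F := Matrix.GeneralLinearGroup.mkOfDetNeZero !![a, 0; 0, 1]
    (by simp [Matrix.det_fin_two, ha0])
  have hg : Matrix.ProjGenLinGroup.mk g ∈ (Matrix.ProjGenLinGroup.mk.comp
      Matrix.SpecialLinearGroup.toGL : SL(2, F) →* Matrix.ProjGenLinGroup (Fin 2) F).range := by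
    rw [htop]
    trivial
  obtain ⟨x₀, hx₀⟩ := hg
  rw [MonoidHom.comp_apply, Matrix.ProjGenLinGroup.mk_eq_mk_iff] at hx₀
  obtain ⟨u, hu⟩ := hx₀
  have hdet := congrArg (fun m : GL (Fin 2) F => (m : Matrix (Fin 2) (Fin 2) F).det) hu
  simp only [Matrix.GeneralLinearGroup.coe_mul, Matrix.det_mul,
    Matrix.SpecialLinearGroup.coe_GL_coe_matrix, Matrix.GeneralLinearGroup.coe_scalar] at hdet
  have h1 : (g : Matrix (Fin 2) (Fin 2) F).det = a := by
    show (!![a, 0; 0, 1] : Matrix (Fin 2) (Fin 2) F).det = a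
    simp [Matrix.det_fin_two]
  have h2 : (x₀ : Matrix (Fin 2) (Fin 2) F).det = 1 := x₀.2
  rw [h1, h2, one_mul] at hdet
  apply ha
  refine ⟨(u : F), ?_⟩
  rw [← hdet]
  simp [Matrix.det_fin_two, Matrix.scalar_apply]
  ring

/-- The abstract transfer. -/
theorem transfer_aux {F : Type*} [Field F] {F' : Type*} [Field F'] (ι : F →+* F')
    (k : Subfield F') (hk : k = ι.fieldRange)
    (e : ↥((Pk k).map (proj (F := F'))) ≃* Matrix.ProjGenLinGroup (Fin 2) F)
    (hkey : ∀ (x₀ : SL(2, F))
      (h : proj (Matrix.SpecialLinearGroup.map ι x₀) ∈ (Pk k).map (proj (F := F'))),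
      e ⟨_, h⟩ = Matrix.ProjGenLinGroup.mk (Matrix.SpecialLinearGroup.toGL x₀))
    (hLtop : (Matrix.ProjGenLinGroup.mk.comp Matrix.SpecialLinearGroup.toGL :
      SL(2, F) →* Matrix.ProjGenLinGroup (Fin 2) F).range ≠ ⊤)
    (M : Subgroup (Matrix.ProjGenLinGroup (Fin 2) F)) (hM : IsCoatom M)
    (hML : ¬ (Matrix.ProjGenLinGroup.mk.comp Matrix.SpecialLinearGroup.toGL).range ≤ M) :
    ∃ Y : Subgroup SL(2, F'), MaxIn k Y ∧ Nonempty (M ≃* Y.map (proj (F := F'))) := by
  classical
  have hPmem : ∀ y : SL(2, F'), proj y ∈ ((Pk k).map (proj (F := F'))) ↔ y ∈ Pk k := by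
    intro y
    constructor
    · intro h
      obtain ⟨z, hz, hzy⟩ := Subgroup.mem_map.mp h
      rcases (proj_eq_iff z y).mp hzy with h1 | h1
      · rw [← h1]; exact hz
      · have h3 : y = negOne * z := by
          rw [h1, ← mul_assoc, negOne_mul_negOne, one_mul]
        rw [h3]
        exact (Pk k).mul_mem (Sk_le_Pk k (negOne_mem_Sk k)) hz
    · intro h
      exact Subgroup.mem_map_of_mem _ h
  refine ⟨((M.comap e.toMonoidHom).map ((Pk k).map (proj (F := F'))).subtype).comap (proj (F := F')), ?_, ?_⟩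
  · have hYmem : ∀ y : SL(2, F'),
        y ∈ ((M.comap e.toMonoidHom).map ((Pk k).map (proj (F := F'))).subtype).comap (proj (F := F')) ↔
          ∃ h : proj y ∈ ((Pk k).map (proj (F := F'))), e ⟨proj y, h⟩ ∈ M := by
      intro y
      rw [Subgroup.mem_comap, Subgroup.mem_map]
      constructor
      · rintro ⟨m, hm, hmy⟩
        have hm' : e m ∈ M := hm
        have hy : proj y ∈ ((Pk k).map (proj (F := F'))) := by
          rw [← hmy]
          exact m.2
        refine ⟨hy, ?_⟩
        have e1 : (⟨proj y, hy⟩ : ↥((Pk k).map (proj (F := F')))) = m := Subtype.ext hmy.symm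
        rw [e1]
        exact hm'
      · rintro ⟨h, hm⟩
        exact ⟨⟨proj y, h⟩, hm, rfl⟩
    generalize ((M.comap e.toMonoidHom).map ((Pk k).map (proj (F := F'))).subtype).comap (proj (F := F')) = Y at hYmem
    have hnegY : negOne ∈ Y := by
      rw [hYmem]
      have h1 : proj (negOne : SL(2, F')) ∈ ((Pk k).map (proj (F := F'))) := by
        rw [proj_negOne]
        exact ((Pk k).map (proj (F := F'))).one_mem
      refine ⟨h1, ?_⟩
      have e1 : (⟨proj (negOne : SL(2, F')), h1⟩ : ↥((Pk k).map (proj (F := F')))) = 1 := Subtype.ext proj_negOne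
      rw [e1, map_one]
      exact M.one_mem
    have hsurj : ∀ m' ∈ M, ∃ y ∈ Y, ∃ h : proj y ∈ ((Pk k).map (proj (F := F'))), e ⟨proj y, h⟩ = m' := by
      intro m' hm'
      obtain ⟨y, hyP, hy⟩ := Subgroup.mem_map.mp (e.symm m').2
      have h : proj y ∈ ((Pk k).map (proj (F := F'))) := (hPmem y).mpr hyP
      have e1 : (⟨proj y, h⟩ : ↥((Pk k).map (proj (F := F')))) = e.symm m' := Subtype.ext hy
      have e2 : e ⟨proj y, h⟩ = m' := by rw [e1, MulEquiv.apply_symm_apply]
      exact ⟨y, (hYmem y).mpr ⟨h, e2 ▸ hm'⟩, h, e2⟩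
    have hrange : ∀ s ∈ Sk k, ∃ x₀ : SL(2, F), Matrix.SpecialLinearGroup.map ι x₀ = s := by
      intro s hs
      rw [hk, ← range_map] at hs
      exact hs
    have hmapmem : ∀ x₀ : SL(2, F), Matrix.SpecialLinearGroup.map ι x₀ ∈ Sk k := by
      intro x₀
      rw [hk, ← range_map]
      exact ⟨x₀, rfl⟩
    refine ⟨fun y hy => ?_, hnegY, ?_, ?_, ?_⟩
    · obtain ⟨h, -⟩ := (hYmem y).mp hy
      exact (hPmem y).mp h
    · -- not contained in `Sk k`
      intro hle
      have hML' : M ≤ (Matrix.ProjGenLinGroup.mk.comp Matrix.SpecialLinearGroup.toGL :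
          SL(2, F) →* Matrix.ProjGenLinGroup (Fin 2) F).range := by
        intro m' hm'
        obtain ⟨y, hyY, h, hym⟩ := hsurj m' hm'
        obtain ⟨x₀, hx₀⟩ := hrange y (hle hyY)
        subst hx₀
        rw [hkey x₀ h] at hym
        exact ⟨x₀, hym⟩
      rcases eq_or_lt_of_le hML' with h1 | h1
      · exact hML (le_of_eq h1.symm)
      · exact hLtop (hM.2 _ h1)
    · -- does not contain `Sk k`
      intro hge
      apply hML
      rintro ℓ ⟨x₀, rfl⟩
      obtain ⟨h, hm⟩ := (hYmem _).mp (hge (hmapmem x₀))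
      rw [hkey x₀ h] at hm
      exact hm
    · -- maximality
      intro Z hYZ hZP
      have hM' : M ≤ ((Z.map (proj (F := F'))).subgroupOf ((Pk k).map (proj (F := F')))).map e.toMonoidHom := by
        intro m' hm'
        obtain ⟨y, hyY, h, hym⟩ := hsurj m' hm'
        rw [Subgroup.mem_map]
        refine ⟨⟨proj y, h⟩, ?_, hym⟩
        rw [Subgroup.mem_subgroupOf]
        exact Subgroup.mem_map_of_mem _ (hYZ hyY)
      rcases eq_or_lt_of_le hM' with h1 | h1
      · left
        apply le_antisymm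
        · intro z hz
          have h : proj z ∈ ((Pk k).map (proj (F := F'))) := (hPmem z).mpr (hZP hz)
          rw [hYmem]
          refine ⟨h, ?_⟩
          rw [h1, Subgroup.mem_map]
          refine ⟨⟨proj z, h⟩, ?_, rfl⟩
          rw [Subgroup.mem_subgroupOf]
          exact Subgroup.mem_map_of_mem _ hz
        · exact hYZ
      · right
        have htop := hM.2 _ h1
        apply le_antisymm hZP
        intro x hx
        have h : proj x ∈ ((Pk k).map (proj (F := F'))) := (hPmem x).mpr hx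
        have h2 : e ⟨proj x, h⟩ ∈ ((Z.map (proj (F := F'))).subgroupOf ((Pk k).map (proj (F := F')))).map e.toMonoidHom := by
          rw [htop]
          trivial
        obtain ⟨w, hw, hwe⟩ := Subgroup.mem_map.mp h2
        have hwx : w = ⟨proj x, h⟩ := e.injective hwe
        rw [hwx, Subgroup.mem_subgroupOf] at hw
        obtain ⟨z, hz, hzx⟩ := Subgroup.mem_map.mp hw
        rcases (proj_eq_iff z x).mp hzx with h3 | h3
        · rw [← h3]; exact hz
        · have h4 : x = negOne * z := by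
            rw [h3, ← mul_assoc, negOne_mul_negOne, one_mul]
          rw [h4]
          exact Z.mul_mem (hYZ hnegY) hz
  · have h1 : (((M.comap e.toMonoidHom).map ((Pk k).map (proj (F := F'))).subtype).comap (proj (F := F'))).map
        (proj (F := F')) = (M.comap e.toMonoidHom).map ((Pk k).map (proj (F := F'))).subtype :=
      Subgroup.map_comap_eq_self_of_surjective proj_surj _
    have h2 : (M.comap e.toMonoidHom).map e.toMonoidHom = M :=
      Subgroup.map_comap_eq_self_of_surjective e.surjective M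
    exact ⟨((MulEquiv.subgroupCongr h2).symm.trans
      (e.subgroupMap (M.comap e.toMonoidHom)).symm).trans
      ((Subgroup.equivMapOfInjective _ ((Pk k).map (proj (F := F'))).subtype ((Pk k).map (proj (F := F'))).subtype_injective).trans
        (MulEquiv.subgroupCongr h1.symm))⟩

/-- Piece T. -/
theorem transfer {F : Type*} [Field F] [Fintype F] (hodd : Odd (Fintype.card F))
    (M : Subgroup (Matrix.ProjGenLinGroup (Fin 2) F)) (hM : IsCoatom M)
    (hML : ¬ (Matrix.ProjGenLinGroup.mk.comp Matrix.SpecialLinearGroup.toGL).range ≤ M) :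
    ∃ (F' : Type) (_ : Field F') (_ : Fintype F') (k : Subfield F') (Y : Subgroup SL(2, F')),
      (2 : F') ≠ 0 ∧ Nat.card k = Fintype.card F ∧ MaxIn k Y ∧
        Nonempty (M ≃* Y.map (proj (F := F'))) := by
  classical
  obtain ⟨p, hp⟩ := CharP.exists F
  haveI := hp
  haveI : Fact p.Prime := ⟨CharP.char_is_prime F p⟩
  obtain ⟨n, hpp, hn⟩ := FiniteField.card F p
  obtain ⟨F', hField, hFin, hF'⟩ : ∃ (F' : Type) (_ : Field F') (_ : Fintype F'),
      Fintype.card F' = Fintype.card F ^ 2 := by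
    refine ⟨GaloisField p (2 * n), inferInstance, Fintype.ofFinite _, ?_⟩
    rw [Fintype.card_eq_nat_card, GaloisField.card p (2 * n) (by positivity), hn, ← pow_mul,
      mul_comm]
  generalize hq : Fintype.card F = q at hF' hodd
  have hF'n : Nat.card F' = Nat.card F ^ 2 := by
    rw [Nat.card_eq_fintype_card, Nat.card_eq_fintype_card, hF', hq]
  obtain ⟨ι⟩ := exists_ringHom 2 hF'n
  have hkc : Nat.card ι.fieldRange = q := by
    have e : F ≃ ι.fieldRange := Equiv.ofBijective (fun x => ⟨ι x, x, rfl⟩)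
      ⟨fun x y h => ι.injective (congrArg Subtype.val h), fun ⟨y, x, hx⟩ => ⟨x, Subtype.ext hx⟩⟩
    rw [← Nat.card_congr e, Nat.card_eq_fintype_card, hq]
  have hch : ringChar F' ≠ 2 := by
    intro h
    have h1 := FiniteField.even_card_of_char_two h
    rw [hF'] at h1
    have h2 : Odd (q ^ 2) := hodd.pow
    rw [Nat.odd_iff] at h2
    omega
  have h2 : (2 : F') ≠ 0 := Ring.two_ne_zero hch
  haveI : Fintype ι.fieldRange := Fintype.ofFinite _
  have hsqrt : ∀ s ∈ ι.fieldRange, ∃ σ : F', σ ^ 2 = s := by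
    intro s hs
    by_cases hs0 : s = 0
    · exact ⟨0, by rw [hs0]; ring⟩
    · have h1 : s ^ (q - 1) = 1 := by
        have h := FiniteField.pow_card_sub_one_eq_one (⟨s, hs⟩ : ι.fieldRange)
          (fun h => hs0 (congrArg Subtype.val h))
        rw [← Nat.card_eq_fintype_card, hkc] at h
        have h' := congrArg Subtype.val h
        simpa using h'
      have hsq : IsSquare s := by
        rw [FiniteField.isSquare_iff hch hs0, hF']
        obtain ⟨m, hm⟩ := hodd
        have h3 : q ^ 2 / 2 = (q - 1) * (m + 1) := by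
          subst hm
          have : (2 * m + 1) ^ 2 = 2 * ((2 * m + 1 - 1) * (m + 1)) + 1 := by
            simp only [Nat.add_sub_cancel]
            ring
          rw [this]
          omega
        rw [h3, pow_mul, h1, one_pow]
      obtain ⟨σ, hσ⟩ := hsq
      exact ⟨σ, by rw [hσ]; ring⟩
  have hoddF : Odd (Fintype.card F) := by rw [hq]; exact hodd
  obtain ⟨Y, hY, hiso⟩ := transfer_aux ι ι.fieldRange rfl (pglIso ι hsqrt)
    (fun x₀ h => pglIso_map ι hsqrt x₀ h) (range_toPGL_ne_top hoddF) M hM hML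
  exact ⟨F', hField, hFin, ι.fieldRange, Y, h2, hkc, hY, hiso⟩

end Cfsg.Agent.Lib.Helper69.PglTransfer
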