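import Mathlib
import Cfsg.Agent.Lib.Helper25.ACStmt
import Cfsg.Agent.Lib.Helper25.ACOddStmt

set_option autoImplicit false

namespace Cfsg.Agent.Lib.Helper69.AOCYCSTEP

open Cfsg.Agent.Lib.Helper25.ACStmt Cfsg.Agent.Lib.Helper25.ACOddStmt

universe u

/-- a non-generating element of a finite `p`-group lies in a proper normal subgroup containing
all `p`-th powers (a subgroup of index `p`) -/
theorem exists_index_p (P : Type u) [Group P] [Finite P] (p : ℕ) [Fact p.Prime]
    (hP : IsPGroup p P) (x : P) (hx : Subgroup.zpowers x ≠ ⊤) :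
    ∃ K : Subgroup P, x ∈ K ∧ K.Normal ∧ K ≠ ⊤ ∧ ∀ y : P, y ^ p ∈ K := by
  have hp : p.Prime := Fact.out
  obtain ⟨n, hn⟩ := IsPGroup.iff_card.mp hP
  obtain ⟨m, hm⟩ := IsPGroup.iff_card.mp (hP.to_subgroup (Subgroup.zpowers x))
  have hmn : m < n := by
    by_contra h0
    have h : n ≤ m := not_lt.mp h0
    have h1 : Nat.card (Subgroup.zpowers x) ∣ Nat.card P := Subgroup.card_subgroup_dvd_card _
    rw [hm, hn] at h1
    have h2 : m ≤ n := (Nat.pow_dvd_pow_iff_le_right hp.one_lt).mp h1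
    have h3 : m = n := le_antisymm h2 h
    apply hx
    apply Subgroup.eq_top_of_card_eq
    rw [hm, hn, h3]
  obtain ⟨k, rfl⟩ : ∃ k, n = k + 1 := ⟨n - 1, by omega⟩
  obtain ⟨K, hK, hle⟩ := Sylow.exists_subgroup_card_pow_prime_le p (n := m) (m := k)
    (by rw [hn]; exact pow_dvd_pow p (Nat.le_succ k)) (Subgroup.zpowers x) hm (by omega)
  have hidx : K.index = p := by
    have h := K.card_mul_index
    rw [hK, hn, pow_succ] at h
    exact Nat.eq_of_mul_eq_mul_left (pow_pos hp.pos k) h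
  have hnorm : K.Normal :=
    Subgroup.normal_of_index_eq_minFac_card
      (by rw [hidx, hn, Nat.Prime.pow_minFac hp (Nat.succ_ne_zero k)])
  refine ⟨K, hle (Subgroup.mem_zpowers x), hnorm, ?_, ?_⟩
  · intro h
    rw [h, Subgroup.index_top] at hidx
    exact hp.one_lt.ne hidx
  · intro y
    have h1 : ((y : P ⧸ K)) ^ p = 1 := by
      have h2 := pow_card_eq_one' (G := P ⧸ K) (x := (y : P ⧸ K))
      rwa [← Subgroup.index_eq_card, hidx] at h2
    rw [← QuotientGroup.mk_pow] at h1
    exact (QuotientGroup.eq_one_iff _).mp h1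

theorem main : CycStep.{u} := by
  intro P _ _ p _ _ hP N _ hNu hcyc a b
  by_cases hab : a * b = b * a
  · have h1 : a * b * a⁻¹ * b⁻¹ = 1 := by rw [hab]; group
    rw [h1]; exact N.one_mem
  have hza : Subgroup.zpowers a ≠ ⊤ := by
    intro h
    apply hab
    have ha : b ∈ Subgroup.zpowers a := by rw [h]; trivial
    obtain ⟨k, rfl⟩ := ha
    exact ((Commute.refl a).zpow_right k).eq
  have hzb : Subgroup.zpowers b ≠ ⊤ := by
    intro h
    apply hab
    have ha : a ∈ Subgroup.zpowers b := by rw [h]; trivial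
    obtain ⟨k, rfl⟩ := ha
    exact ((Commute.refl b).zpow_left k).eq
  obtain ⟨A, haA, hAn, hAt, -⟩ := exists_index_p P p hP a hza
  obtain ⟨B, hbB, -, hBt, hBp⟩ := exists_index_p P p hP b hzb
  have hAc : IsCyclic ↥A := hcyc A hAt
  have hBc : IsCyclic ↥B := hcyc B hBt
  obtain ⟨c, hc⟩ : ∃ c, c = a * b * a⁻¹ * b⁻¹ := ⟨_, rfl⟩
  rw [← hc]
  have hcA : c ∈ A := by
    have h1 : c = a * (b * a⁻¹ * b⁻¹) := by rw [hc]; group
    rw [h1]
    exact A.mul_mem haA (hAn.conj_mem _ (A.inv_mem haA) b)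
  have hca : a * c = c * a := by
    have h1 := Std.Commutative.comm (op := (· * · : ↥A → ↥A → ↥A)) ⟨a, haA⟩ ⟨c, hcA⟩
    exact congrArg Subtype.val h1
  have hapb : a ^ p * b = b * a ^ p := by
    have h1 := Std.Commutative.comm (op := (· * · : ↥B → ↥B → ↥B)) ⟨a ^ p, hBp a⟩ ⟨b, hbB⟩
    exact congrArg Subtype.val h1
  have hab' : a * b = c * b * a := by rw [hc]; group
  have key : ∀ k : ℕ, a ^ k * b = c ^ k * b * a ^ k := by
    intro k
    induction k with
    | zero => simp
    | succ k ih =>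
      have hck : a * c ^ k = c ^ k * a := ((show Commute a c from hca).pow_right k).eq
      calc a ^ (k + 1) * b = a * (a ^ k * b) := by rw [pow_succ', mul_assoc]
        _ = a * (c ^ k * b * a ^ k) := by rw [ih]
        _ = (a * c ^ k) * b * a ^ k := by simp only [mul_assoc]
        _ = c ^ k * (a * b) * a ^ k := by rw [hck]; simp only [mul_assoc]
        _ = c ^ k * (c * b * a) * a ^ k := by rw [hab']
        _ = c ^ (k + 1) * b * a ^ (k + 1) := by rw [pow_succ, pow_succ']; simp only [mul_assoc]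
  have hcp : c ^ p = 1 := by
    have h1 := key p
    rw [hapb] at h1
    have h2 : 1 * (b * a ^ p) = c ^ p * (b * a ^ p) := by rw [one_mul, ← mul_assoc]; exact h1
    exact (mul_right_cancel h2).symm
  by_cases hc1 : c = 1
  · rw [hc1]; exact N.one_mem
  · exact hNu c (orderOf_eq_prime hcp hc1)

end Cfsg.Agent.Lib.Helper69.AOCYCSTEP
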