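import Cfsg.Agent.Lib.Helper30.CTIStmt

/-!
# S4064 piece DEG (call of helper30): `|G : H| = |M| + 1`
-/

set_option autoImplicit false
universe u

namespace Cfsg.Agent.Lib.Helper69.CTIDEG

open Cfsg.Agent.Lib.Helper30

theorem main : CTIStmt.DEG.{u} := by
  intro G _ _ M hZ hZ2
  classical
  obtain ⟨g, hg⟩ : ∃ g : G, g ∉ CTIStmt.NM M := by
    by_contra hcon
    push Not at hcon
    exact hZ.se.1 (eq_top_iff.mpr (fun x _ => hcon x))
  have hx : ((g : G) : G ⧸ CTIStmt.NM M) ≠ ((1 : G) : G ⧸ CTIStmt.NM M) := by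
    intro h
    rw [QuotientGroup.eq] at h
    apply hg
    have := inv_mem h
    simpa using this
  obtain ⟨u, hu2, hux⟩ := hZ.swap ((1 : G) : G ⧸ CTIStmt.NM M) (g : G ⧸ CTIStmt.NM M) (Ne.symm hx)
  have huH : u ∉ CTIStmt.NM M := by
    intro hu
    apply hx
    rw [← hux]
    show ((u * 1 : G) : G ⧸ CTIStmt.NM M) = ((1 : G) : G ⧸ CTIStmt.NM M)
    rw [QuotientGroup.eq]
    have := inv_mem hu
    simpa using this
  -- the stabilizer of `↑u` in `H`
  have hmap : (MulAction.stabilizer ↥(CTIStmt.NM M) ((u : G) : G ⧸ CTIStmt.NM M)).map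
      (CTIStmt.NM M).subtype = CTIStmt.DU (CTIStmt.NM M) u := by
    ext x
    rw [Subgroup.mem_map, Subgroup.mem_inf, Subgroup.mem_map]
    constructor
    · rintro ⟨y, hy, rfl⟩
      refine ⟨y.2, u⁻¹ * (y : G) * u, ?_, ?_⟩
      · rw [MulAction.mem_stabilizer_iff] at hy
        have hy' : (((y : G) * u : G) : G ⧸ CTIStmt.NM M) = ((u : G) : G ⧸ CTIStmt.NM M) := hy
        rw [QuotientGroup.eq] at hy'
        have := inv_mem hy'
        simpa [mul_assoc] using this
      · simp [mul_assoc]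
    · rintro ⟨hxH, h, hh, rfl⟩
      refine ⟨⟨_, hxH⟩, ?_, rfl⟩
      rw [MulAction.mem_stabilizer_iff]
      show (((u * h * u⁻¹) * u : G) : G ⧸ CTIStmt.NM M) = ((u : G) : G ⧸ CTIStmt.NM M)
      rw [QuotientGroup.eq]
      have := inv_mem hh
      simpa [mul_assoc] using this
  have hS : Nat.card (MulAction.stabilizer ↥(CTIStmt.NM M) ((u : G) : G ⧸ CTIStmt.NM M))
      = CTIStmt.nInv (CTIStmt.NM M) := by
    rw [← hZ.dcard u hu2 huH, ← hmap,
      Subgroup.card_map_of_injective (Subgroup.subtype_injective _)]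
  -- the orbit of `↑u` under `H`
  have horb : MulAction.orbit ↥(CTIStmt.NM M) ((u : G) : G ⧸ CTIStmt.NM M)
      = ({((1 : G) : G ⧸ CTIStmt.NM M)} : Set (G ⧸ CTIStmt.NM M))ᶜ := by
    ext y
    rw [Set.mem_compl_iff, Set.mem_singleton_iff]
    constructor
    · rintro ⟨h, rfl⟩ h1
      apply huH
      have h1' : (((h : G) * u : G) : G ⧸ CTIStmt.NM M) = ((1 : G) : G ⧸ CTIStmt.NM M) := h1
      rw [QuotientGroup.eq] at h1'
      have h2 := inv_mem h1'
      have h3 : (h : G) * u ∈ CTIStmt.NM M := by simpa using h2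
      have h4 := mul_mem (inv_mem h.2) h3
      simpa using h4
    · intro hy
      have hu1 : ((u : G) : G ⧸ CTIStmt.NM M) ≠ ((1 : G) : G ⧸ CTIStmt.NM M) := by
        intro h1
        rw [QuotientGroup.eq] at h1
        apply huH
        have := inv_mem h1
        simpa using this
      obtain ⟨h, hh, hhy⟩ := hZ2 _ y hu1 hy
      exact ⟨⟨h, hh⟩, hhy⟩
  have hidx := MulAction.index_stabilizer ↥(CTIStmt.NM M) ((u : G) : G ⧸ CTIStmt.NM M)
  rw [horb, Set.ncard_compl, Set.ncard_singleton] at hidx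
  have hmul := Subgroup.card_mul_index
    (MulAction.stabilizer ↥(CTIStmt.NM M) ((u : G) : G ⧸ CTIStmt.NM M))
  rw [hS, hidx, hZ.hcard, mul_comm] at hmul
  have hn : 0 < CTIStmt.nInv (CTIStmt.NM M) := by
    have := hZ.i2
    omega
  have h5 : Nat.card (G ⧸ CTIStmt.NM M) - 1 = Nat.card M := Nat.eq_of_mul_eq_mul_right hn hmul
  have h6 : 0 < Nat.card (G ⧸ CTIStmt.NM M) := Nat.card_pos
  omega

end Cfsg.Agent.Lib.Helper69.CTIDEG
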