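import Mathlib
import Cfsg.Agent.Lib.Helper32.D8Stmt

/-!
# S3716 / TI (second seat): `T` is a TI-subgroup with normalizer `N`.
-/

set_option autoImplicit false

namespace Cfsg.Agent.Lib.Helper69.D8TI

open Cfsg Cfsg.Agent.Lib.Helper32

universe u

/-- An element of `N` of order dividing 9 lies in `T` (`T` normal of index 8 in `N`). -/
theorem mem_T_of_pow9 {G : Type u} [Group G] [Finite G] {T N : Subgroup G}
    (hTN : T ≤ N) (cardT : Nat.card T = 9) (cardN : Nat.card N = 72)
    (nT : ∀ n ∈ N, ∀ t ∈ T, n * t * n⁻¹ ∈ T) (u : G) (hu : u ∈ N) (hu9 : u ^ 9 = 1) :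
    u ∈ T := by
  have hnorm : (T.subgroupOf N).Normal := by
    refine ⟨fun n hn m => ?_⟩
    rw [Subgroup.mem_subgroupOf] at hn ⊢
    simpa using nT m.1 m.2 n.1 hn
  have hcard : Nat.card (T.subgroupOf N) = 9 := by
    rw [Nat.card_congr (Subgroup.subgroupOfEquivOfLe hTN).toEquiv, cardT]
  have hidx : (T.subgroupOf N).index = 8 := by
    have h := Subgroup.card_mul_index (T.subgroupOf N)
    rw [hcard, cardN] at h
    omega
  have h8 := Subgroup.pow_index_mem (T.subgroupOf N) (⟨u, hu⟩ : N)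
  rw [hidx, Subgroup.mem_subgroupOf] at h8
  have h8' : u ^ 8 ∈ T := by simpa using h8
  have : u = (u ^ 8)⁻¹ := by
    rw [eq_inv_iff_mul_eq_one, ← pow_succ', hu9]
  rw [this]
  exact T.inv_mem h8'

theorem main : D8Stmt.TI.{u} := by
  intro G _ _ T N x y a b w hC g t ht ht1 hgt
  have : Fact (Nat.Prime 3) := ⟨by norm_num⟩
  have hcommI : IsMulCommutative T :=
    IsPGroup.isMulCommutative_of_card_eq_prime_sq (p := 3) (by rw [hC.cardT]; norm_num)
  have hcomm : ∀ a b : T, a * b = b * a := fun a b => hcommI.is_comm.comm a b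
  have ht1' : g * t * g⁻¹ ≠ 1 := by
    intro h
    apply ht1
    have : t = g⁻¹ * (g * t * g⁻¹) * g := by group
    rw [this, h]; group
  apply hC.norm
  intro s hs
  have hst : s * t = t * s := by
    have := hcomm ⟨s, hs⟩ ⟨t, ht⟩
    exact congrArg Subtype.val this
  have hN : g * s * g⁻¹ ∈ N := by
    apply hC.loc _ hgt ht1'
    calc g * s * g⁻¹ * (g * t * g⁻¹) = g * (s * t) * g⁻¹ := by group
      _ = g * (t * s) * g⁻¹ := by rw [hst]
      _ = g * t * g⁻¹ * (g * s * g⁻¹) := by group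
  have hs9 : s ^ 9 = 1 := by
    have := pow_card_eq_one' (G := T) (x := ⟨s, hs⟩)
    rw [hC.cardT] at this
    exact congrArg Subtype.val this
  apply mem_T_of_pow9 hC.TN hC.cardT hC.cardN hC.nT _ hN
  rw [conj_pow, hs9]; group

end Cfsg.Agent.Lib.Helper69.D8TI
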