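import Mathlib
import Cfsg.Agent.Lib.Helper23.HNStmt

set_option autoImplicit false

namespace Cfsg.Agent.Lib.Helper69.HNHNU

open Cfsg.Agent.Lib.Helper23.HNStmt

universe u

/-- an element of `L` killed by `|A|` lies in the normal Hall subgroup `A` of `L` -/
theorem mem_of_pow {Γ : Type*} [Group Γ] [Finite Γ] (A L : Subgroup Γ)
    (hLn : L ≤ Subgroup.normalizer (A : Set Γ))
    (hcop : (Nat.card A).Coprime (A.relIndex L)) (b : Γ) (hbL : b ∈ L)
    (hb : b ^ Nat.card A = 1) : b ∈ A := by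
  have : (A.subgroupOf L).Normal := Subgroup.normal_subgroupOf_of_le_normalizer hLn
  have h1 : ((⟨b, hbL⟩ : ↥L) : ↥L ⧸ A.subgroupOf L) ^ Nat.card A = 1 := by
    rw [← QuotientGroup.mk_pow]
    have h0 : (⟨b, hbL⟩ : ↥L) ^ Nat.card A = 1 := Subtype.ext (by simpa using hb)
    rw [h0]; rfl
  have h2 : ((⟨b, hbL⟩ : ↥L) : ↥L ⧸ A.subgroupOf L) ^ (A.relIndex L) = 1 := by
    have h0 := pow_card_eq_one' (G := ↥L ⧸ A.subgroupOf L)
      (x := ((⟨b, hbL⟩ : ↥L) : ↥L ⧸ A.subgroupOf L))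
    rw [← Subgroup.index_eq_card] at h0
    exact h0
  have h3 := pow_gcd_eq_one.mpr ⟨h1, h2⟩
  rw [Nat.Coprime.gcd_eq_one hcop, pow_one] at h3
  have h4 : (⟨b, hbL⟩ : ↥L) ∈ A.subgroupOf L := (QuotientGroup.eq_one_iff _).mp h3
  exact Subgroup.mem_subgroupOf.mp h4

theorem main : HallNilUniq.{u} := by
  intro G _ _ N A B hN hAN hBN hcard hcop
  have hNn : Group.IsNilpotent ↥N := hN
  have hcA : Nat.card ↥(A.subgroupOf N) = Nat.card A :=
    Nat.card_congr (Subgroup.subgroupOfEquivOfLe hAN).toEquiv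
  have hcop' : (Nat.card ↥(A.subgroupOf N)).Coprime (A.subgroupOf N).index := by
    rw [hcA]; exact hcop
  -- Step 1: `A` is normal in `N`
  have hnorm : Subgroup.normalizer ((A.subgroupOf N : Subgroup ↥N) : Set ↥N) = ⊤ := by
    by_contra hne
    have hlt : Subgroup.normalizer ((A.subgroupOf N : Subgroup ↥N) : Set ↥N) < ⊤ :=
      lt_top_iff_ne_top.mpr hne
    have hlt2 := Group.normalizerCondition_of_isNilpotent (G := ↥N) _ hlt
    obtain ⟨g, hg, hgL⟩ := SetLike.exists_of_lt hlt2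
    apply hgL
    apply Subgroup.mem_normalizer_fintype
    intro a ha
    refine mem_of_pow (A.subgroupOf N)
      (Subgroup.normalizer ((A.subgroupOf N : Subgroup ↥N) : Set ↥N)) le_rfl ?_ (g * a * g⁻¹) ?_ ?_
    · exact Nat.Coprime.coprime_dvd_right
        (Dvd.intro _ (Subgroup.relIndex_mul_index Subgroup.le_normalizer)) hcop'
    · exact (Subgroup.mem_normalizer_iff.mp hg a).mp (Subgroup.le_normalizer ha)
    · rw [conj_pow]
      have h0 : a ^ Nat.card ↥(A.subgroupOf N) = 1 := by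
        have h1 := pow_card_eq_one' (G := ↥(A.subgroupOf N)) (x := ⟨a, ha⟩)
        exact congrArg Subtype.val h1
      rw [h0]; group
  -- Step 2: `B ≤ A`
  have hBA : B ≤ A := by
    intro b hb
    have hbN : b ∈ N := hBN hb
    have hbpow : b ^ Nat.card A = 1 := by
      rw [hcard]
      have h1 := pow_card_eq_one' (G := ↥B) (x := ⟨b, hb⟩)
      exact congrArg Subtype.val h1
    have h2 : (⟨b, hbN⟩ : ↥N) ∈ A.subgroupOf N := by
      refine mem_of_pow (A.subgroupOf N) ⊤ (by rw [hnorm]) ?_ _ (Subgroup.mem_top _) ?_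
      · rw [Subgroup.relIndex_top_right]; exact hcop'
      · rw [hcA]; exact Subtype.ext (by simpa using hbpow)
    exact Subgroup.mem_subgroupOf.mp h2
  exact (Subgroup.eq_of_le_of_card_ge hBA (le_of_eq hcard)).symm

end Cfsg.Agent.Lib.Helper69.HNHNU
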