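import Mathlib

set_option autoImplicit false

namespace Cfsg.Agent.Lib.Helper69.PElem

variable {G : Type*} [Group G]

theorem mem_smul_sylow {p : ℕ} (P : Sylow p G) (g x : G) :
    x ∈ ((g • P : Sylow p G) : Subgroup G) ↔ g⁻¹ * x * g ∈ (P : Subgroup G) := by
  rw [Sylow.coe_subgroup_smul, Subgroup.mem_pointwise_smul_iff_inv_smul_mem]
  simp [MulAut.smul_def, mul_assoc]

/-- For a normal subgroup `N` and a Sylow `p`-subgroup `P` of `G`, `P ∩ N` has order `|N|_p`. -/
theorem card_sylow_inf_normal [Finite G] {p : ℕ} [Fact p.Prime] (P : Sylow p G)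
    (N : Subgroup G) [N.Normal] :
    Nat.card ((P : Subgroup G) ⊓ N : Subgroup G) = p ^ (Nat.card N).factorization p := by
  obtain ⟨Q₀⟩ : Nonempty (Sylow p N) := inferInstance
  obtain ⟨P', hP'⟩ := Q₀.exists_comap_subtype_eq
  obtain ⟨g, rfl⟩ := MulAction.exists_smul_eq G P' P
  rw [← Q₀.card_eq_multiplicity]
  have h1 : Nat.card (((g • P' : Sylow p G) : Subgroup G) ⊓ N : Subgroup G)
      = Nat.card ((((g • P' : Sylow p G) : Subgroup G) ⊓ N).subgroupOf N) :=
    (Nat.card_congr (Subgroup.subgroupOfEquivOfLe inf_le_right).toEquiv).symm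
  rw [h1, Subgroup.inf_subgroupOf_right]
  have h2 : ((Q₀ : Subgroup N) : Subgroup N) = (P' : Subgroup G).subgroupOf N := by
    rw [← hP']; rfl
  rw [h2]
  -- conjugation by g is a bijection between P' ∩ N and gP'g⁻¹ ∩ N
  refine Nat.card_congr (Equiv.ofBijective
    (fun n : (((g • P' : Sylow p G) : Subgroup G).subgroupOf N) =>
      (⟨⟨g⁻¹ * (n.1 : G) * g, ?_⟩, ?_⟩ : ((P' : Subgroup G).subgroupOf N))) ⟨?_, ?_⟩)
  · have := ‹N.Normal›.conj_mem _ n.1.2 g⁻¹
    simpa using this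
  · rw [Subgroup.mem_subgroupOf]
    have hn : (n.1 : G) ∈ ((g • P' : Sylow p G) : Subgroup G) := Subgroup.mem_subgroupOf.1 n.2
    exact (mem_smul_sylow P' g _).1 hn
  · intro a b h
    simp only [Subtype.mk.injEq] at h
    have : (a.1 : G) = b.1 := mul_left_cancel (mul_right_cancel h)
    exact Subtype.ext (Subtype.ext this)
  · rintro ⟨⟨m, hmN⟩, hm⟩
    rw [Subgroup.mem_subgroupOf] at hm
    simp only at hm
    refine ⟨⟨⟨g * m * g⁻¹, ‹N.Normal›.conj_mem _ hmN g⟩, ?_⟩, ?_⟩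
    · rw [Subgroup.mem_subgroupOf, mem_smul_sylow]
      simpa [mul_assoc] using hm
    · apply Subtype.ext
      apply Subtype.ext
      simp [mul_assoc]

/-- Every element of `p`-power order of `G ⧸ N` lifts to an element of `p`-power order. -/
theorem exists_pElement_lift [Finite G] {p : ℕ} [hp : Fact p.Prime] (N : Subgroup G) [N.Normal]
    (u : G ⧸ N) (hu : ∃ k : ℕ, orderOf u = p ^ k) :
    ∃ x : G, (x : G ⧸ N) = u ∧ ∃ k : ℕ, orderOf x = p ^ k := by
  obtain ⟨j, hj⟩ := hu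
  obtain ⟨y, rfl⟩ := QuotientGroup.mk_surjective u
  have hy0 : orderOf y ≠ 0 := (orderOf_pos y).ne'
  obtain ⟨a, b, hb, hab⟩ := Nat.exists_eq_pow_mul_and_not_dvd hy0 p hp.out.ne_one
  have hcop : Nat.Coprime b (p ^ j) :=
    Nat.Coprime.pow_right _ ((Nat.Prime.coprime_iff_not_dvd hp.out).2 hb).symm
  have htot := Nat.ModEq.pow_totient hcop
  have hpos : 0 < Nat.totient (p ^ j) := Nat.totient_pos.2 (pow_pos hp.out.pos _)
  refine ⟨y ^ (b ^ Nat.totient (p ^ j)), ?_, ?_⟩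
  · rw [QuotientGroup.mk_pow]
    conv_rhs => rw [← pow_one (y : G ⧸ N)]
    rw [pow_eq_pow_iff_modEq, hj]
    exact htot
  · have h1 : (y ^ (b ^ Nat.totient (p ^ j))) ^ (p ^ a) = 1 := by
      rw [← pow_mul]
      apply orderOf_dvd_iff_pow_eq_one.1
      rw [hab]
      obtain ⟨t, ht⟩ := Nat.exists_eq_succ_of_ne_zero hpos.ne'
      rw [ht, pow_succ]
      exact ⟨b ^ t, by ring⟩
    exact (Nat.dvd_prime_pow hp.out).1 (orderOf_dvd_of_pow_eq_one h1) |>.imp fun _ h => h.2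

/-- The order of a Sylow subgroup of `G` in terms of one of `G ⧸ N`. -/
theorem card_sylow_eq_card_sylow_quotient_mul [Finite G] {p : ℕ} [hp : Fact p.Prime]
    (N : Subgroup G) [N.Normal] (P : Sylow p G) (Pbar : Sylow p (G ⧸ N)) :
    Nat.card (P : Subgroup G) = Nat.card (Pbar : Subgroup (G ⧸ N)) *
      p ^ (Nat.card N).factorization p := by
  rw [P.card_eq_multiplicity, Pbar.card_eq_multiplicity, ← pow_add,
    Subgroup.card_eq_card_quotient_mul_card_subgroup N,
    Nat.factorization_mul Nat.card_pos.ne' Nat.card_pos.ne']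
  rfl

end Cfsg.Agent.Lib.Helper69.PElem
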