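import Mathlib
import Cfsg.Agent.Lib.Helper69.PNil
import Cfsg.Agent.Lib.Helper69.PElem

set_option autoImplicit false

namespace Cfsg.Agent.Lib.Helper69.ItoA

open Cfsg.Agent.Lib.Helper69

variable {G : Type*} [Group G]

/-- commuting elements of coprime orders: the first is a power of the product -/
theorem exists_pow_eq_left [Finite G] (x y : G) (hxy : Commute x y)
    (hcop : (orderOf x).Coprime (orderOf y)) : ∃ m : ℕ, (x * y) ^ m = x := by
  obtain ⟨m, hm1, hm2⟩ := Nat.chineseRemainder hcop 1 0
  refine ⟨m, ?_⟩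
  rw [hxy.mul_pow]
  have h1 : x ^ m = x := by
    conv_rhs => rw [← pow_one x]
    rw [pow_eq_pow_iff_modEq]; exact hm1
  have h2 : y ^ m = 1 := by
    rw [← pow_zero y, pow_eq_pow_iff_modEq]; exact hm2
  rw [h1, h2, mul_one]

theorem centralizer_mul_of_coprime [Finite G] (x y : G) (hxy : Commute x y)
    (hcop : (orderOf x).Coprime (orderOf y)) :
    Subgroup.centralizer ({x * y} : Set G) =
      Subgroup.centralizer ({x} : Set G) ⊓ Subgroup.centralizer ({y} : Set G) := by
  obtain ⟨m, hm⟩ := exists_pow_eq_left x y hxy hcop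
  ext w
  rw [Subgroup.mem_inf, Subgroup.mem_centralizer_iff, Subgroup.mem_centralizer_iff,
    Subgroup.mem_centralizer_iff]
  constructor
  · intro h
    have h1 := h _ rfl
    have hx1 : x * w = w * x := by
      have : Commute (x * y) w := h1
      have := this.pow_left m
      rw [hm] at this
      exact this
    refine ⟨fun z hz => by rw [Set.mem_singleton_iff] at hz; rw [hz]; exact hx1, ?_⟩
    intro z hz
    rw [Set.mem_singleton_iff] at hz
    rw [hz]
    have hxinv : x⁻¹ * w = w * x⁻¹ := by
      have : Commute x w := hx1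
      exact this.inv_left
    calc y * w = x⁻¹ * ((x * y) * w) := by group
      _ = x⁻¹ * (w * (x * y)) := by rw [h1]
      _ = (x⁻¹ * w) * (x * y) := by group
      _ = (w * x⁻¹) * (x * y) := by rw [hxinv]
      _ = w * y := by group
  · rintro ⟨h1, h2⟩ z hz
    rw [Set.mem_singleton_iff] at hz
    rw [hz]
    have e1 := h1 x rfl
    have e2 := h2 y rfl
    calc x * y * w = x * (y * w) := by group
      _ = x * (w * y) := by rw [e2]
      _ = (x * w) * y := by group
      _ = (w * x) * y := by rw [e1]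
      _ = w * (x * y) := by group

/-- Orbit counting: if all stabilizers have index `d` then `d` divides the size of the set. -/
theorem dvd_card_of_index_stabilizer {R Y : Type*} [Group R] [MulAction R Y] [Finite R] [Finite Y]
    (d : ℕ) (h : ∀ y : Y, (MulAction.stabilizer R y).index = d) : d ∣ Nat.card Y := by
  classical
  have e := MulAction.selfEquivSigmaOrbits R Y
  have := Fintype.ofFinite (Quotient (MulAction.orbitRel R Y))
  rw [Nat.card_congr e, Nat.card_sigma]
  apply Finset.dvd_sum
  intro ω _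
  rw [← h ω.out, MulAction.index_stabilizer, Nat.card_coe_set_eq]

/-- The `s`-part of a commutative subgroup. -/
def sPart (s : ℕ) (M : Subgroup G) (hM : ∀ a ∈ M, ∀ b ∈ M, a * b = b * a) : Subgroup G where
  carrier := {w | w ∈ M ∧ ∃ k : ℕ, w ^ (s ^ k) = 1}
  mul_mem' := by
    rintro a b ⟨ha, k₁, hk₁⟩ ⟨hb, k₂, hk₂⟩
    refine ⟨M.mul_mem ha hb, k₁ + k₂, ?_⟩
    have hc : Commute a b := hM a ha b hb
    rw [hc.mul_pow, pow_add, pow_mul, hk₁, one_pow, one_mul, mul_comm (s ^ k₁), pow_mul, hk₂,
      one_pow]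
  one_mem' := ⟨M.one_mem, 0, one_pow _⟩
  inv_mem' := by
    rintro a ⟨ha, k, hk⟩
    exact ⟨M.inv_mem ha, k, by rw [inv_pow, hk, inv_one]⟩

theorem mem_sPart {s : ℕ} {M : Subgroup G} {hM : ∀ a ∈ M, ∀ b ∈ M, a * b = b * a} {w : G} :
    w ∈ sPart s M hM ↔ w ∈ M ∧ ∃ k : ℕ, w ^ (s ^ k) = 1 := Iff.rfl

theorem card_sPart [Finite G] (s : ℕ) [hs : Fact s.Prime] (M : Subgroup G)
    (hM : ∀ a ∈ M, ∀ b ∈ M, a * b = b * a) :
    Nat.card (sPart s M hM) = s ^ (Nat.card M).factorization s := by
  have hpg : IsPGroup s (sPart s M hM) := by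
    rintro ⟨w, hw, k, hk⟩
    exact ⟨k, Subtype.ext (by simpa using hk)⟩
  obtain ⟨j, hj⟩ := IsPGroup.iff_card.1 hpg
  have hle : sPart s M hM ≤ M := fun w hw => hw.1
  have h1 : s ^ j ∣ Nat.card M := by
    rw [← hj]; exact Subgroup.card_dvd_of_le hle
  have h2 : j ≤ (Nat.card M).factorization s :=
    (hs.out.pow_dvd_iff_le_factorization Nat.card_pos.ne').1 h1
  obtain ⟨S⟩ : Nonempty (Sylow s M) := inferInstance
  have hS : (S : Subgroup M).map M.subtype ≤ sPart s M hM := by
    rintro _ ⟨w, hw, rfl⟩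
    refine ⟨w.2, ?_⟩
    obtain ⟨k, hk⟩ := S.isPGroup' ⟨w, hw⟩
    refine ⟨k, ?_⟩
    have := congrArg Subtype.val (congrArg Subtype.val hk)
    simpa using this
  have h3 : s ^ (Nat.card M).factorization s ∣ s ^ j := by
    rw [← hj, ← S.card_eq_multiplicity,
      ← Subgroup.card_map_of_injective (K := (S : Subgroup M)) M.subtype_injective]
    exact Subgroup.card_dvd_of_le hS
  have h4 : (Nat.card M).factorization s ≤ j :=
    (Nat.pow_dvd_pow_iff_le_right hs.out.one_lt).1 h3
  rw [hj, le_antisymm h2 h4]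

/-- An element outside a normal subgroup has a prime-power-order power outside it. -/
theorem exists_pow_prime_not_mem [Finite G] (N : Subgroup G) [N.Normal] (g : G) (hg : g ∉ N) :
    ∃ r : ℕ, r.Prime ∧ ∃ j : ℕ, (∃ k : ℕ, orderOf (g ^ j) = r ^ k) ∧ g ^ j ∉ N := by
  have hne : ((g : G) : G ⧸ N) ≠ 1 := fun h => hg ((QuotientGroup.eq_one_iff g).1 h)
  have hord1 : orderOf ((g : G) : G ⧸ N) ≠ 1 := fun h => hne (orderOf_eq_one_iff.1 h)
  obtain ⟨r, hr, hrd⟩ := Nat.exists_prime_and_dvd hord1
  have : Fact r.Prime := ⟨hr⟩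
  have hpos : orderOf ((g : G) : G ⧸ N) ≠ 0 := (orderOf_pos _).ne'
  have hordr := orderOf_pow_orderOf_div hpos hrd
  set t := orderOf ((g : G) : G ⧸ N) / r with ht
  obtain ⟨a, b, hpa, hcop, hab⟩ := PNil.exists_pow_decomp r (g ^ t)
  refine ⟨r, hr, t * a, by rw [pow_mul]; exact hpa, ?_⟩
  intro hmem
  rw [pow_mul] at hmem
  -- then the image of g^t equals the image of (g^t)^b, of order prime to r
  have h1 : (((g ^ t : G) : G ⧸ N)) = (((g ^ t) ^ b : G) : G ⧸ N) := by
    conv_lhs => rw [← hab]
    rw [QuotientGroup.mk_mul, (QuotientGroup.eq_one_iff _).2 hmem, one_mul]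
  have h2 : orderOf (((g ^ t) ^ b : G) : G ⧸ N) ∣ orderOf ((g ^ t) ^ b) :=
    orderOf_map_dvd (QuotientGroup.mk' N) _
  rw [← h1, QuotientGroup.mk_pow, hordr] at h2
  have h3 := Nat.Coprime.coprime_dvd_left h2 hcop
  rw [Nat.coprime_self] at h3
  exact hr.one_lt.ne' h3

/-- the numeric endgame -/
theorem numeric_contra (n m z p q : ℕ) (hp : p.Prime) (hq : q.Prime) (hpq : p ≠ q)
    (hn : 0 < n) (hz : 0 < z) (hzm : z ∣ m) (hm : 0 < m) (hα : m ≤ n * z)
    (h1 : p ^ n.factorization p ∣ q ^ (m.factorization q - z.factorization q) - 1)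
    (h1' : z.factorization q < m.factorization q)
    (h2 : ∀ r : ℕ, r.Prime → r ≠ p →
      r ^ n.factorization r ∣ p ^ (m.factorization p - z.factorization p) - 1)
    (h2' : z.factorization p < m.factorization p) : False := by
  obtain ⟨c, rfl⟩ := hzm
  have hc : 0 < c := Nat.pos_of_mul_pos_left hm |> fun h => by
    rcases Nat.eq_zero_or_pos c with h0 | h0
    · rw [h0, mul_zero] at hm; exact absurd hm (lt_irrefl 0)
    · exact h0
  have hfac : ∀ s, (z * c).factorization s - z.factorization s = c.factorization s := by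
    intro s; rw [Nat.factorization_mul hz.ne' hc.ne']; simp
  have hfac' : ∀ s, (z * c).factorization s = z.factorization s + c.factorization s := by
    intro s; rw [Nat.factorization_mul hz.ne' hc.ne']; simp
  rw [hfac] at h1
  simp only [hfac] at h2
  have hcn : c ≤ n := by
    have : z * c ≤ z * n := by rw [mul_comm z n]; exact hα
    exact Nat.le_of_mul_le_mul_left this hz
  have hcq : 0 < c.factorization q := by have := hfac' q; omega
  have hcp : 0 < c.factorization p := by have := hfac' p; omega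
  have hcp2 : 2 ≤ p ^ c.factorization p :=
    le_trans hp.two_le (Nat.le_self_pow hcp.ne' p)
  have hcq2 : 2 ≤ q ^ c.factorization q :=
    le_trans hq.two_le (Nat.le_self_pow hcq.ne' q)
  have hcopr : Nat.Coprime (p ^ c.factorization p) (q ^ c.factorization q) :=
    Nat.Coprime.pow _ _ ((Nat.coprime_primes hp hq).2 hpq)
  have hdiv : p ^ c.factorization p * q ^ c.factorization q ∣ c :=
    Nat.Coprime.mul_dvd_of_dvd_of_dvd hcopr (Nat.ordProj_dvd c p) (Nat.ordProj_dvd c q)
  have hle : p ^ c.factorization p * q ^ c.factorization q ≤ c := Nat.le_of_dvd hc hdiv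
  have hA : p ^ n.factorization p ≤ q ^ c.factorization q - 1 := Nat.le_of_dvd (by omega) h1
  have hB0 : n / p ^ n.factorization p ≠ 0 := by
    intro h0
    have := Nat.ordProj_mul_ordCompl_eq_self n p
    rw [h0, mul_zero] at this
    omega
  have hB : n / p ^ n.factorization p ∣ p ^ c.factorization p - 1 := by
    rw [← Nat.factorization_le_iff_dvd hB0 (by omega)]
    intro r
    by_cases hr : r.Prime
    · by_cases hrp : r = p
      · subst hrp
        rw [Nat.factorization_ordCompl]; simp
      · rw [Nat.factorization_ordCompl, Finsupp.erase_ne hrp]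
        exact (hr.pow_dvd_iff_le_factorization (by omega)).1 (h2 r hr hrp)
    · rw [Nat.factorization_eq_zero_of_not_prime _ hr]; exact Nat.zero_le _
  have hB' : n / p ^ n.factorization p ≤ p ^ c.factorization p - 1 := Nat.le_of_dvd (by omega) hB
  have hn' : p ^ n.factorization p * (n / p ^ n.factorization p) = n :=
    Nat.ordProj_mul_ordCompl_eq_self n p
  have h5 : n ≤ (q ^ c.factorization q - 1) * (p ^ c.factorization p - 1) := by
    rw [← hn']; exact Nat.mul_le_mul hA hB'
  have h6 : (q ^ c.factorization q - 1) * (p ^ c.factorization p - 1) <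
      p ^ c.factorization p * q ^ c.factorization q := by
    have e1 : q ^ c.factorization q - 1 < q ^ c.factorization q := by omega
    have e2 : p ^ c.factorization p - 1 < p ^ c.factorization p := by omega
    calc (q ^ c.factorization q - 1) * (p ^ c.factorization p - 1)
        < q ^ c.factorization q * p ^ c.factorization p := Nat.mul_lt_mul'' e1 e2
      _ = p ^ c.factorization p * q ^ c.factorization q := mul_comm _ _
  omega

end Cfsg.Agent.Lib.Helper69.ItoA
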