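import Mathlib

set_option autoImplicit false

namespace Cfsg.Agent.Lib.Helper69.MaxAb

open scoped commutatorElement

-- The two results below follow helper51's `Lib/Helper51/DStar.lean` (same proofs).

/-- A maximal normal abelian subgroup of a nilpotent group contains its centralizer. -/
theorem centralizer_le_of_maximal {S : Type*} [Group S] [Group.IsNilpotent S]
    (B : Subgroup S) (hBn : B.Normal) (hBc : IsMulCommutative B)
    (hmax : ∀ B' : Subgroup S, B'.Normal → IsMulCommutative B' → B ≤ B' → B' = B) :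
    Subgroup.centralizer (B : Set S) ≤ B := by
  classical
  by_contra hcon
  obtain ⟨n, hn⟩ := Group.IsNilpotent.nilpotent S
  have hex : ∃ i : ℕ, ¬ (Subgroup.centralizer (B : Set S) ⊓ Subgroup.upperCentralSeries S i ≤ B) :=
    ⟨n, by rw [hn, inf_top_eq]; exact hcon⟩
  have hi := Nat.find_spec hex
  have hmin := fun j => Nat.find_min hex (m := j)
  rcases Nat.eq_zero_or_pos (Nat.find hex) with h0 | hpos
  · rw [h0, Subgroup.upperCentralSeries_zero, inf_bot_eq] at hi
    exact hi bot_le
  obtain ⟨j, hj⟩ : ∃ j, Nat.find hex = j + 1 := ⟨Nat.find hex - 1, by omega⟩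
  have hjle : Subgroup.centralizer (B : Set S) ⊓ Subgroup.upperCentralSeries S j ≤ B := by
    have := hmin j (by omega)
    exact not_not.1 this
  rw [hj] at hi
  obtain ⟨y, hy, hyB⟩ := SetLike.not_le_iff_exists.1 hi
  have hyC : y ∈ Subgroup.centralizer (B : Set S) := hy.1
  have hyZ : y ∈ Subgroup.upperCentralSeries S (j + 1) := hy.2
  have := hBn
  have hCn : (Subgroup.centralizer (B : Set S)).Normal := Subgroup.normal_centralizer
  have hcomm : ∀ s : S, ⁅y, s⁆ ∈ B := by
    intro s
    apply hjle
    refine ⟨?_, Subgroup.mem_upperCentralSeries_succ_iff.1 hyZ s⟩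
    rw [commutatorElement_def]
    have h1 : s * y⁻¹ * s⁻¹ ∈ Subgroup.centralizer (B : Set S) :=
      hCn.conj_mem _ (inv_mem hyC) s
    have h2 := mul_mem hyC h1
    have e : y * s * y⁻¹ * s⁻¹ = y * (s * y⁻¹ * s⁻¹) := by group
    rw [e]; exact h2
  have hyB' : y ∈ B ⊔ Subgroup.zpowers y :=
    (le_sup_right : Subgroup.zpowers y ≤ B ⊔ Subgroup.zpowers y) (Subgroup.mem_zpowers y)
  have hnormal : (B ⊔ Subgroup.zpowers y).Normal := by
    constructor
    intro x hx s
    have hmap : (B ⊔ Subgroup.zpowers y).map (MulAut.conj s).toMonoidHom ≤ B ⊔ Subgroup.zpowers y := by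
      rw [Subgroup.map_sup]
      refine sup_le ?_ ?_
      · rintro _ ⟨b, hb, rfl⟩
        exact (le_sup_left : B ≤ B ⊔ Subgroup.zpowers y) (hBn.conj_mem b hb s)
      · rw [MonoidHom.map_zpowers, Subgroup.zpowers_le]
        have e : (MulAut.conj s).toMonoidHom y = ⁅y, s⁆⁻¹ * y := by
          simp only [commutatorElement_def, MulEquiv.toMonoidHom_eq_coe, MonoidHom.coe_coe,
            MulAut.conj_apply]
          group
        rw [e]
        exact mul_mem ((le_sup_left : B ≤ B ⊔ Subgroup.zpowers y) (inv_mem (hcomm s))) hyB'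
    have := hmap ⟨x, hx, rfl⟩
    simpa using this
  have hBel : ∀ a ∈ B, ∀ a' ∈ B, a * a' = a' * a := isMulCommutative_iff_of_setLike.1 hBc
  have hcommut : IsMulCommutative ↥(B ⊔ Subgroup.zpowers y) := by
    have hcl : B ⊔ Subgroup.zpowers y = Subgroup.closure ((B : Set S) ∪ {y}) := by
      rw [Subgroup.closure_union, Subgroup.closure_eq, Subgroup.zpowers_eq_closure]
    rw [hcl]
    apply Subgroup.isMulCommutative_closure
    intro s hs t ht
    rcases hs with hs | hs <;> rcases ht with ht | ht
    · exact hBel s hs t ht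
    · rw [Set.mem_singleton_iff] at ht; subst ht
      exact (Subgroup.mem_centralizer_iff.1 hyC) s hs
    · rw [Set.mem_singleton_iff] at hs; subst hs
      exact ((Subgroup.mem_centralizer_iff.1 hyC) t ht).symm
    · rw [Set.mem_singleton_iff] at hs ht; subst hs; subst ht; rfl
  have := hmax _ hnormal hcommut le_sup_left
  rw [this] at hyB'
  exact hyB hyB'

/-- A finite group has a maximal normal abelian subgroup. -/
theorem exists_maximal_normal_abelian {S : Type*} [Group S] [Finite S] :
    ∃ B : Subgroup S, B.Normal ∧ IsMulCommutative B ∧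
      ∀ B' : Subgroup S, B'.Normal → IsMulCommutative B' → B ≤ B' → B' = B := by
  classical
  have hne : Nonempty {B : Subgroup S // B.Normal ∧ IsMulCommutative B} :=
    ⟨⟨⊥, inferInstance, inferInstance⟩⟩
  obtain ⟨B, hB⟩ := Finite.exists_max
    (fun B : {B : Subgroup S // B.Normal ∧ IsMulCommutative B} => Nat.card B.1)
  refine ⟨B.1, B.2.1, B.2.2, ?_⟩
  intro B' hn hc hle
  exact (Subgroup.eq_of_le_of_card_ge hle (hB ⟨B', hn, hc⟩)).symm

end Cfsg.Agent.Lib.Helper69.MaxAb
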