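import Cfsg.Agent.Lib.Helper56.PEStmt

/-!
# S2276 piece CASE1 (call of helper56): `σ`, `τ` have cycles of the same length `R ≥ 5`
(`R` odd, `p ∣ R`): an even conjugate of `τ` is `Good` against `σ`.
-/

set_option autoImplicit false

namespace Cfsg.Agent.Lib.Helper69.PECASE1

open Equiv Equiv.Perm Cfsg.Agent.Lib.Helper56

theorem main (hOrb : PEStmt.Orb) (hBM : PEStmt.BM) (hBP : PEStmt.BP) (hRP : PEStmt.RP)
    (hRNS : PEStmt.RNS) : PEStmt.Case1 := by
  intro α _ _ p hp hp2 σ τ x z R hR5 hpR hRodd hσR hτR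
  have hσx : σ x ≠ x := by
    intro h
    rw [(Equiv.Perm.cycleOf_eq_one_iff σ).mpr h] at hσR
    simp at hσR
    omega
  have hτz : τ z ≠ z := by
    intro h
    rw [(Equiv.Perm.cycleOf_eq_one_iff τ).mpr h] at hτR
    simp at hτR
    omega
  obtain ⟨c, hc1, hc2, hc3⟩ := hOrb σ x hσx
  have hcard : Fintype.card {y // y ∈ (σ.cycleOf x).support} = R := by
    rw [Fintype.card_coe]; exact hσR
  have hcycσ : (σ.cycleOf x).IsCycle := Equiv.Perm.isCycle_cycleOf σ hσx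
  have hcycτ : (τ.cycleOf z).IsCycle := Equiv.Perm.isCycle_cycleOf τ hτz
  obtain ⟨h, hh⟩ := isConj_iff.mp (hcycτ.isConj hcycσ (by rw [hσR, hτR]))
  have hhy : ∀ y : α, σ.cycleOf x y = h (τ.cycleOf z (h⁻¹ y)) := by
    intro y
    have := congrArg (fun f : Perm α => f y) hh
    simpa [Perm.mul_apply] using this.symm
  have key : ∀ y : α, σ.cycleOf x y ≠ y → (h * τ * h⁻¹) y = σ y := by
    intro y hb
    have hb1 : σ.cycleOf x y = σ y := by
      rw [Equiv.Perm.cycleOf_apply] at hb ⊢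
      split_ifs at hb ⊢ with hs
      · rfl
      · exact absurd rfl hb
    have hb2 : τ.cycleOf z (h⁻¹ y) ≠ h⁻¹ y := by
      intro hfix
      apply hb
      rw [hhy, hfix]
      simp
    have hb3 : τ.cycleOf z (h⁻¹ y) = τ (h⁻¹ y) := by
      rw [Equiv.Perm.cycleOf_apply] at hb2 ⊢
      split_ifs at hb2 ⊢ with hs
      · rfl
      · exact absurd rfl hb2
    rw [← hb1, hhy, hb3]
    simp [Perm.mul_apply]
  have fin : ∀ gi : Perm {y // y ∈ (σ.cycleOf x).support}, PEStmt.Good p c (gi * c * gi⁻¹) →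
      PEStmt.Good p σ ((ofSubtype gi * h) * τ * (ofSubtype gi * h)⁻¹) := by
    intro gi hgood
    have hB : ∀ b : {y // y ∈ (σ.cycleOf x).support},
        ((ofSubtype gi * h) * τ * (ofSubtype gi * h)⁻¹) b.1 = ((gi * c * gi⁻¹) b).1 := by
      intro b
      have e1 : ((ofSubtype gi * h) * τ * (ofSubtype gi * h)⁻¹)
          = ofSubtype gi * (h * τ * h⁻¹) * (ofSubtype gi)⁻¹ := by group
      rw [e1]
      have e2 : (ofSubtype gi)⁻¹ b.1 = (gi⁻¹ b).1 := by
        rw [← map_inv, ofSubtype_apply_coe]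
      rw [Perm.mul_apply, Perm.mul_apply, e2, key _ (Equiv.Perm.mem_support.mp (gi⁻¹ b).2), hc1,
        ofSubtype_apply_coe]
      rfl
    refine ⟨?_, ?_⟩
    · apply hRP Subtype.val Subtype.val_injective p hp (c * (gi * c * gi⁻¹)) _ _ hgood.1
      intro b
      rw [Perm.mul_apply, hB, hc1]
      rfl
    · exact hRNS Subtype.val Subtype.val_injective c (gi * c * gi⁻¹) σ _ hc1 hB hgood.2 _
        (Subgroup.subset_closure (by simp)) (Subgroup.subset_closure (by simp))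
  obtain ⟨g1, hg1s, hg1⟩ := hBP p hp hp2 c hc2 hc3 (hcard ▸ hpR) (hcard ▸ hR5) (hcard ▸ hRodd)
  obtain ⟨g2, hg2s, hg2⟩ := hBM p hp c hc2 hc3 (hcard ▸ hpR) (hcard ▸ hR5)
  rcases Int.units_eq_one_or (Perm.sign h) with hs | hs
  · exact ⟨ofSubtype g1 * h, by rw [map_mul, sign_ofSubtype, hg1s, hs]; rfl, fin g1 hg1⟩
  · exact ⟨ofSubtype g2 * h, by rw [map_mul, sign_ofSubtype, hg2s, hs]; rfl, fin g2 hg2⟩

end Cfsg.Agent.Lib.Helper69.PECASE1
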