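import Cfsg.Agent.Lib.Helper69.PETransport

/-!
# S2276 piece CASE2A (call of helper56): all cycles of `σ`, `τ` have length 3, `σ` has at least
two cycles.
-/

set_option autoImplicit false

namespace Cfsg.Agent.Lib.Helper69.PECASE2A

open Equiv Equiv.Perm Cfsg.Agent.Lib.Helper56

theorem f6_table : ∀ b : Fin 6, PEStmt.f6 b = ![1, 2, 0, 4, 5, 3] b := by decide

theorem gA_cycleType : (swap (0 : Fin 6) 1 * swap 1 3).cycleType = {3} := by
  have h : (swap (1 : Fin 6) 0 * swap 1 3).IsThreeCycle :=
    isThreeCycle_swap_mul_swap_same (by decide) (by decide) (by decide)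
  rw [swap_comm (1 : Fin 6) 0] at h
  exact h

theorem gB_cycleType :
    (swap (0 : Fin 6) 1 * swap 1 3 * (swap 2 5 * swap 5 4)).cycleType = {3} + {3} := by
  have h1 : (swap (0 : Fin 6) 1 * swap 1 3).Disjoint (swap 2 5 * swap 5 4) := by
    show ∀ x, _
    decide
  have h2 : (swap (5 : Fin 6) 2 * swap 5 4).IsThreeCycle :=
    isThreeCycle_swap_mul_swap_same (by decide) (by decide) (by decide)
  rw [swap_comm (5 : Fin 6) 2] at h2
  rw [h1.cycleType_mul, gA_cycleType]
  congr 1

theorem main (hC6A : PEStmt.C6A) (hC6B : PEStmt.C6B) (hRP : PEStmt.RP) (hRNS : PEStmt.RNS) :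
    PEStmt.Case2A := by
  intro α _ _ σ τ hτ1 hσ3 hτ3 hσ2
  have h3 : ∀ w, σ (σ (σ w)) = w := by
    have hd : orderOf σ ∣ 3 := by
      rw [← Equiv.Perm.lcm_cycleType]
      exact Multiset.lcm_dvd.mpr (fun b hb => by rw [hσ3 b hb])
    have h := orderOf_dvd_iff_pow_eq_one.mp hd
    intro w
    have := congrArg (fun f : Perm α => f w) h
    simpa [pow_succ, Perm.mul_apply] using this
  have hσrep : σ.cycleType = Multiset.replicate (Multiset.card σ.cycleType) 3 :=
    Multiset.eq_replicate.mpr ⟨rfl, hσ3⟩
  have hsupp : 6 ≤ σ.support.card := by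
    rw [← Equiv.Perm.sum_cycleType, hσrep, Multiset.sum_replicate]
    simp only [smul_eq_mul]
    omega
  have hcardα : 6 ≤ Fintype.card α := hsupp.trans (Finset.card_le_univ _)
  obtain ⟨y, hy⟩ : ∃ y, y ∈ σ.support := by
    apply Finset.card_pos.mp; omega
  have hy1 : σ y ≠ y := Equiv.Perm.mem_support.mp hy
  obtain ⟨y', hy'mem, hy'not⟩ : ∃ y' ∈ σ.support, y' ∉ ({y, σ y, σ (σ y)} : Finset α) := by
    by_contra hcon
    push Not at hcon
    have hsub : σ.support ⊆ {y, σ y, σ (σ y)} := hcon
    have h1 := Finset.card_le_card hsub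
    have h4 : ({y, σ y, σ (σ y)} : Finset α).card ≤ 3 := Finset.card_le_three
    omega
  have hy'1 : σ y' ≠ y' := Equiv.Perm.mem_support.mp hy'mem
  simp only [Finset.mem_insert, Finset.mem_singleton, not_or] at hy'not
  obtain ⟨n1, n2, n3⟩ := hy'not
  -- distinctness
  have d01 : y ≠ σ y := fun h => hy1 h.symm
  have d12 : σ y ≠ σ (σ y) := fun h => d01 (σ.injective h)
  have d02 : y ≠ σ (σ y) := fun h => hy1 (by
    have := congrArg σ h
    rw [h3] at this
    exact this)
  have d34 : y' ≠ σ y' := fun h => hy'1 h.symm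
  have d45 : σ y' ≠ σ (σ y') := fun h => d34 (σ.injective h)
  have d35 : y' ≠ σ (σ y') := fun h => hy'1 (by
    have := congrArg σ h
    rw [h3] at this
    exact this)
  have d03 : y ≠ y' := fun h => n1 h.symm
  have d13 : σ y ≠ y' := fun h => n2 h.symm
  have d23 : σ (σ y) ≠ y' := fun h => n3 h.symm
  have d14 : σ y ≠ σ y' := fun h => d03 (σ.injective h)
  have d24 : σ (σ y) ≠ σ y' := fun h => d13 (σ.injective h)
  have d04 : y ≠ σ y' := fun h => d23 (by
    have := congrArg (fun w => σ (σ w)) h
    simp only [h3] at this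
    exact this)
  have d25 : σ (σ y) ≠ σ (σ y') := fun h => d14 (σ.injective h)
  have d15 : σ y ≠ σ (σ y') := fun h => d04 (σ.injective h)
  have d05 : y ≠ σ (σ y') := fun h => d13 (by
    have := congrArg σ h
    rw [h3] at this
    exact this)
  let ι : Fin 6 → α := ![y, σ y, σ (σ y), y', σ y', σ (σ y')]
  have hι : Function.Injective ι := by
    intro i j hij
    fin_cases i <;> fin_cases j <;> first
      | rfl
      | (exfalso
         simp only [ι] at hij
         first
          | exact d01 hij | exact d02 hij | exact d03 hij | exact d04 hij | exact d05 hij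
          | exact d12 hij | exact d13 hij | exact d14 hij | exact d15 hij
          | exact d23 hij | exact d24 hij | exact d25 hij
          | exact d34 hij | exact d35 hij | exact d45 hij
          | exact d01 hij.symm | exact d02 hij.symm | exact d03 hij.symm | exact d04 hij.symm
          | exact d05 hij.symm
          | exact d12 hij.symm | exact d13 hij.symm | exact d14 hij.symm | exact d15 hij.symm
          | exact d23 hij.symm | exact d24 hij.symm | exact d25 hij.symm
          | exact d34 hij.symm | exact d35 hij.symm | exact d45 hij.symm)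
  have hσι : ∀ b, σ (ι b) = ι (PEStmt.f6 b) := by
    intro b
    rw [f6_table]
    fin_cases b
    · rfl
    · rfl
    · exact h3 y
    · rfl
    · rfl
    · exact h3 y'
  -- τ
  have hτrep : τ.cycleType = Multiset.replicate (Multiset.card τ.cycleType) 3 :=
    Multiset.eq_replicate.mpr ⟨rfl, hτ3⟩
  have hk1 : 1 ≤ Multiset.card τ.cycleType := by
    rw [Nat.one_le_iff_ne_zero]
    intro h0
    exact hτ1 (Equiv.Perm.cycleType_eq_zero.mp (Multiset.card_eq_zero.mp h0))
  have hτsum : 3 * Multiset.card τ.cycleType ≤ Fintype.card α := by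
    have := Equiv.Perm.sum_cycleType_le τ
    rw [hτrep, Multiset.sum_replicate] at this
    simp only [smul_eq_mul] at this
    omega
  rcases Nat.lt_or_ge (Multiset.card τ.cycleType) 2 with hk | hk
  · have hk' : Multiset.card τ.cycleType = 1 := by omega
    refine PETransport.transport hRP hRNS 3 Nat.prime_three ι hι σ τ PEStmt.f6
      (swap 0 1 * swap 1 3) hσι hC6A 0 (by simp) (by simpa using hcardα) ?_
    rw [gA_cycleType, hτrep, hk']
    rfl
  · refine PETransport.transport hRP hRNS 3 Nat.prime_three ι hι σ τ PEStmt.f6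
      (swap 0 1 * swap 1 3 * (swap 2 5 * swap 5 4)) hσι hC6B
      (Multiset.replicate (Multiset.card τ.cycleType - 2) 3) ?_ ?_ ?_
    · intro a ha
      rw [Multiset.eq_of_mem_replicate ha]
      norm_num
    · rw [Multiset.sum_replicate]
      simp only [smul_eq_mul, Fintype.card_fin]
      omega
    · rw [gB_cycleType]
      conv_lhs => rw [hτrep]
      obtain ⟨m, hm⟩ : ∃ m, Multiset.card τ.cycleType = m + 2 := ⟨_, (Nat.sub_add_cancel hk).symm⟩
      rw [hm]
      simp only [Nat.add_sub_cancel, Multiset.replicate_succ]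
      rw [← Multiset.singleton_add, ← Multiset.singleton_add, add_assoc]

end Cfsg.Agent.Lib.Helper69.PECASE2A
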