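import Cfsg.Agent.Lib.Helper56.PEStmt

/-!
# S2276 piece ODDC3 (call of helper56): an odd permutation in the centralizer of `τ`
whose cycle lengths are `p`-powers `≤ p ^ a`, on at least `p ^ (a + 1)` points.
-/

set_option autoImplicit false

namespace Cfsg.Agent.Lib.Helper69.PEODDC3

open Equiv Equiv.Perm Cfsg.Agent.Lib.Helper56

theorem main (hA : PEStmt.Arith) (hO : PEStmt.OddCent) : PEStmt.OddCent3 := by
  intro α _ _ p hp hp3 τ a hτ hcard
  apply hO τ
  by_cases hnd : τ.cycleType.Nodup
  · right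
    have h1 := hA p hp3 (a + 1) τ.cycleType hnd (fun x hx => by
      obtain ⟨i, hi, rfl⟩ := hτ x hx
      exact ⟨i, by omega, rfl⟩)
    have h3 : 3 ≤ p ^ (a + 1) := by
      calc 3 ≤ p := hp3
        _ = p ^ 1 := (pow_one p).symm
        _ ≤ p ^ (a + 1) := Nat.pow_le_pow_right (by omega) (by omega)
    omega
  · left; exact hnd

end Cfsg.Agent.Lib.Helper69.PEODDC3
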