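import Cfsg.Agent.Lib.Helper56.PEStmt

/-!
# S2276 (call of helper56): transport of a `Good` pair along an injective map

If `σ ∘ ι = ι ∘ f₀` for an injective `ι : β → α`, `(f₀, g₀)` is `Good` on `β`, and the cycle type
of `τ` is that of `g₀` plus a multiset `μ` that fits in the complement of `range ι`, then some
conjugate of `τ` is `Good` against `σ`.
-/

set_option autoImplicit false

namespace Cfsg.Agent.Lib.Helper69.PETransport

open Equiv Equiv.Perm Cfsg.Agent.Lib.Helper56

theorem transport (hRP : PEStmt.RP) (hRNS : PEStmt.RNS)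
    {α β : Type} [DecidableEq α] [Fintype α] [DecidableEq β] [Fintype β]
    (p : ℕ) (hp : p.Prime)
    (ι : β → α) (hι : Function.Injective ι) (σ τ : Perm α) (f₀ g₀ : Perm β)
    (hσ : ∀ b, σ (ι b) = ι (f₀ b)) (hgood : PEStmt.Good p f₀ g₀)
    (μ : Multiset ℕ) (hμ : ∀ a ∈ μ, 2 ≤ a) (hμs : μ.sum + Fintype.card β ≤ Fintype.card α)
    (hτ : τ.cycleType = g₀.cycleType + μ) :
    ∃ g : Perm α, PEStmt.Good p σ (g * τ * g⁻¹) := by
  classical
  let e : β ≃ {a // a ∈ Set.range ι} := Equiv.ofInjective ι hι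
  have he : ∀ b, (e b : α) = ι b := fun b => rfl
  have hcardr : Fintype.card {a // a ∈ Set.range ι} = Fintype.card β :=
    (Fintype.card_congr e).symm
  have hcardc : Fintype.card {a // ¬ a ∈ Set.range ι} = Fintype.card α - Fintype.card β := by
    rw [Fintype.card_subtype_compl, hcardr]
  obtain ⟨ρ, hρ⟩ := (Equiv.Perm.exists_with_cycleType_iff
    (α := {a // ¬ a ∈ Set.range ι}) (m := μ)).mpr ⟨by rw [hcardc]; omega, hμ⟩
  have hdisj : Disjoint (g₀.extendDomain e) (ofSubtype ρ) := by
    intro a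
    by_cases ha : a ∈ Set.range ι
    · right; exact ofSubtype_apply_of_not_mem ρ (by simpa using ha)
    · left; exact Perm.extendDomain_apply_not_subtype g₀ e ha
  have hct : (g₀.extendDomain e * ofSubtype ρ).cycleType = τ.cycleType := by
    rw [hdisj.cycleType_mul, cycleType_extendDomain, cycleType_ofSubtype, hρ, hτ]
  obtain ⟨g, hg⟩ := isConj_iff.mp ((isConj_iff_cycleType_eq).mpr hct.symm)
  refine ⟨g, ?_⟩
  rw [hg]
  have hτι : ∀ b, (g₀.extendDomain e * ofSubtype ρ) (ι b) = ι (g₀ b) := by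
    intro b
    rw [Perm.mul_apply, ofSubtype_apply_of_not_mem ρ (by simp), ← he b,
      Perm.extendDomain_apply_image, he]
  refine ⟨?_, ?_⟩
  · apply hRP ι hι p hp (f₀ * g₀) _ _ hgood.1
    intro b
    rw [Perm.mul_apply, hτι, hσ]
    rfl
  · exact hRNS ι hι f₀ g₀ σ _ hσ hτι hgood.2 _
      (Subgroup.subset_closure (by simp)) (Subgroup.subset_closure (by simp))

end Cfsg.Agent.Lib.Helper69.PETransport
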