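import Mathlib
import Cfsg.Agent.Lib.Helper85.PPStmt
import Cfsg.Agent.H85.Alperin
import Cfsg.Agent.H85.Hyp
import Cfsg.Agent.Lib.Helper87.FSBasic
import Cfsg.Agent.Lib.Helper87.FSHyp

set_option autoImplicit false

/-! S5113 piece KL1 (`KeyDec`): every map of a saturated fusion system is `c_s ∘ ψ` with `ψ` a
Star map.  Alperin induction on the class of such maps. -/

namespace Cfsg.Agent.Lib.Helper69.PPKL1

open Cfsg Cfsg.FusionSystem Cfsg.Agent.Lib.Helper85.PPStmt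

universe u

section

variable {Ω : Type u} [Group Ω] {S : Subgroup Ω}

/-- the twist of `Q` by `s`: the elements `y` with `s y s⁻¹ ∈ Q`. -/
def tw (Q : Subgroup Ω) (s : Ω) : Subgroup Ω := Q.comap (MulAut.conj s).toMonoidHom

theorem mem_tw {Q : Subgroup Ω} {s y : Ω} : y ∈ tw Q s ↔ s * y * s⁻¹ ∈ Q := Iff.rfl

/-- conjugation by `s`, from the twist of `Q` to `Q`. -/
def twMap (Q : Subgroup Ω) (s : Ω) : tw Q s →* Q :=
  ((MulAut.conj s).toMonoidHom.comp (tw Q s).subtype).codRestrict Q (fun y => y.2)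

theorem twMap_coe (Q : Subgroup Ω) (s : Ω) (y : tw Q s) :
    ((twMap Q s y : Q) : Ω) = s * (y : Ω) * s⁻¹ := rfl

/-- the twisted map `y ↦ s⁻¹ ψ(s y s⁻¹) s` on the twist of `Q`. -/
def twHom {Q : Subgroup Ω} (ψ : Q →* Ω) (s : Ω) : tw Q s →* Ω :=
  (MulAut.conj s⁻¹).toMonoidHom.comp (ψ.comp (twMap Q s))

theorem twHom_apply {Q : Subgroup Ω} (ψ : Q →* Ω) (s : Ω) (y : tw Q s) :
    twHom ψ s y = s⁻¹ * ψ (twMap Q s y) * s := by
  show s⁻¹ * ψ (twMap Q s y) * s⁻¹⁻¹ = _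
  rw [inv_inv]

theorem star_tw (hSC : StarConj.{u}) {F : FusionSystem S} {p : ℕ} {Q : Subgroup Ω} {ψ : Q →* Ω}
    {s : Ω} (hs : s ∈ S) (h : Star F p Q ψ) : Star F p (tw Q s) (twHom ψ s) := by
  have h1 : ∀ x : Q, s⁻¹ * (x : Ω) * s⁻¹⁻¹ ∈ tw Q s := by
    intro x
    rw [mem_tw]
    have e : s * (s⁻¹ * (x : Ω) * s⁻¹⁻¹) * s⁻¹ = (x : Ω) := by group
    rw [e]; exact x.2
  refine hSC Ω S F p Q (tw Q s) ψ (twHom ψ s) s⁻¹ (S.inv_mem hs) h h1 ?_ ?_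
  · intro y
    have := y.2
    rw [mem_tw] at this
    rw [inv_inv]; exact this
  · intro x
    rw [twHom_apply]
    have e : twMap Q s ⟨s⁻¹ * (x : Ω) * s⁻¹⁻¹, h1 x⟩ = x := by
      apply Subtype.ext
      rw [twMap_coe]
      show s * (s⁻¹ * (x : Ω) * s⁻¹⁻¹) * s⁻¹ = (x : Ω)
      group
    rw [e, inv_inv]

end

theorem main (hSR : StarRestrict.{u}) (hSC : StarConj.{u}) (hSI : StarInv.{u})
    (hSO : StarOfResid.{u}) : KeyDec.{u} := by
  intro Ω _ S _ p _ hS F hF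
  refine Cfsg.Agent.H85.alperin_induction hS F hF (fun P => {φ | ∃ s : S, Dec F p φ s})
    ?_ ?_ ?_ ?_
  · -- restriction
    intro P R φ hφ h
    obtain ⟨s, ψ, hψ, hx⟩ := hφ
    exact ⟨s, ψ.comp (Subgroup.inclusion h), hSR Ω S F p P R ψ h hψ, fun x => hx _⟩
  · -- composition
    intro P Q φ ψ hφ hψ h
    obtain ⟨s, φ₀, hφ₀, hφx⟩ := hφ
    obtain ⟨s', ψ₀, hψ₀, hψx⟩ := hψ
    have h' : ∀ x : P, φ₀ x ∈ tw Q (s : Ω) := by
      intro x
      rw [mem_tw, ← hφx]; exact h x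
    refine ⟨s' * s, (twHom ψ₀ (s : Ω)).comp (φ₀.codRestrict _ h'),
      Star.comp h' hφ₀ (star_tw hSC s.2 hψ₀), fun x => ?_⟩
    show ψ ⟨φ x, h x⟩ = ((s' : Ω) * (s : Ω)) * twHom ψ₀ (s : Ω) ⟨φ₀ x, h' x⟩ *
      ((s' : Ω) * (s : Ω))⁻¹
    rw [hψx, twHom_apply]
    have e : twMap Q (s : Ω) ⟨φ₀ x, h' x⟩ = ⟨φ x, h x⟩ := by
      apply Subtype.ext
      rw [twMap_coe]
      exact (hφx x).symm
    rw [e]
    group
  · -- inverse
    intro P Q e _ hC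
    obtain ⟨s, ψ, hψ, hx⟩ := hC
    have hx' : ∀ x : P, ((e x : Q) : Ω) = (s : Ω) * ψ x * (s : Ω)⁻¹ := hx
    have h1 : ∀ x : P, ψ x ∈ tw Q (s : Ω) := fun x => by
      rw [mem_tw, ← hx']; exact (e x).2
    let ψi : tw Q (s : Ω) →* Ω := P.subtype.comp (e.symm.toMonoidHom.comp (twMap Q (s : Ω)))
    have hψi : Star F p (tw Q (s : Ω)) ψi := by
      refine hSI Ω S F p P (tw Q (s : Ω)) ψ ψi hψ h1 ?_ ?_
      · intro x
        show ((e.symm (twMap Q (s : Ω) ⟨ψ x, h1 x⟩) : P) : Ω) = x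
        have e1 : twMap Q (s : Ω) ⟨ψ x, h1 x⟩ = e x := by
          apply Subtype.ext
          rw [twMap_coe]
          exact (hx' x).symm
        rw [e1, e.symm_apply_apply]
      · intro y
        refine ⟨e.symm (twMap Q (s : Ω) y), ?_⟩
        have h2 := hx' (e.symm (twMap Q (s : Ω) y))
        rw [e.apply_symm_apply, twMap_coe] at h2
        exact (mul_left_cancel (mul_right_cancel h2)).symm
    let Ψ : Q →* Ω := (MulAut.conj (s : Ω)).toMonoidHom.comp (P.subtype.comp e.symm.toMonoidHom)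
    have hΨ : Star F p Q Ψ := by
      refine hSC Ω S F p (tw Q (s : Ω)) Q ψi Ψ (s : Ω) s.2 hψi (fun x => x.2) ?_ ?_
      · intro y
        rw [mem_tw]
        have e2 : (s : Ω) * ((s : Ω)⁻¹ * (y : Ω) * (s : Ω)) * (s : Ω)⁻¹ = (y : Ω) := by group
        rw [e2]; exact y.2
      · intro x
        rfl
    refine ⟨s⁻¹, Ψ, hΨ, fun y => ?_⟩
    show ((e.symm y : P) : Ω) = ((s⁻¹ : S) : Ω) * ((s : Ω) * ((e.symm y : P) : Ω) * (s : Ω)⁻¹) *
      ((s⁻¹ : S) : Ω)⁻¹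
    rw [Subgroup.coe_inv]
    group
  · -- automorphisms of a fully automized subgroup
    intro T hfa _ α hα _ _
    obtain ⟨n, hn, r, hr, hαnr⟩ := Cfsg.Agent.Lib.Helper87.FSHyp.autGroup_decomp F hfa α hα
    obtain ⟨g, hg, hgr⟩ := (Cfsg.Agent.Lib.Helper87.FSBasic.mem_autInducedBy_iff r).mp hr
    have hrF : r ∈ F.autGroup T :=
      Cfsg.Agent.Lib.Helper87.FSBasic.autInducedBy_le_autGroup F hfa.1 hr
    have hnorm := Cfsg.Agent.H85.pResidual_normal p (F.autGroup T)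
    have hn' : (⟨r, hrF⟩ : F.autGroup T)⁻¹ * n * (⟨r, hrF⟩ : F.autGroup T)⁻¹⁻¹ ∈
        pResidual p (F.autGroup T) := hnorm.conj_mem n hn _
    refine ⟨⟨g, hg⟩, _, hSO Ω S F p T hfa.1 _ hn', fun x => ?_⟩
    show ((α x : T) : Ω) = g * (((r⁻¹ * (n : MulAut T) * r⁻¹⁻¹) x : T) : Ω) * g⁻¹
    rw [← hgr, hαnr, inv_inv]
    simp [MulAut.mul_apply]

end Cfsg.Agent.Lib.Helper69.PPKL1
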