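import Mathlib
import Cfsg.Agent.Lib.Helper85.PPStmt
import Cfsg.Agent.H85.Alperin
import Cfsg.Agent.Lib.Helper87.FSBasic
import Cfsg.Agent.Lib.Helper87.FSSat

set_option autoImplicit false

/-! S5113 piece TI (`Tel`): telescoping of the local degree along a Star map, by induction on the
Star map; the base case is the piece `TelBase`. -/

namespace Cfsg.Agent.Lib.Helper69.PPTI

open Cfsg Cfsg.FusionSystem Cfsg.Agent.Lib.Helper85.PPStmt

universe u v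

/-- two injective homomorphisms `X → Y` with `|X| = |Y|` finite differ by an automorphism
of `Y`. -/
theorem exists_aut {X Y : Type*} [Group X] [Group Y] [Finite Y] (f g : X →* Y)
    (hf : Function.Injective f) (hg : Function.Injective g) (hc : Nat.card X = Nat.card Y) :
    ∃ γ : MulAut Y, ∀ x, γ (f x) = g x := by
  have hfb : Function.Bijective f := (Nat.bijective_iff_injective_and_card f).mpr ⟨hf, hc⟩
  have hgb : Function.Bijective g := (Nat.bijective_iff_injective_and_card g).mpr ⟨hg, hc⟩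
  refine ⟨(MulEquiv.ofBijective f hfb).symm.trans (MulEquiv.ofBijective g hgb), fun x => ?_⟩
  show (MulEquiv.ofBijective g hgb) ((MulEquiv.ofBijective f hfb).symm (f x)) = g x
  have e : (MulEquiv.ofBijective f hfb).symm (f x) = x :=
    (MulEquiv.ofBijective f hfb).symm_apply_eq.mpr rfl
  rw [e]; rfl

theorem main (hTB : TelBase.{u, v}) (hKD : KeyDec.{u}) (hSM : StarMem.{u}) (hSH : StarHyp.{u})
    (hLM : LDegMul.{u, v}) : Tel.{u, v} := by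
  intro Ω _ S _ p _ hS F hF A _ δ T hDD Q hQ hQT hlt hrig P₀ ψ hψ
  have hTS : T ≤ S := hDD.le
  have hfinQ : Finite Q := Cfsg.Agent.Lib.Helper87.FSSat.finite_of_le (hQT.trans hTS)
  induction hψ with
  | @base R P hR β hβ hPR =>
    intro P' P'' hP'P hP'T hmap hc' hc'' χ' χ'' s' s'' hχ' hχ'' hd' hd'' hχ'Q hχ''Q γ hγ
    refine hTB Ω S p hS F hF A δ T hDD Q hQ hQT hlt hrig R hR β hβ P' P'' (hP'P.trans hPR) hP'T
      ?_ hc' hc'' χ' χ'' s' s'' hχ' hχ'' hd' hd'' hχ'Q hχ''Q γ ?_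
    · intro x hx
      exact hmap ⟨x, hP'P hx⟩ hx
    · intro x hx hxN hq hx''
      exact hγ ⟨x, hP'P hx⟩ hx hxN hq hx''
  | @comp P₀ Q₁ ψ₁ ψ₂ h hψ₁ hψ₂ ih1 ih2 =>
    intro P' P'' hP'P hP'T hmap hc' hc'' χ' χ'' s' s'' hχ' hχ'' hd' hd'' hχ'Q hχ''Q γ hγ
    have hψ₁F : ψ₁ ∈ F.Hom P₀ := hSM Ω S F p P₀ ψ₁ hψ₁
    have hψ₁inj : Function.Injective ψ₁ := F.injective_of_mem hψ₁F
    -- the intermediate subgroup
    obtain ⟨P₁, hP₁def⟩ : ∃ P₁ : Subgroup Ω, P₁ = (P'.subgroupOf P₀).map ψ₁ := ⟨_, rfl⟩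
    have hmemP₁ : ∀ y : Ω, y ∈ P₁ ↔ ∃ x : P₀, (x : Ω) ∈ P' ∧ ψ₁ x = y := by
      intro y
      rw [hP₁def, Subgroup.mem_map]
      constructor
      · rintro ⟨x, hx, rfl⟩
        exact ⟨x, Subgroup.mem_subgroupOf.mp hx, rfl⟩
      · rintro ⟨x, hx, rfl⟩
        exact ⟨x, Subgroup.mem_subgroupOf.mpr hx, rfl⟩
    have hP₁Q₁ : P₁ ≤ Q₁ := by
      intro y hy
      obtain ⟨x, -, rfl⟩ := (hmemP₁ y).mp hy
      exact h x
    have hP₁T : P₁ ≤ T := by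
      intro y hy
      obtain ⟨x, hx, rfl⟩ := (hmemP₁ y).mp hy
      have h1 : (x : Ω)⁻¹ * ψ₁ x ∈ T := hDD.hyp (hSH Ω S F p P₀ ψ₁ hψ₁ x)
      have h2 : (x : Ω) * ((x : Ω)⁻¹ * ψ₁ x) ∈ T := T.mul_mem (hP'T hx) h1
      rwa [mul_inv_cancel_left] at h2
    have hcP₁ : Nat.card P₁ = Nat.card Q := by
      rw [hP₁def, Subgroup.card_map_of_injective hψ₁inj, ← hc']
      exact Nat.card_congr (Subgroup.subgroupOfEquivOfLe hP'P).toEquiv
    have hP'N : P' ≤ normalizerIn T P' := fun x hx => ⟨hP'T hx, Subgroup.le_normalizer hx⟩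
    have hP₁N : P₁ ≤ normalizerIn T P₁ := fun x hx => ⟨hP₁T hx, Subgroup.le_normalizer hx⟩
    -- the maps `P' → Q` and `P' → P₁`
    let f : P' →* Q := (χ'.comp (Subgroup.inclusion hP'N)).codRestrict Q
      (fun x => hχ'Q _ x.2)
    have hf : Function.Injective f := by
      intro a b hab
      have h1 : χ' (Subgroup.inclusion hP'N a) = χ' (Subgroup.inclusion hP'N b) :=
        congrArg Subtype.val hab
      exact Subgroup.inclusion_injective hP'N (F.injective_of_mem hχ' h1)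
    let b₁ : P' →* P₁ := (ψ₁.comp (Subgroup.inclusion hP'P)).codRestrict P₁
      (fun x => (hmemP₁ _).mpr ⟨Subgroup.inclusion hP'P x, x.2, rfl⟩)
    have hb₁ : Function.Injective b₁ := by
      intro a b hab
      have h1 : ψ₁ (Subgroup.inclusion hP'P a) = ψ₁ (Subgroup.inclusion hP'P b) :=
        congrArg Subtype.val hab
      exact Subgroup.inclusion_injective hP'P (hψ₁inj h1)
    -- `P₁` is `F`-conjugate to `Q`
    have hfinP' : Finite P' := Cfsg.Agent.Lib.Helper87.FSSat.finite_of_le (hP'T.trans hTS)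
    have hconj1 : F.IsConj P' P₁ := by
      refine ⟨ψ₁.comp (Subgroup.inclusion hP'P), Cfsg.Agent.H85.restrict_mem F hψ₁F hP'P, ?_⟩
      ext y
      rw [hmemP₁]
      constructor
      · rintro ⟨x, rfl⟩
        exact ⟨Subgroup.inclusion hP'P x, x.2, rfl⟩
      · rintro ⟨x, hx, rfl⟩
        exact ⟨⟨x, hx⟩, rfl⟩
    have hconj2 : F.IsConj P' Q := by
      have hmem : χ'.comp (Subgroup.inclusion hP'N) ∈ F.Hom P' :=
        Cfsg.Agent.H85.restrict_mem F hχ' hP'N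
      refine ⟨χ'.comp (Subgroup.inclusion hP'N), hmem, ?_⟩
      have hle : (χ'.comp (Subgroup.inclusion hP'N)).range ≤ Q := by
        rintro y ⟨x, rfl⟩
        exact hχ'Q _ x.2
      refine Subgroup.eq_of_le_of_card_ge hle ?_
      rw [Cfsg.Agent.Lib.Helper87.FSSat.card_range F hmem, hc']
    have hconj : F.IsConj P₁ Q :=
      Cfsg.Agent.H85.isConj_trans F (Cfsg.Agent.H85.isConj_symm F hconj1) hconj2
    obtain ⟨ξ, hξ, hξQ, -⟩ :=
      Cfsg.Agent.H85.exists_hom_normalizer_of_fullyNormalized hS F hF hQ hconj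
    have hNle : normalizerIn T P₁ ≤ normalizerIn S P₁ := inf_le_inf_right _ hTS
    obtain ⟨χ₁, hχ₁def⟩ : ∃ χ₁ : ↥(normalizerIn T P₁) →* Ω,
      χ₁ = ξ.comp (Subgroup.inclusion hNle) := ⟨_, rfl⟩
    have hχ₁ : χ₁ ∈ F.Hom (normalizerIn T P₁) := by
      rw [hχ₁def]; exact Cfsg.Agent.H85.restrict_mem F hξ hNle
    have hχ₁Q : ∀ x : ↥(normalizerIn T P₁), (x : Ω) ∈ P₁ → χ₁ x ∈ Q := by
      intro x hx
      rw [hχ₁def]
      exact hξQ (Subgroup.inclusion hNle x) hx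
    obtain ⟨s₁, hd₁⟩ := hKD Ω S p hS F hF _ χ₁ hχ₁
    let g : P' →* Q := ((χ₁.comp (Subgroup.inclusion hP₁N)).comp b₁).codRestrict Q
      (fun x => hχ₁Q _ (b₁ x).2)
    have hg : Function.Injective g := by
      intro a b hab
      have h1 : χ₁ (Subgroup.inclusion hP₁N (b₁ a)) = χ₁ (Subgroup.inclusion hP₁N (b₁ b)) :=
        congrArg Subtype.val hab
      exact hb₁ (Subgroup.inclusion_injective hP₁N (F.injective_of_mem hχ₁ h1))
    obtain ⟨γ₁, hγ₁⟩ := exists_aut f g hf hg hc'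
    -- first half
    have L1 : LDeg F p δ Q γ₁ (δ s₁ * (δ s')⁻¹) := by
      refine ih1 P' P₁ hP'P hP'T (fun x hx => (hmemP₁ _).mpr ⟨x, hx, rfl⟩) hc' hcP₁ χ' χ₁ s' s₁
        hχ' hχ₁ hd' hd₁ hχ'Q hχ₁Q γ₁ ?_
      intro x hx hxN hq hx''
      exact congrArg Subtype.val (hγ₁ ⟨x, hx⟩)
    -- second half
    have L2 : LDeg F p δ Q (γ * γ₁⁻¹) (δ s'' * (δ s₁)⁻¹) := by
      refine ih2 P₁ P'' hP₁Q₁ hP₁T ?_ hcP₁ hc'' χ₁ χ'' s₁ s'' hχ₁ hχ'' hd₁ hd'' hχ₁Q hχ''Q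
        (γ * γ₁⁻¹) ?_
      · intro y hy
        obtain ⟨x, hx, hxy⟩ := (hmemP₁ _).mp hy
        obtain rfl : y = ⟨ψ₁ x, h x⟩ := Subtype.ext hxy.symm
        exact hmap x hx
      · intro y hy hyN hq hy''
        obtain ⟨x, hx, hxy⟩ := (hmemP₁ _).mp hy
        obtain rfl : y = ⟨ψ₁ x, h x⟩ := Subtype.ext hxy.symm
        have e0 : γ₁ (f ⟨x, hx⟩) = g ⟨x, hx⟩ := hγ₁ ⟨x, hx⟩
        have e1 : γ₁⁻¹ (g ⟨x, hx⟩) = f ⟨x, hx⟩ := by
          rw [← e0, MulAut.inv_apply_self]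
        have e2 : (γ * γ₁⁻¹) (g ⟨x, hx⟩) = γ (f ⟨x, hx⟩) := by
          rw [MulAut.mul_apply, e1]
        have e3 : ((γ (f ⟨x, hx⟩) : Q) : Ω) = χ'' ⟨ψ₂ ⟨ψ₁ x, h x⟩, hy''⟩ :=
          hγ x hx (hP'N hx) (hχ'Q _ hx) hy''
        rw [← e3, ← e2]
        rfl
    have L := hLM Ω S F p A δ Q (hQT.trans hTS) (γ * γ₁⁻¹) γ₁ _ _ L2 L1
    have eγ : γ * γ₁⁻¹ * γ₁ = γ := inv_mul_cancel_right γ γ₁
    have eA : δ s'' * (δ s₁)⁻¹ * (δ s₁ * (δ s')⁻¹) = δ s'' * (δ s')⁻¹ := by group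
    rw [eγ, eA] at L
    exact L

end Cfsg.Agent.Lib.Helper69.PPTI
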