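import Mathlib
import Cfsg.Agent.Lib.Helper42.ReeDegStmt

/-!
# S2343 piece EIG (call of helper42): a common eigenvector of an abelian subgroup whose
character is nontrivial at `z`.
-/

set_option autoImplicit false

namespace Cfsg.Agent.Lib.Helper69.ReeDegEIG

universe u

open Polynomial

/-- an endomorphism of finite order over `ℂ` is semisimple -/
theorem semisimple_of_pow_eq_one {V : Type*} [AddCommGroup V] [Module ℂ V]
    (T : Module.End ℂ V) (n : ℕ) (hn : 0 < n) (hT : T ^ n = 1) : T.IsSemisimple := by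
  apply Module.End.isSemisimple_of_squarefree_aeval_eq_zero (p := X ^ n - C (1 : ℂ))
  · exact (Polynomial.separable_X_pow_sub_C (1 : ℂ) (by exact_mod_cast hn.ne')
      one_ne_zero).squarefree
  · simp [hT]

theorem main : Cfsg.Agent.Lib.Helper42.ReeDegStmt.EigP.{u} := by
  intro G _ _ A hA k ρ z hz hρz
  classical
  have hfin : ∀ g : G, (ρ g) ^ (Nat.card G) = 1 := by
    intro g
    rw [← map_pow, pow_card_eq_one', map_one]
  have hcard : 0 < Nat.card G := Nat.card_pos
  have hss : ∀ g : G, Module.End.IsSemisimple (ρ g) := fun g =>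
    semisimple_of_pow_eq_one (ρ g) _ hcard (hfin g)
  have hgen : ∀ g : G, ∀ μ : ℂ,
      Module.End.maxGenEigenspace (ρ g) μ = Module.End.eigenspace (ρ g) μ := fun g μ =>
    (hss g).isFinitelySemisimple.maxGenEigenspace_eq_eigenspace μ
  let f : ↥A → Module.End ℂ (Fin k → ℂ) := fun a => ρ (a : G)
  have hcomm : Pairwise fun i j : ↥A => Commute (f i) (f j) := by
    intro i j _
    show ρ (i : G) * ρ (j : G) = ρ (j : G) * ρ (i : G)
    rw [← map_mul, ← map_mul, hA i i.2 j j.2]
  have htop :=
    Module.End.iSup_iInf_maxGenEigenspace_eq_top_of_iSup_maxGenEigenspace_eq_top_of_commute f hcomm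
      (fun i => Module.End.iSup_maxGenEigenspace_eq_top (f i))
  by_contra hcon
  push Not at hcon
  apply hρz
  have hle : (⨆ χ : ↥A → ℂ, ⨅ i, Module.End.maxGenEigenspace (f i) (χ i)) ≤
      Module.End.eigenspace (ρ z) 1 := by
    apply iSup_le
    intro χ
    by_cases hχ : χ ⟨z, hz⟩ = 1
    · refine (iInf_le _ (⟨z, hz⟩ : ↥A)).trans ?_
      show Module.End.maxGenEigenspace (ρ z) (χ ⟨z, hz⟩) ≤ _
      rw [hgen, hχ]
    · intro w hw
      by_contra hw0
      have hwne : w ≠ 0 := by
        rintro rfl
        exact hw0 (Submodule.zero_mem _)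
      have hall : ∀ a ∈ A, ρ a w = (fun g : G => if h : g ∈ A then χ ⟨g, h⟩ else 0) a • w := by
        intro a ha
        have h1 : w ∈ Module.End.maxGenEigenspace (f ⟨a, ha⟩) (χ ⟨a, ha⟩) :=
          (Submodule.mem_iInf _).mp hw ⟨a, ha⟩
        have h2 : w ∈ Module.End.eigenspace (ρ a) (χ ⟨a, ha⟩) := by
          rw [← hgen]
          exact h1
        rw [Module.End.mem_eigenspace_iff] at h2
        simp only [dif_pos ha]
        exact h2
      have h3 := hcon _ w hwne hall
      simp only [dif_pos hz] at h3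
      exact hχ h3
  rw [htop] at hle
  refine LinearMap.ext fun w => ?_
  have h4 := hle (Submodule.mem_top : w ∈ ⊤)
  rw [Module.End.mem_eigenspace_iff, one_smul] at h4
  simpa using h4

end Cfsg.Agent.Lib.Helper69.ReeDegEIG
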