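import Mathlib
import Cfsg.Prelude.Def_Local
import Cfsg.Agent.Lib.Helper69.PNil

set_option autoImplicit false

namespace Cfsg.Agent.Lib.Helper69.RepAvg

open Cfsg.Agent.Lib.Helper69

section stab

variable {k H V : Type*} [Field k] [AddCommGroup V] [Module k V] [Group H]

/-- the stabilizer of a vector -/
def stab (ρ : Representation k H V) (v : V) : Subgroup H where
  carrier := {h | ρ h v = v}
  mul_mem' := by
    intro a b ha hb
    have ha' : ρ a v = v := ha
    have hb' : ρ b v = v := hb
    change ρ (a * b) v = v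
    rw [map_mul, Module.End.mul_apply, hb', ha']
  one_mem' := by
    change ρ 1 v = v
    rw [map_one]; rfl
  inv_mem' := by
    intro a ha
    have ha' : ρ a v = v := ha
    change ρ a⁻¹ v = v
    have : ρ a⁻¹ (ρ a v) = v := by
      rw [← Module.End.mul_apply, ← map_mul, inv_mul_cancel, map_one]; rfl
    rw [ha'] at this
    exact this

theorem mem_stab {ρ : Representation k H V} {v : V} {h : H} : h ∈ stab ρ v ↔ ρ h v = v := Iff.rfl

theorem card_orbit_eq_index [Finite H] (ρ : Representation k H V) (v : V) :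
    Nat.card {u : V | ∃ h : H, ρ h v = u} = (stab ρ v).index := by
  let _ : MulAction H V := MulAction.compHom V (ρ : H →* Module.End k V)
  have h1 : (MulAction.stabilizer H v).index = Nat.card (MulAction.orbit H v) := by
    rw [MulAction.index_stabilizer, Nat.card_coe_set_eq]
  have h2 : MulAction.stabilizer H v = stab ρ v := by
    ext h; rfl
  rw [← h2, h1]; rfl

theorem index_stab_apply [Finite H] (ρ : Representation k H V) (v : V) (h : H) :
    (stab ρ (ρ h v)).index = (stab ρ v).index := by
  rw [← card_orbit_eq_index, ← card_orbit_eq_index]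
  congr 2
  ext u
  constructor
  · rintro ⟨g, rfl⟩
    exact ⟨g * h, by rw [map_mul, Module.End.mul_apply]⟩
  · rintro ⟨g, rfl⟩
    exact ⟨g * h⁻¹, by
      rw [← Module.End.mul_apply, ← map_mul, mul_assoc, inv_mul_cancel, mul_one]⟩

/-- orbit-average identity -/
theorem sum_smul_eq {K : Type*} [Group K] [Fintype K]
    (ρ : Representation k K V) (L : Subgroup K) [Fintype L] (w : V)
    (hL : ∀ g : K, ∃ l ∈ L, ρ l w = ρ g w) :
    (Fintype.card K : k) • ∑ l : L, ρ (l : K) w = (Fintype.card L : k) • ∑ g : K, ρ g w := by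
  classical
  have step1 : ∀ g : K, ∑ l : L, ρ (l : K) (ρ g w) = ∑ l : L, ρ (l : K) w := by
    intro g
    obtain ⟨l₀, hl₀, e⟩ := hL g
    rw [← e]
    refine Fintype.sum_equiv (Equiv.mulRight (⟨l₀, hl₀⟩ : L)) _ _ ?_
    intro x
    simp only [Equiv.coe_mulRight, Subgroup.coe_mul, map_mul, Module.End.mul_apply]
  have e1 : ∑ g : K, ∑ l : L, ρ (l : K) (ρ g w) = Fintype.card K • ∑ l : L, ρ (l : K) w := by
    rw [Finset.sum_congr rfl (fun g _ => step1 g), Finset.sum_const, Finset.card_univ]
  have e2 : ∑ g : K, ∑ l : L, ρ (l : K) (ρ g w) = Fintype.card L • ∑ g : K, ρ g w := by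
    rw [Finset.sum_comm]
    have : ∀ x : L, ∑ g : K, ρ (x : K) (ρ g w) = ∑ g : K, ρ g w := by
      intro x
      refine Fintype.sum_equiv (Equiv.mulLeft (x : K)) _ _ ?_
      intro g
      simp only [Equiv.coe_mulLeft, map_mul, Module.End.mul_apply]
    rw [Finset.sum_congr rfl (fun x _ => this x), Finset.sum_const, Finset.card_univ]
  rw [Nat.cast_smul_eq_nsmul, Nat.cast_smul_eq_nsmul, ← e1, e2]

/-- sum over a normal subgroup commutes with the action -/
theorem sum_normal_comm (ρ : Representation k H V) (N : Subgroup H) [N.Normal] [Fintype N]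
    (h : H) (v : V) : ρ h (∑ x : N, ρ (x : H) v) = ∑ x : N, ρ (x : H) (ρ h v) := by
  rw [map_sum]
  refine Fintype.sum_equiv (MulAut.conjNormal h : MulAut N).toEquiv _ _ ?_
  intro x
  have e : ((MulAut.conjNormal h : MulAut N).toEquiv x : H) = h * x * h⁻¹ := by
    simp
  rw [e, ← Module.End.mul_apply, ← Module.End.mul_apply, ← map_mul, ← map_mul]
  congr 2
  group

theorem sum_fixed (ρ : Representation k H V) (N : Subgroup H) [Fintype N] (v : V) (y : H)
    (hy : y ∈ N) : ρ y (∑ x : N, ρ (x : H) v) = ∑ x : N, ρ (x : H) v := by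
  rw [map_sum]
  refine Fintype.sum_equiv (Equiv.mulLeft (⟨y, hy⟩ : N)) _ _ ?_
  intro x
  simp only [Equiv.coe_mulLeft, Subgroup.coe_mul, map_mul, Module.End.mul_apply]

theorem sum_of_fixed (ρ : Representation k H V) (N : Subgroup H) [Fintype N] (v : V)
    (hv : ∀ x ∈ N, ρ x v = v) : ∑ x : N, ρ (x : H) v = (Fintype.card N : k) • v := by
  rw [Finset.sum_congr rfl (fun x _ => hv x.1 x.2), Finset.sum_const, Finset.card_univ,
    Nat.cast_smul_eq_nsmul]

end stab

/-- `[N : N ∩ X]` divides `[G : X]` for normal `N`. -/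
theorem relIndex_dvd_index_of_normal_right {G : Type*} [Group G] [Finite G] (X N : Subgroup G)
    [N.Normal] : X.relIndex N ∣ X.index := by
  have h1 : X.relIndex (N ⊔ X) = X.relIndex N := by
    have e1 := Subgroup.relIndex_sup_left X N
    -- cardinalities
    have c1 : Nat.card (N ⊔ X : Subgroup G) = N.relIndex (N ⊔ X) * Nat.card N := by
      have := (N.subgroupOf (N ⊔ X)).index_mul_card
      rw [Nat.card_congr (Subgroup.subgroupOfEquivOfLe (le_sup_left : N ≤ N ⊔ X)).toEquiv] at this
      exact this.symm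
    have c2 : Nat.card (N ⊔ X : Subgroup G) = X.relIndex (N ⊔ X) * Nat.card X := by
      have := (X.subgroupOf (N ⊔ X)).index_mul_card
      rw [Nat.card_congr (Subgroup.subgroupOfEquivOfLe (le_sup_right : X ≤ N ⊔ X)).toEquiv] at this
      exact this.symm
    have c3 : Nat.card X = N.relIndex X * Nat.card (N ⊓ X : Subgroup G) := by
      have := ((N ⊓ X).subgroupOf X).index_mul_card
      rw [Nat.card_congr (Subgroup.subgroupOfEquivOfLe (inf_le_right : N ⊓ X ≤ X)).toEquiv] at this
      rw [← Subgroup.inf_relIndex_right N X]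
      exact this.symm
    have c4 : Nat.card N = X.relIndex N * Nat.card (N ⊓ X : Subgroup G) := by
      have := ((N ⊓ X).subgroupOf N).index_mul_card
      rw [Nat.card_congr (Subgroup.subgroupOfEquivOfLe (inf_le_left : N ⊓ X ≤ N)).toEquiv] at this
      rw [← Subgroup.inf_relIndex_left N X]
      exact this.symm
    rw [e1] at c1
    have hpos1 : 0 < N.relIndex X := Nat.pos_of_ne_zero
      (Subgroup.index_ne_zero_of_finite (H := N.subgroupOf X))
    have hpos2 : 0 < Nat.card (N ⊓ X : Subgroup G) := Nat.card_pos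
    have : X.relIndex (N ⊔ X) * (N.relIndex X * Nat.card (N ⊓ X : Subgroup G)) =
        X.relIndex N * (N.relIndex X * Nat.card (N ⊓ X : Subgroup G)) := by
      calc X.relIndex (N ⊔ X) * (N.relIndex X * Nat.card (N ⊓ X : Subgroup G))
          = X.relIndex (N ⊔ X) * Nat.card X := by rw [← c3]
        _ = Nat.card (N ⊔ X : Subgroup G) := c2.symm
        _ = N.relIndex X * Nat.card N := c1
        _ = N.relIndex X * (X.relIndex N * Nat.card (N ⊓ X : Subgroup G)) := by rw [← c4]
        _ = X.relIndex N * (N.relIndex X * Nat.card (N ⊓ X : Subgroup G)) := by ring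
    exact Nat.eq_of_mul_eq_mul_right (Nat.mul_pos hpos1 hpos2) this
  rw [← h1]
  exact Subgroup.relIndex_dvd_index_of_le le_sup_right

/-- A nontrivial finite `p`-soluble group has a nontrivial normal subgroup which is a `p`-group or
a `p'`-group. -/
theorem exists_normal_of_isPSolvable {G : Type*} [Group G] [Finite G] [Nontrivial G] (p : ℕ)
    (h : Cfsg.IsPSolvable p G) :
    ∃ N : Subgroup G, N.Normal ∧ N ≠ ⊥ ∧ (IsPGroup p N ∨ (Nat.card N).Coprime p) := by
  obtain ⟨n, H, h0, hlast, -, hnormal, hstep⟩ := h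
  by_contra hcon
  push Not at hcon
  have hall : ∀ i : Fin (n + 1), H i = ⊥ := by
    intro i
    induction i using Fin.induction with
    | zero => exact h0
    | succ i ih =>
      by_contra hne
      have hrel : (H i.castSucc).relIndex (H i.succ) = Nat.card (H i.succ) := by
        rw [ih, Subgroup.relIndex_bot_left]
      obtain ⟨h1, h2⟩ := hcon (H i.succ) (hnormal _) hne
      rcases hstep i with ⟨m, hm⟩ | hc
      · rw [hrel] at hm
        exact h1 (IsPGroup.of_card hm)
      · rw [hrel] at hc
        exact h2 hc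
  have := hall (Fin.last n)
  rw [hlast] at this
  exact top_ne_bot this

end Cfsg.Agent.Lib.Helper69.RepAvg
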