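import Mathlib
import Cfsg.Agent.Lib.Helper83.S38Stmt
import Cfsg.Agent.Lib.Helper23.TypeP

/-!
# S1538 piece USIG (helper69): no prime divisor of `|U|` lies in `σ(M)`

`Q = {u ∈ U | u ^ (q ^ n) = 1}` (`n` the exponent of `q` in `|U|`) is a subgroup of the abelian
`U`, normalized by `N_G(U)`, a `q`-group containing a Sylow `q`-subgroup of `U`; as
`|M| = |H| |U| p` with `q ∤ |H| p` it is a Sylow `q`-subgroup of `M`, hence `M`-conjugate to the
Sylow `q`-subgroup `P` of `M` with `N_G(P) ≤ M`; so `N_G(U) ≤ N_G(Q) ≤ M`.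
-/

set_option autoImplicit false

universe u

namespace Cfsg.Agent.Lib.Helper69.S38USIG

open Cfsg Cfsg.Agent.Lib.Helper83.S38Stmt

/-- the `N`-torsion of a commutative subgroup -/
def tors {G : Type u} [Group G] (U : Subgroup G) (hc : ∀ a ∈ U, ∀ b ∈ U, a * b = b * a) (N : ℕ) :
    Subgroup G where
  carrier := {h | h ∈ U ∧ h ^ N = 1}
  one_mem' := ⟨U.one_mem, one_pow N⟩
  mul_mem' := by
    rintro a b ⟨ha, ha'⟩ ⟨hb, hb'⟩
    refine ⟨U.mul_mem ha hb, ?_⟩
    have hcm : Commute a b := hc a ha b hb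
    rw [hcm.mul_pow, ha', hb', one_mul]
  inv_mem' := by
    rintro a ⟨ha, ha'⟩
    exact ⟨U.inv_mem ha, by rw [inv_pow, ha', inv_one]⟩

theorem mem_tors {G : Type u} [Group G] (U : Subgroup G)
    (hc : ∀ a ∈ U, ∀ b ∈ U, a * b = b * a) (N : ℕ) (h : G) :
    h ∈ tors U hc N ↔ h ∈ U ∧ h ^ N = 1 := Iff.rfl

theorem normalizer_le_tors {G : Type u} [Group G] (U : Subgroup G)
    (hc : ∀ a ∈ U, ∀ b ∈ U, a * b = b * a) (N : ℕ) :
    Subgroup.normalizer (U : Set G) ≤ Subgroup.normalizer ((tors U hc N : Subgroup G) : Set G) := by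
  intro g hg
  rw [Subgroup.mem_normalizer_iff] at hg ⊢
  intro h
  rw [mem_tors, mem_tors, ← hg h, conj_pow]
  constructor
  · rintro ⟨h1, h2⟩
    exact ⟨h1, by rw [h2, mul_one, mul_inv_cancel]⟩
  · rintro ⟨h1, h2⟩
    refine ⟨h1, ?_⟩
    have : h ^ N = g⁻¹ * (g * h ^ N * g⁻¹) * g := by group
    rw [this, h2, mul_one, inv_mul_cancel]

theorem main : USig.{u} := by
  intro G _ _ M W₁ U W₂ hC q hq hqU hσ
  obtain ⟨_, hqM, P, hPN⟩ := hσ
  have hP := hC.hP
  have : Fact q.Prime := ⟨hq⟩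
  have hUc := hP.U_compl
  have hWc := hP.W₁_compl
  have hUM' : U ≤ ⁅M, M⁆ := hUc.2.1
  have hM'M : ⁅M, M⁆ ≤ M := hWc.1
  have hUM : U ≤ M := hUM'.trans hM'M
  have hcard1 : Nat.card ↥⁅M, M⁆ = Nat.card ↥(fittingHallOf M) * Nat.card ↥U :=
    Cfsg.Agent.Lib.Helper23.TypeP.card_of_isComplIn hUc
  have hcard2 : Nat.card ↥M = Nat.card ↥⁅M, M⁆ * Nat.card ↥W₁ :=
    Cfsg.Agent.Lib.Helper23.TypeP.card_of_isComplIn hWc
  have hcop1 : (Nat.card ↥U).Coprime (Nat.card ↥(fittingHallOf M)) :=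
    Cfsg.Agent.Lib.Helper23.TypeP.coprime_card_fittingHallOf M U hUM hUc.2.2.1
  have hrel : W₁.relIndex M = Nat.card ↥⁅M, M⁆ := by
    have hle : W₁ ≤ M := hWc.2.1
    have e1 := Subgroup.relIndex_mul_relIndex (⊥ : Subgroup G) W₁ M bot_le hle
    rw [Subgroup.relIndex_bot_left, Subgroup.relIndex_bot_left] at e1
    have hpos : 0 < Nat.card ↥W₁ := Nat.card_pos
    have e3 : Nat.card ↥W₁ * W₁.relIndex M = Nat.card ↥W₁ * Nat.card ↥⁅M, M⁆ := by
      rw [e1, hcard2, mul_comm]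
    exact Nat.eq_of_mul_eq_mul_left hpos e3
  have hcop2 : (Nat.card ↥W₁).Coprime (Nat.card ↥⁅M, M⁆) := hrel ▸ hP.W₁_hall
  -- `q ∤ |H|`, `q ∤ |W₁|`
  have hqH : ¬ q ∣ Nat.card ↥(fittingHallOf M) := by
    intro h
    have := Nat.dvd_gcd hqU h
    rw [hcop1.gcd_eq_one] at this
    exact hq.one_lt.ne' (Nat.dvd_one.mp this)
  have hqW : ¬ q ∣ Nat.card ↥W₁ := by
    intro h
    have h' : q ∣ Nat.card ↥⁅M, M⁆ := by
      rw [hcard1]; exact Dvd.dvd.mul_left hqU _
    have := Nat.dvd_gcd h h'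
    rw [hcop2.gcd_eq_one] at this
    exact hq.one_lt.ne' (Nat.dvd_one.mp this)
  -- the `q`-parts of `|M|` and `|U|` agree
  have hfac : (Nat.card ↥M).factorization q = (Nat.card ↥U).factorization q := by
    rw [hcard2, hcard1, Nat.factorization_mul (Nat.mul_ne_zero Nat.card_pos.ne' Nat.card_pos.ne')
      Nat.card_pos.ne', Nat.factorization_mul Nat.card_pos.ne' Nat.card_pos.ne']
    simp only [Finsupp.coe_add, Pi.add_apply]
    rw [Nat.factorization_eq_zero_of_not_dvd hqH, Nat.factorization_eq_zero_of_not_dvd hqW]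
    omega
  -- the torsion subgroup
  have hc : ∀ a ∈ U, ∀ b ∈ U, a * b = b * a := by
    intro a ha b hb
    have := hC.hUab.is_comm.comm (⟨a, ha⟩ : U) ⟨b, hb⟩
    exact congrArg Subtype.val this
  set n := (Nat.card ↥U).factorization q with hn
  set Q : Subgroup G := tors U hc (q ^ n) with hQ
  have hQU : Q ≤ U := fun h hh => hh.1
  have hQM : Q ≤ M := hQU.trans hUM
  have hNQ : Subgroup.normalizer (U : Set G) ≤ Subgroup.normalizer (Q : Set G) :=
    normalizer_le_tors U hc (q ^ n)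
  -- `Q` contains a Sylow `q`-subgroup of `U`
  obtain ⟨S⟩ : Nonempty (Sylow q ↥U) := inferInstance
  have hScard : Nat.card ↥(S : Subgroup ↥U) = q ^ n := Sylow.card_eq_multiplicity S
  have hSQ : (S : Subgroup ↥U).map U.subtype ≤ Q := by
    rintro _ ⟨s, hs, rfl⟩
    refine ⟨s.2, ?_⟩
    have h1 : (⟨s, hs⟩ : (S : Subgroup ↥U)) ^ Nat.card ↥(S : Subgroup ↥U) = 1 := pow_card_eq_one'
    rw [hScard] at h1
    have h2 := congrArg (fun x : (S : Subgroup ↥U) => ((x : ↥U) : G)) h1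
    simpa using h2
  have hQcard : q ^ n ≤ Nat.card ↥Q := by
    rw [← hScard, ← Subgroup.card_map_of_injective U.subtype_injective]
    exact Subgroup.card_le_of_le hSQ
  -- `Q` as a `q`-subgroup of `M`
  have hQp : IsPGroup q ↥(Q.subgroupOf M) := by
    intro x
    refine ⟨n, ?_⟩
    have hx : ((x : ↥M) : G) ∈ Q := x.2
    apply Subtype.ext
    apply Subtype.ext
    simpa using hx.2
  obtain ⟨P₂, hP₂⟩ := hQp.exists_le_sylow
  have hP₂card : Nat.card ↥(P₂ : Subgroup ↥M) = q ^ n := by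
    rw [Sylow.card_eq_multiplicity P₂, hfac]
  have hQ₁card : Nat.card ↥(Q.subgroupOf M) = Nat.card ↥Q :=
    Nat.card_congr (Subgroup.subgroupOfEquivOfLe hQM).toEquiv
  have hEq : Q.subgroupOf M = (P₂ : Subgroup ↥M) :=
    Subgroup.eq_of_le_of_card_ge hP₂ (by rw [hP₂card, hQ₁card]; exact hQcard)
  obtain ⟨m, hm⟩ := MulAction.exists_smul_eq ↥M P P₂
  -- membership translation
  have hQP : ∀ h : G, h ∈ Q ↔
      (m : G)⁻¹ * h * (m : G) ∈ ((P : Subgroup ↥M).map M.subtype : Subgroup G) := by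
    intro h
    constructor
    · intro hh
      have hhM : h ∈ M := hQM hh
      have h1 : (⟨h, hhM⟩ : ↥M) ∈ Q.subgroupOf M := hh
      rw [hEq, ← hm, Sylow.coe_subgroup_smul,
        Subgroup.mem_pointwise_smul_iff_inv_smul_mem] at h1
      refine ⟨_, h1, ?_⟩
      simp [MulAut.smul_def]
    · rintro ⟨x, hx, hxe⟩
      have h1 : m * x * m⁻¹ ∈ Q.subgroupOf M := by
        rw [hEq, ← hm, Sylow.coe_subgroup_smul,
          Subgroup.mem_pointwise_smul_iff_inv_smul_mem]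
        have : (MulAut.conj m)⁻¹ • (m * x * m⁻¹) = x := by
          simp [MulAut.smul_def]
          group
        rw [this]
        exact hx
      have h2 : ((m * x * m⁻¹ : ↥M) : G) ∈ Q := h1
      have h3 : ((m * x * m⁻¹ : ↥M) : G) = h := by
        have hxe' : (x : G) = (m : G)⁻¹ * h * (m : G) := hxe
        simp only [Subgroup.coe_mul, Subgroup.coe_inv, hxe']
        group
      rwa [h3] at h2
  -- `N_G(Q) ≤ M`
  have hNQM : Subgroup.normalizer (Q : Set G) ≤ M := by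
    intro g hg
    have hg' : (m : G)⁻¹ * g * (m : G) ∈
        Subgroup.normalizer ((((P : Subgroup ↥M).map M.subtype : Subgroup G)) : Set G) := by
      rw [Subgroup.mem_normalizer_iff] at hg ⊢
      intro h
      have e1 := hQP ((m : G) * h * (m : G)⁻¹)
      have e2 := hQP (g * ((m : G) * h * (m : G)⁻¹) * g⁻¹)
      have e3 := hg ((m : G) * h * (m : G)⁻¹)
      have a1 : (m : G)⁻¹ * ((m : G) * h * (m : G)⁻¹) * (m : G) = h := by group
      have a2 : (m : G)⁻¹ * (g * ((m : G) * h * (m : G)⁻¹) * g⁻¹) * (m : G) =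
          (m : G)⁻¹ * g * (m : G) * h * ((m : G)⁻¹ * g * (m : G))⁻¹ := by group
      rw [a1] at e1
      rw [a2] at e2
      rw [← e1, ← e2]
      exact e3
    have h1 : (m : G)⁻¹ * g * (m : G) ∈ M := hPN hg'
    have h2 : g = (m : G) * ((m : G)⁻¹ * g * (m : G)) * (m : G)⁻¹ := by group
    rw [h2]
    exact M.mul_mem (M.mul_mem m.2 h1) (M.inv_mem m.2)
  exact hC.hN (hNQ.trans hNQM)

end Cfsg.Agent.Lib.Helper69.S38USIG
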