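import Mathlib
import Cfsg.Agent.Lib.Helper22.S56Stmt

set_option autoImplicit false

namespace Cfsg.Agent.Lib.Helper69.S56CNILK1

open Cfsg Cfsg.Agent.Lib.Helper22.S56Stmt

universe u

theorem main (hC : CLe.{u}) (hN : NilQF.{u}) : CNilK1.{u} := by
  intro G _ _ hG M K U hM hKU hK
  have hCle := hC hG M K U hM hKU hK
  have hnil := hN hG M hM
  -- `C' ≤ commutator ↥M`
  have h4 : (⁅M, M⁆ : Subgroup G) = (commutator ↥M).map M.subtype := by
    rw [commutator_def, Subgroup.map_commutator, ← MonoidHom.range_eq_map, Subgroup.range_subtype]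
  have h1 : Subgroup.centralizer ((Cfsg.fittingHall ↥M : Subgroup ↥M) : Set ↥M) ≤ commutator ↥M := by
    intro c hc
    have h2 : (c : G) ∈ M ⊓ Subgroup.centralizer ((Cfsg.fittingHallOf M : Subgroup G) : Set G) := by
      refine Subgroup.mem_inf.mpr ⟨c.2, ?_⟩
      rw [Subgroup.mem_centralizer_iff]
      intro x hx
      obtain ⟨y, hy, rfl⟩ := hx
      have h5 := (Subgroup.mem_centralizer_iff.mp hc) y hy
      exact congrArg Subtype.val h5
    have h3 := hCle h2
    rw [h4] at h3
    obtain ⟨c', hc', hcc⟩ := h3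
    have h6 : c' = c := Subtype.ext hcc
    rwa [h6] at hc'
  let f : ↥(Subgroup.centralizer ((Cfsg.fittingHall ↥M : Subgroup ↥M) : Set ↥M)) →*
      ↥((commutator ↥M).map (QuotientGroup.mk' (Cfsg.fittingHall ↥M))) :=
    ((QuotientGroup.mk' (Cfsg.fittingHall ↥M)).comp
      (Subgroup.centralizer ((Cfsg.fittingHall ↥M : Subgroup ↥M) : Set ↥M)).subtype).codRestrict
      ((commutator ↥M).map (QuotientGroup.mk' (Cfsg.fittingHall ↥M)))
      (fun c => ⟨c, h1 c.2, rfl⟩)
  have hker : f.ker ≤ Subgroup.center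
      ↥(Subgroup.centralizer ((Cfsg.fittingHall ↥M : Subgroup ↥M) : Set ↥M)) := by
    intro c hc
    rw [MonoidHom.mem_ker] at hc
    have h7 : (QuotientGroup.mk' (Cfsg.fittingHall ↥M)) (c : ↥M) = 1 := by
      have h8 := congrArg Subtype.val hc
      exact h8
    have h9 : (c : ↥M) ∈ Cfsg.fittingHall ↥M := by
      rw [QuotientGroup.mk'_apply] at h7
      exact (QuotientGroup.eq_one_iff _).mp h7
    rw [Subgroup.mem_center_iff]
    intro d
    have h10 := (Subgroup.mem_centralizer_iff.mp d.2) (c : ↥M) h9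
    exact Subtype.ext h10.symm
  have := hnil
  exact Subgroup.isNilpotent_of_ker_le_center f hker

end Cfsg.Agent.Lib.Helper69.S56CNILK1
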