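import Mathlib
import Cfsg.Agent.Lib.Helper62.S57Stmt
import Cfsg.Agent.Lib.Helper55.SolvCore

set_option autoImplicit false

namespace Cfsg.Agent.Lib.Helper69.S57QUOTP

open Cfsg Cfsg.Agent.Lib.Helper93.S64Stmt Cfsg.Agent.Lib.Helper22.S56Stmt
  Cfsg.Agent.Lib.Helper62.S57Stmt

universe u

theorem main (hQP : QuotPrime.{u}) (hFM : FrobModP.{u}) : QuotP.{u} := by
  intro X _ _ H R D N _ _ q hA hB hidx hCO hDH hDO hRD hNO hpow hcomm hex
  obtain ⟨d, hd, o, ho, hdo⟩ := hex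
  have : Fact q.Prime := ⟨hB.qprime⟩
  have hq : q.Prime := hB.qprime
  have hOH : Oq X H q ≤ H := Oq_le X H q
  have hNH : N ≤ H := hNO.trans hOH
  have hπs : Function.Surjective (QuotientGroup.mk' N) := QuotientGroup.mk'_surjective N
  have hHR : H ⊓ R = ⊥ := (Subgroup.disjoint_of_coprime_natCard hA.cop).eq_bot
  have hker : ∀ x : X, (QuotientGroup.mk' N) x = 1 ↔ x ∈ N := fun x => QuotientGroup.eq_one_iff x
  have hqp := hQP H R N hNH hA.cop hA.prime
  obtain ⟨⟨x₀, hx₀R⟩, hx₀⟩ := (Subgroup.ne_bot_iff_exists_ne_one).mp hA.ne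
  have hx₀1 : x₀ ≠ 1 := fun h => hx₀ (Subtype.ext h)
  have hπx₀ : (QuotientGroup.mk' N) x₀ ≠ 1 := by
    intro h
    have h1 : x₀ ∈ N := (hker x₀).mp h
    have h2 : x₀ ∈ H ⊓ R := ⟨hNH h1, hx₀R⟩
    rw [hHR] at h2
    exact hx₀1 (Subgroup.mem_bot.mp h2)
  have hπx₀R : (QuotientGroup.mk' N) x₀ ∈ R.map (QuotientGroup.mk' N) :=
    Subgroup.mem_map_of_mem _ hx₀R
  -- (1)
  have hVcomm : ∀ a ∈ (Oq X H q).map (QuotientGroup.mk' N),
      ∀ b ∈ (Oq X H q).map (QuotientGroup.mk' N), a * b = b * a := by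
    rintro _ ⟨a, ha, rfl⟩ _ ⟨b, hb, rfl⟩
    rw [← map_mul, ← map_mul]
    have h1 : (a * b)⁻¹ * (b * a) ∈ N := by
      have h2 := hcomm b⁻¹ (inv_mem hb) a⁻¹ (inv_mem ha)
      have h3 : (a * b)⁻¹ * (b * a) = b⁻¹ * a⁻¹ * b⁻¹⁻¹ * a⁻¹⁻¹ := by group
      rw [h3]; exact h2
    exact QuotientGroup.eq.mpr h1
  -- (2)
  have hVpow : ∀ a ∈ (Oq X H q).map (QuotientGroup.mk' N), a ^ q = 1 := by
    rintro _ ⟨a, ha, rfl⟩
    rw [← map_pow]; exact (hker _).mpr (hpow a ha)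
  -- (3)
  have hVn : ((Oq X H q).map (QuotientGroup.mk' N)).Normal :=
    Subgroup.Normal.map inferInstance _ hπs
  have hKV : D.map (QuotientGroup.mk' N) ≤
      Subgroup.normalizer (((Oq X H q).map (QuotientGroup.mk' N) : Subgroup (X ⧸ N)) : Set (X ⧸ N)) := by
    rw [Subgroup.normalizer_eq_top]; exact le_top
  have hRV : R.map (QuotientGroup.mk' N) ≤
      Subgroup.normalizer (((Oq X H q).map (QuotientGroup.mk' N) : Subgroup (X ⧸ N)) : Set (X ⧸ N)) := by
    rw [Subgroup.normalizer_eq_top]; exact le_top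
  -- (4)
  have hRK : R.map (QuotientGroup.mk' N) ≤
      Subgroup.normalizer ((D.map (QuotientGroup.mk' N) : Subgroup (X ⧸ N)) : Set (X ⧸ N)) :=
    (Subgroup.map_mono hRD).trans (Subgroup.le_normalizer_map _)
  -- (5)
  have hR'ne : R.map (QuotientGroup.mk' N) ≠ ⊥ := by
    intro h
    have h1 := hπx₀R
    rw [h] at h1
    exact hπx₀ (Subgroup.mem_bot.mp h1)
  -- (6)
  have hfix : ∀ r ∈ R.map (QuotientGroup.mk' N), r ≠ 1 →
      D.map (QuotientGroup.mk' N) ⊓ Subgroup.centralizer ({r} : Set (X ⧸ N)) = ⊥ := by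
    intro r hr hr1
    rw [eq_bot_iff]
    intro z hz
    have hz1 : z ∈ H.map (QuotientGroup.mk' N) ⊓ Subgroup.centralizer ({r} : Set (X ⧸ N)) :=
      ⟨Subgroup.map_mono hDH hz.1, hz.2⟩
    rw [hqp r hr hr1] at hz1
    obtain ⟨c, hc, hcz⟩ := hz1
    obtain ⟨d', hd', hdz⟩ := hz.1
    have h1 : d'⁻¹ * c ∈ N := QuotientGroup.eq.mp (hdz.trans hcz.symm)
    have hcO : c ∈ Oq X H q := hCO hc
    have hdO : d' ∈ Oq X H q := by
      have h2 : d' = c * (d'⁻¹ * c)⁻¹ := by group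
      rw [h2]; exact mul_mem hcO (inv_mem (hNO h1))
    have hd1 : d' ∈ D ⊓ Oq X H q := ⟨hd', hdO⟩
    rw [hDO, Subgroup.mem_bot] at hd1
    rw [Subgroup.mem_bot, ← hdz, hd1, map_one]
  -- (7)
  have hsolv : Group.IsSolvable ↥(D.map (QuotientGroup.mk' N) ⊔ R.map (QuotientGroup.mk' N)) := by
    have := hA.solv
    infer_instance
  -- (8)
  have hodd : Odd (Nat.card ↥(D.map (QuotientGroup.mk' N) ⊔ R.map (QuotientGroup.mk' N))) := by
    have h1 : Nat.card ↥(D.map (QuotientGroup.mk' N) ⊔ R.map (QuotientGroup.mk' N)) ∣ Nat.card X :=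
      (Subgroup.card_subgroup_dvd_card _).trans (Subgroup.card_dvd_of_surjective _ hπs)
    exact hA.odd.of_dvd_nat h1
  -- (9)
  have hcD : Nat.card D ∣ (Oq X H q).index := by
    have h := Subgroup.relIndex_dvd_index_of_normal (H := Oq X H q) (K := D)
    rwa [← Subgroup.inf_relIndex_right, inf_comm, hDO, Subgroup.relIndex_bot_left] at h
  have hqD : ¬ q ∣ Nat.card D := fun h => hidx (h.trans hcD)
  have hqH : q ∣ Nat.card H := by
    have h := Subgroup.card_dvd_of_le (inf_le_left : H ⊓ Subgroup.centralizer (R : Set X) ≤ H)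
    rwa [hB.card] at h
  have hqR : ¬ q ∣ Nat.card R := fun h => by
    have h1 := Nat.dvd_gcd hqH h
    rw [Nat.Coprime.gcd_eq_one hA.cop] at h1
    exact hq.one_lt.ne' (Nat.dvd_one.mp h1)
  have hsup : Nat.card ↥(D ⊔ R) ∣ Nat.card D * Nat.card R := by
    have hT : D ⊔ R ≤ Subgroup.normalizer (D : Set X) := sup_le Subgroup.le_normalizer hRD
    have : (D.subgroupOf (D ⊔ R)).Normal := Subgroup.normal_subgroupOf_of_le_normalizer hT
    have h1 := Cfsg.Agent.Lib.Helper55.SolvCore.card_sup_dvd (D.subgroupOf (D ⊔ R))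
      (R.subgroupOf (D ⊔ R))
    rw [← Subgroup.subgroupOf_sup le_sup_left le_sup_right, Subgroup.subgroupOf_self,
      Subgroup.card_top] at h1
    rwa [Nat.card_congr (Subgroup.subgroupOfEquivOfLe (le_sup_left : D ≤ D ⊔ R)).toEquiv,
      Nat.card_congr (Subgroup.subgroupOfEquivOfLe (le_sup_right : R ≤ D ⊔ R)).toEquiv] at h1
  have hcop : (Nat.card ↥(D.map (QuotientGroup.mk' N) ⊔ R.map (QuotientGroup.mk' N))).Coprime q := by
    rw [← Subgroup.map_sup]
    have h1 : Nat.card ↥((D ⊔ R).map (QuotientGroup.mk' N)) ∣ Nat.card D * Nat.card R :=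
      (Subgroup.card_map_dvd _ _).trans hsup
    apply Nat.Coprime.symm
    rw [Nat.Prime.coprime_iff_not_dvd hq]
    intro h
    rcases (Nat.Prime.dvd_mul hq).mp (h.trans h1) with h2 | h2
    · exact hqD h2
    · exact hqR h2
  -- (10)
  have hCcent : (H ⊓ Subgroup.centralizer (R : Set X)).map (QuotientGroup.mk' N) ≤
      Subgroup.centralizer ((R.map (QuotientGroup.mk' N) : Subgroup (X ⧸ N)) : Set (X ⧸ N)) := by
    rintro _ ⟨c, hc, rfl⟩
    rw [Subgroup.mem_centralizer_iff]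
    rintro _ ⟨r, hr, rfl⟩
    have h1 := (Subgroup.mem_centralizer_iff.mp hc.2) r hr
    rw [← map_mul, ← map_mul, h1]
  have hprime' : ∀ x ∈ R.map (QuotientGroup.mk' N), x ≠ 1 →
      (Oq X H q).map (QuotientGroup.mk' N) ⊓ Subgroup.centralizer ({x} : Set (X ⧸ N)) =
      (Oq X H q).map (QuotientGroup.mk' N) ⊓
        Subgroup.centralizer ((R.map (QuotientGroup.mk' N) : Subgroup (X ⧸ N)) : Set (X ⧸ N)) := by
    intro x hx hx1
    apply le_antisymm
    · intro z hz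
      have hz1 : z ∈ H.map (QuotientGroup.mk' N) ⊓ Subgroup.centralizer ({x} : Set (X ⧸ N)) :=
        ⟨Subgroup.map_mono hOH hz.1, hz.2⟩
      rw [hqp x hx hx1] at hz1
      exact ⟨hz.1, hCcent hz1⟩
    · intro z hz
      exact ⟨hz.1, Subgroup.centralizer_le (Set.singleton_subset_iff.mpr hx) hz.2⟩
  -- (11)
  have hVC : (Oq X H q).map (QuotientGroup.mk' N) ⊓
      Subgroup.centralizer ((R.map (QuotientGroup.mk' N) : Subgroup (X ⧸ N)) : Set (X ⧸ N)) ≤
      (H ⊓ Subgroup.centralizer (R : Set X)).map (QuotientGroup.mk' N) := by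
    intro z hz
    rw [← hprime' _ hπx₀R hπx₀] at hz
    have hz1 : z ∈ H.map (QuotientGroup.mk' N) ⊓
        Subgroup.centralizer ({(QuotientGroup.mk' N) x₀} : Set (X ⧸ N)) :=
      ⟨Subgroup.map_mono hOH hz.1, hz.2⟩
    rw [hqp _ hπx₀R hπx₀] at hz1
    exact hz1
  have hCc : IsCyclic ↥(H ⊓ Subgroup.centralizer (R : Set X)) := isCyclic_of_prime_card hB.card
  have hCc' : IsCyclic ↥((H ⊓ Subgroup.centralizer (R : Set X)).map (QuotientGroup.mk' N)) :=
    isCyclic_of_surjective ((QuotientGroup.mk' N).subgroupMap _)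
      ((QuotientGroup.mk' N).subgroupMap_surjective _)
  have hcyc : IsCyclic ↥((Oq X H q).map (QuotientGroup.mk' N) ⊓
      Subgroup.centralizer ((R.map (QuotientGroup.mk' N) : Subgroup (X ⧸ N)) : Set (X ⧸ N))) :=
    isCyclic_of_injective (Subgroup.inclusion hVC) (Subgroup.inclusion_injective hVC)
  have hd' : (QuotientGroup.mk' N) d ∈ D.map (QuotientGroup.mk' N) := Subgroup.mem_map_of_mem _ hd
  have ho' : (QuotientGroup.mk' N) o ∈ (Oq X H q).map (QuotientGroup.mk' N) :=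
    Subgroup.mem_map_of_mem _ ho
  have hnot : ¬ D.map (QuotientGroup.mk' N) ≤ Subgroup.centralizer
      (((Oq X H q).map (QuotientGroup.mk' N) : Subgroup (X ⧸ N)) : Set (X ⧸ N)) := by
    intro hle
    apply hdo
    have h1 := (Subgroup.mem_centralizer_iff.mp (hle hd')) _ ho'
    apply (hker _).mp
    rw [map_mul, map_mul, map_mul, map_inv, map_inv, ← h1]
    group
  have hfin := hFM ((Oq X H q).map (QuotientGroup.mk' N)) (D.map (QuotientGroup.mk' N))
    (R.map (QuotientGroup.mk' N)) q hVcomm hVpow hKV hRV hRK hR'ne hfix hsolv hodd hcop hprime' hcyc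
    hnot
  have hinj : Function.Injective ((QuotientGroup.mk' N).subgroupMap R) := by
    rw [injective_iff_map_eq_one]
    intro a ha
    have h1 : (QuotientGroup.mk' N) (a : X) = 1 := congrArg Subtype.val ha
    have h2 : (a : X) ∈ N := (hker _).mp h1
    have h3 : (a : X) ∈ H ⊓ R := ⟨hNH h2, a.2⟩
    rw [hHR] at h3
    exact Subtype.ext (Subgroup.mem_bot.mp h3)
  have hcardR : Nat.card ↥(R.map (QuotientGroup.mk' N)) = Nat.card ↥R :=
    (Nat.card_congr (Equiv.ofBijective _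
      ⟨hinj, (QuotientGroup.mk' N).subgroupMap_surjective R⟩)).symm
  rw [← hcardR]; exact hfin

end Cfsg.Agent.Lib.Helper69.S57QUOTP
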