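import Mathlib
import Cfsg.Agent.Lib.Helper85.SCStmt
import Cfsg.Agent.Lib.Helper99.FCGEN

set_option autoImplicit false

/-!
# S5127-SC / GEN: a subgroup containing a Sylow `p`-subgroup `R`, the `p'`-elements of a normal
subgroup `N` and the elements conjugating `R ∩ N` into `R` is the whole group.
-/

namespace Cfsg.Agent.Lib.Helper69.SCGEN

open Cfsg.Agent.Lib.Helper85.SCStmt

universe u

theorem card_mul_relIndex' {G : Type*} [Group G] {A B : Subgroup G} (h : A ≤ B) :
    Nat.card A * A.relIndex B = Nat.card B := by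
  rw [Subgroup.relIndex, ← Nat.card_congr (Subgroup.subgroupOfEquivOfLe h).toEquiv]
  exact Subgroup.card_mul_index _

/-- for `N` normal, `[N : R ∩ N]` divides `[G : R]`. -/
theorem relIndex_dvd_index_of_normal_right {G : Type*} [Group G] [Finite G] (R N : Subgroup G)
    [N.Normal] : R.relIndex N ∣ R.index := by
  have ha : Nat.card ↥(R ⊓ N) * R.relIndex N = Nat.card N := by
    have := card_mul_relIndex' (inf_le_right : R ⊓ N ≤ N)
    rwa [Subgroup.inf_relIndex_right] at this
  have hb : Nat.card ↥(R ⊓ N) * N.relIndex R = Nat.card R := by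
    have := card_mul_relIndex' (inf_le_left : R ⊓ N ≤ R)
    rwa [Subgroup.inf_relIndex_left] at this
  have hc : Nat.card N * N.relIndex R = Nat.card ↥(R ⊔ N) := by
    have := card_mul_relIndex' (le_sup_right : N ≤ R ⊔ N)
    rwa [Subgroup.relIndex_sup_right] at this
  have hd : Nat.card R * R.relIndex (R ⊔ N) = Nat.card ↥(R ⊔ N) :=
    card_mul_relIndex' (le_sup_left : R ≤ R ⊔ N)
  have hpos : 0 < Nat.card R := Nat.card_pos
  have he : R.relIndex (R ⊔ N) = R.relIndex N := by
    apply Nat.eq_of_mul_eq_mul_left hpos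
    rw [hd, ← hc, ← ha, ← hb]
    ring
  rw [← he]
  exact Dvd.intro _ (Subgroup.relIndex_mul_index (le_sup_left : R ≤ R ⊔ N))

theorem main : Gen.{u} := by
  intro G _ _ p _ R N H hN hRH hp' hnorm
  have hpr : p.Prime := Fact.out
  have := hN
  -- `R ∩ N` is a Sylow `p`-subgroup of `N`
  have hPg : IsPGroup p ((R : Subgroup G).subgroupOf N) := R.isPGroup'.comap_subtype
  have hidx : ¬ p ∣ ((R : Subgroup G).subgroupOf N).index := by
    intro h
    exact R.not_dvd_index (dvd_trans h (relIndex_dvd_index_of_normal_right (R : Subgroup G) N))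
  set P : Sylow p N := hPg.toSylow hidx with hP
  have hPcoe : ((P : Subgroup N)).map N.subtype = (R : Subgroup G) ⊓ N := by
    rw [hP, IsPGroup.toSylow_coe, Subgroup.subgroupOf_map_subtype]
  have htop := Sylow.normalizer_sup_eq_top P
  rw [hPcoe] at htop
  -- `N ≤ H`
  have hNH : N ≤ H := by
    intro n hn
    have hgen := Cfsg.Agent.Lib.Helper99.FCGEN.main (G := N) p P ⟨n, hn⟩
    have hle : Subgroup.closure (((P : Subgroup N) : Set N) ∪ {h : N | (orderOf h).Coprime p}) ≤
        H.comap N.subtype := by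
      rw [Subgroup.closure_le]
      rintro x (hx | hx)
      · have hx' : x ∈ (R : Subgroup G).subgroupOf N := hx
        exact hRH (Subgroup.mem_subgroupOf.mp hx')
      · have hx' : (orderOf x).Coprime p := hx
        rw [← Subgroup.orderOf_coe] at hx'
        exact hp' (x : G) x.2 hx'
    exact hle hgen
  -- the normalizer of `R ∩ N` lies in `H`
  have hnH : Subgroup.normalizer ((((R : Subgroup G) ⊓ N : Subgroup G)) : Set G) ≤ H := by
    intro g hg
    apply hnorm
    intro σ hσ
    exact ((Subgroup.mem_normalizer_iff.mp hg σ).mp hσ).1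
  rw [eq_top_iff, ← htop]
  exact sup_le hnH hNH

end Cfsg.Agent.Lib.Helper69.SCGEN
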