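import Mathlib
import Cfsg.Agent.Lib.Helper85.SCStmt

set_option autoImplicit false

/-!
# S5127-SC / SAUT: if `S` normalizes `C` then `Aut_S(Y)` preserves `C`.
-/

namespace Cfsg.Agent.Lib.Helper69.SCSAUT

open Cfsg Cfsg.FusionSystem Cfsg.Agent.Lib.Helper85.SCStmt

universe u

/-- the elements of `Aut_K(P)` are conjugations by elements of `K`. -/
theorem exists_of_mem {Ω : Type*} [Group Ω] (K P : Subgroup Ω) (α : MulAut P)
    (h : α ∈ autInducedBy K P) : ∃ g ∈ K, ∀ x : P, ((α x : P) : Ω) = g * (x : Ω) * g⁻¹ := by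
  induction h using Subgroup.closure_induction with
  | mem α hα => exact hα
  | one => exact ⟨1, K.one_mem, fun x => by simp⟩
  | mul α β _ _ ha hb =>
    obtain ⟨g, hg, hga⟩ := ha
    obtain ⟨k, hk, hkb⟩ := hb
    refine ⟨g * k, K.mul_mem hg hk, fun x => ?_⟩
    show ((α (β x) : P) : Ω) = _
    rw [hga, hkb]; group
  | inv α _ ha =>
    obtain ⟨g, hg, hga⟩ := ha
    refine ⟨g⁻¹, K.inv_mem hg, fun x => ?_⟩
    have h1 := hga (α⁻¹ x)
    have e : α (α⁻¹ x) = x := MulEquiv.apply_symm_apply α x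
    rw [e] at h1
    rw [h1]; group

theorem main : SAut.{u} := by
  intro Ω _ S C Y hC α hα x hx
  obtain ⟨g, hg, hga⟩ := exists_of_mem S Y α hα
  rw [hga x]
  exact hC g hg (x : Ω) hx

end Cfsg.Agent.Lib.Helper69.SCSAUT
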