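import Mathlib
import Cfsg.Agent.Lib.Helper85.SCStmt
import Cfsg.Agent.Lib.Helper69.SCSAUT

set_option autoImplicit false

/-!
# S5127-SC / STABINN: if no `g ∈ N_S(Y) ∖ Y` acts trivially on `Y ∩ T` and on `Y` modulo `T`,
every stability automorphism in `Aut_F(Y)` is inner.
-/

namespace Cfsg.Agent.Lib.Helper69.SCSTABINN

open Cfsg Cfsg.FusionSystem Cfsg.Agent.Lib.Helper85.SCStmt

universe u

theorem main : StabInnP.{u} := by
  intro Ω _ S F T Y hInS hY β hβ hStab
  obtain ⟨g, hg, hga⟩ :=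
    Cfsg.Agent.Lib.Helper69.SCSAUT.exists_of_mem S Y β (hInS β hβ hStab)
  -- `g` normalizes `Y`
  have hgN : g ∈ Subgroup.normalizer (Y : Set Ω) := by
    rw [Subgroup.mem_normalizer_iff]
    intro y
    constructor
    · intro hy
      have := hga ⟨y, hy⟩
      rw [← this]; exact (β ⟨y, hy⟩).2
    · intro hy
      obtain ⟨x, hx⟩ := β.surjective ⟨g * y * g⁻¹, hy⟩
      have h1 := hga x
      rw [hx] at h1
      have h2 : y = (x : Ω) := by
        have : g * y * g⁻¹ = g * (x : Ω) * g⁻¹ := h1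
        exact mul_left_cancel (mul_right_cancel this)
      rw [h2]; exact x.2
  have hgNS : g ∈ normalizerIn S Y := ⟨hg, hgN⟩
  have hSE : StabElt T Y g := by
    refine ⟨fun y hy hyT => ?_, fun y hy => ?_⟩
    · have h1 := hStab.1 ⟨y, hy⟩ hyT
      have h2 := hga ⟨y, hy⟩
      rw [h1] at h2
      exact h2.symm
    · have h1 := hStab.2 ⟨y, hy⟩
      rw [hga ⟨y, hy⟩] at h1
      exact h1
  have hgY : g ∈ Y := hY g hgNS hSE
  refine ⟨⟨g, hgY⟩, fun y => ?_⟩
  apply Subtype.ext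
  rw [hga y]
  rfl

end Cfsg.Agent.Lib.Helper69.SCSTABINN
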