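import Mathlib
import Cfsg.Agent.Lib.Helper83.SgStmt

/-! Basic computations for the Siegel transvection pieces of S5072: the polar form `bp` is
bilinear, `act` is an action, Siegel transvections of one line multiply additively. -/

set_option autoImplicit false
open Matrix

namespace Cfsg.Agent.Lib.Helper69.SgBasic

open Cfsg Cfsg.Agent.Lib.Helper83.SgStmt

universe u

variable {m : ℕ} {F : Type u} [Field F]

theorem bp_eq (v w : Vec m F) :
    bp m F v w = ∑ i : Fin (m + 3), (v (.inl i) * w (.inr i) + w (.inl i) * v (.inr i)) := by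
  unfold bp Cfsg.quadFormPlus
  rw [← Finset.sum_sub_distrib, ← Finset.sum_sub_distrib]
  refine Finset.sum_congr rfl (fun i _ => ?_)
  simp only [Pi.add_apply]
  ring

theorem bp_comm (v w : Vec m F) : bp m F v w = bp m F w v := by
  rw [bp_eq, bp_eq]
  refine Finset.sum_congr rfl (fun i _ => ?_)
  ring

theorem bp_add_right (v w w' : Vec m F) : bp m F v (w + w') = bp m F v w + bp m F v w' := by
  rw [bp_eq, bp_eq, bp_eq, ← Finset.sum_add_distrib]
  refine Finset.sum_congr rfl (fun i _ => ?_)
  simp only [Pi.add_apply]
  ring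

theorem bp_smul_right (v w : Vec m F) (a : F) : bp m F v (a • w) = a * bp m F v w := by
  rw [bp_eq, bp_eq, Finset.mul_sum]
  refine Finset.sum_congr rfl (fun i _ => ?_)
  simp only [Pi.smul_apply, smul_eq_mul]
  ring

theorem bp_zero_right (v : Vec m F) : bp m F v 0 = 0 := by
  rw [bp_eq]
  simp

theorem bp_add_left (v v' w : Vec m F) : bp m F (v + v') w = bp m F v w + bp m F v' w := by
  rw [bp_comm, bp_add_right, bp_comm w v, bp_comm w v']

theorem bp_smul_left (v w : Vec m F) (a : F) : bp m F (a • v) w = a * bp m F v w := by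
  rw [bp_comm, bp_smul_right, bp_comm]

theorem bp_sub_right (v w w' : Vec m F) : bp m F v (w - w') = bp m F v w - bp m F v w' := by
  have h : w - w' = w + (-1 : F) • w' := by
    rw [neg_one_smul, sub_eq_add_neg]
  rw [h, bp_add_right, bp_smul_right]
  ring

theorem bp_sub_left (v v' w : Vec m F) : bp m F (v - v') w = bp m F v w - bp m F v' w := by
  rw [bp_comm, bp_sub_right, bp_comm w v, bp_comm w v']

theorem bp_self (v : Vec m F) : bp m F v v = 2 * Cfsg.quadFormPlus (m + 3) F v := by
  rw [bp_eq]
  unfold Cfsg.quadFormPlus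
  rw [Finset.mul_sum]
  refine Finset.sum_congr rfl (fun i _ => ?_)
  ring

theorem bp_single_inr (i : Fin (m + 3)) (w : Vec m F) :
    bp m F (Pi.single (Sum.inr i) 1) w = w (.inl i) := by
  rw [bp_eq]
  simp [Pi.single_apply]

theorem bp_single_inl (i : Fin (m + 3)) (w : Vec m F) :
    bp m F (Pi.single (Sum.inl i) 1) w = w (.inr i) := by
  rw [bp_eq]
  simp [Pi.single_apply]

/-- the polar form is nondegenerate -/
theorem exists_bp_ne_zero {p : Vec m F} (hp : p ≠ 0) : ∃ v : Vec m F, bp m F v p ≠ 0 := by
  by_contra hcon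
  push Not at hcon
  apply hp
  funext j
  rcases j with i | i
  · have := hcon (Pi.single (Sum.inr i) 1)
    rwa [bp_single_inr] at this
  · have := hcon (Pi.single (Sum.inl i) 1)
    rwa [bp_single_inl] at this

/-- on a singular line the polar form vanishes -/
theorem line_pp {p r : Vec m F} (h : IsLine m F p r) : bp m F p p = 0 := by
  rw [bp_self, h.2.1, mul_zero]

theorem line_rr {p r : Vec m F} (h : IsLine m F p r) : bp m F r r = 0 := by
  rw [bp_self, h.2.2.1, mul_zero]

theorem line_pr {p r : Vec m F} (h : IsLine m F p r) : bp m F p r = 0 := by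
  unfold bp
  rw [h.2.2.2, h.2.1, h.2.2.1]
  ring

theorem line_rp {p r : Vec m F} (h : IsLine m F p r) : bp m F r p = 0 := by
  rw [bp_comm, line_pr h]

theorem act_one (v : Vec m F) : act m F 1 v = v := by
  unfold act
  rw [OneMemClass.coe_one, Units.val_one, Matrix.one_mulVec]

theorem act_mul (g h : OG m F) (v : Vec m F) : act m F (g * h) v = act m F g (act m F h v) := by
  unfold act
  rw [Subgroup.coe_mul, Units.val_mul, Matrix.mulVec_mulVec]

theorem ext_act {g h : OG m F} (hgh : ∀ v : Vec m F, act m F g v = act m F h v) : g = h := by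
  apply Subtype.ext
  apply Units.ext
  apply Matrix.ext_of_mulVec_single
  intro i
  exact hgh _

/-- the nilpotent map of a line is killed by the polar form with the line -/
theorem bp_N_right {p r : Vec m F} (h : IsLine m F p r) (v : Vec m F) (c : F) :
    bp m F (v + c • (bp m F v r • p - bp m F v p • r)) r = bp m F v r := by
  rw [bp_add_left, bp_smul_left, bp_sub_left, bp_smul_left, bp_smul_left, line_pr h, line_rr h]
  ring

theorem bp_N_left {p r : Vec m F} (h : IsLine m F p r) (v : Vec m F) (c : F) :
    bp m F (v + c • (bp m F v r • p - bp m F v p • r)) p = bp m F v p := by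
  rw [bp_add_left, bp_smul_left, bp_sub_left, bp_smul_left, bp_smul_left, line_pp h, line_rp h]
  ring

/-- products of Siegel transvections of one line -/
theorem isSieg_mul {p r : Vec m F} (h : IsLine m F p r) {c c' : F} {g g' : OG m F}
    (hg : IsSieg m F p r c g) (hg' : IsSieg m F p r c' g') :
    IsSieg m F p r (c + c') (g * g') := by
  intro v
  rw [act_mul, hg' v, hg, bp_N_right h, bp_N_left h, add_smul]
  abel

end Cfsg.Agent.Lib.Helper69.SgBasic
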