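import Mathlib
import Cfsg.Agent.Lib.Helper83.SgStmt
import Cfsg.Agent.Lib.Helper69.SgBasic

/-! Piece COMMU of S5072: the Siegel transvection groups are commutative. -/

set_option autoImplicit false
open Matrix

namespace Cfsg.Agent.Lib.Helper69.SgCOMMU

open Cfsg Cfsg.Agent.Lib.Helper83.SgStmt Cfsg.Agent.Lib.Helper69.SgBasic

universe u

theorem main : COMMU.{u} := by
  intro hS m F _ p r h
  refine ⟨⟨fun a b => ?_⟩⟩
  obtain ⟨c, hc⟩ := (hS.2 m F p r h a.1).mp a.2
  obtain ⟨c', hc'⟩ := (hS.2 m F p r h b.1).mp b.2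
  apply Subtype.ext
  apply ext_act
  intro v
  have h1 := isSieg_mul h hc hc' v
  have h2 := isSieg_mul h hc' hc v
  rw [Subgroup.coe_mul, Subgroup.coe_mul, h1, h2, add_comm c c']

end Cfsg.Agent.Lib.Helper69.SgCOMMU
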