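import Mathlib
import Cfsg.Agent.Lib.Helper83.SgStmt
import Cfsg.Agent.Lib.Helper69.SgBasic

/-! Piece NEBOT of S5072: the Siegel transvection groups are non-trivial. -/

set_option autoImplicit false
open Matrix

namespace Cfsg.Agent.Lib.Helper69.SgNEBOT

open Cfsg Cfsg.Agent.Lib.Helper83.SgStmt Cfsg.Agent.Lib.Helper69.SgBasic

universe u

theorem main : NEBOT.{u} := by
  intro hS m F _ p r h hbot
  obtain ⟨g, hg⟩ := hS.1 m F p r h 1
  have hmem : g ∈ Sg m F p r := (hS.2 m F p r h g).mpr ⟨1, hg⟩
  rw [hbot, Subgroup.mem_bot] at hmem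
  have hli := LinearIndependent.pair_iff.mp h.1
  have hp : p ≠ 0 := by
    intro hp0
    have := hli 1 0 (by rw [hp0]; simp)
    exact one_ne_zero this.1
  obtain ⟨v, hv⟩ := exists_bp_ne_zero hp
  have h1 := hg v
  rw [hmem, act_one, one_smul] at h1
  have h2 : bp m F v r • p + (-bp m F v p) • r = 0 := by
    have h3 : bp m F v r • p - bp m F v p • r = 0 := by
      have h4 : v + 0 = v + (bp m F v r • p - bp m F v p • r) := by
        rw [add_zero]
        exact h1
      exact (add_left_cancel h4).symm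
    rw [neg_smul, ← sub_eq_add_neg]
    exact h3
  exact hv (neg_eq_zero.mp (hli _ _ h2).2)

end Cfsg.Agent.Lib.Helper69.SgNEBOT
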