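import Mathlib
import Cfsg.Agent.Lib.Helper83.SgStmt
import Cfsg.Agent.Lib.Helper69.SgBasic

/-! Piece SPAN of S5072: the Siegel transvection group depends only on the span of the line. -/

set_option autoImplicit false
open Matrix

namespace Cfsg.Agent.Lib.Helper69.SgSPAN

open Cfsg Cfsg.Agent.Lib.Helper83.SgStmt Cfsg.Agent.Lib.Helper69.SgBasic

universe u

theorem bp_zero_of_span {m : ℕ} {F : Type u} [Field F] {p r w : Vec m F} (v : Vec m F)
    (hp : bp m F v p = 0) (hr : bp m F v r = 0) (hw : w ∈ Submodule.span F {p, r}) :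
    bp m F v w = 0 := by
  induction hw using Submodule.span_induction with
  | mem x hx =>
    rcases hx with rfl | hx
    · exact hp
    · rw [Set.mem_singleton_iff] at hx
      rw [hx]
      exact hr
  | zero => exact bp_zero_right v
  | add x y _ _ hx hy => rw [bp_add_right, hx, hy, add_zero]
  | smul a x _ hx => rw [bp_smul_right, hx, mul_zero]

theorem main : SPAN.{u} := by
  intro m F _ p r p₁ r₁ h
  have hp₁ : p₁ ∈ Submodule.span F {p, r} := h ▸ Submodule.subset_span (by simp)
  have hr₁ : r₁ ∈ Submodule.span F {p, r} := h ▸ Submodule.subset_span (by simp)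
  have hp : p ∈ Submodule.span F {p₁, r₁} := h.symm ▸ Submodule.subset_span (by simp)
  have hr : r ∈ Submodule.span F {p₁, r₁} := h.symm ▸ Submodule.subset_span (by simp)
  unfold Sg
  congr 1
  ext σ
  simp only [Set.mem_ofPred_eq]
  constructor
  · intro hσ v hvp hvr
    exact hσ v (bp_zero_of_span v hvp hvr hp₁) (bp_zero_of_span v hvp hvr hr₁)
  · intro hσ v hvp hvr
    exact hσ v (bp_zero_of_span v hvp hvr hp) (bp_zero_of_span v hvp hvr hr)

end Cfsg.Agent.Lib.Helper69.SgSPAN
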