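import Mathlib
import Cfsg.Agent.Lib.Helper39.TLStmt

/-!
# S4404 / REFLEQ (second seat): reflections with the same action on `M` have the same `W`.
-/

set_option autoImplicit false

namespace Cfsg.Agent.Lib.Helper69.TLREFLEQ

open Cfsg Cfsg.Agent.Lib.Helper39.TLStmt

universe u

/-- every element of `W'` is a commutator `y' v y'⁻¹ v⁻¹` with `v ∈ W'` -/
theorem exists_comm {S : Type u} [Group S] [Finite S] {M : Subgroup S} {y' : S}
    {W' : Subgroup S} (h' : IsRefl M y' W') (w : S) (hw : w ∈ W') :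
    ∃ v ∈ W', w = y' * v * y'⁻¹ * v⁻¹ := by
  let φ : ↥W' → ↥W' := fun v => ⟨y' * v * y'⁻¹ * (v : S)⁻¹, h'.comm v (h'.le v.2)⟩
  have hinj : Function.Injective φ := by
    intro v₁ v₂ h
    have heq : y' * (v₁ : S) * y'⁻¹ * (v₁ : S)⁻¹ = y' * (v₂ : S) * y'⁻¹ * (v₂ : S)⁻¹ :=
      congrArg Subtype.val h
    have h1 : y' * (v₁ : S) * y'⁻¹ = y' * (v₂ : S) * y'⁻¹ * (v₂ : S)⁻¹ * (v₁ : S) := by
      rw [← heq]; group
    have hu : (v₂ : S)⁻¹ * (v₁ : S) ∈ W' := W'.mul_mem (W'.inv_mem v₂.2) v₁.2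
    have hfix : y' * ((v₂ : S)⁻¹ * (v₁ : S)) * y'⁻¹ = (v₂ : S)⁻¹ * (v₁ : S) := by
      calc y' * ((v₂ : S)⁻¹ * (v₁ : S)) * y'⁻¹
          = (y' * (v₂ : S) * y'⁻¹)⁻¹ * (y' * (v₁ : S) * y'⁻¹) := by group
        _ = (y' * (v₂ : S) * y'⁻¹)⁻¹ * (y' * (v₂ : S) * y'⁻¹ * (v₂ : S)⁻¹ * (v₁ : S)) := by
            rw [← h1]
        _ = (v₂ : S)⁻¹ * (v₁ : S) := by group
    have h2 := h'.fix _ hu hfix
    apply Subtype.ext
    have : (v₁ : S) = (v₂ : S) * ((v₂ : S)⁻¹ * (v₁ : S)) := by group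
    rw [this, h2, mul_one]
  have hsurj : Function.Surjective φ := Finite.injective_iff_surjective.mp hinj
  obtain ⟨v, hv⟩ := hsurj ⟨w, hw⟩
  exact ⟨v, v.2, (congrArg Subtype.val hv).symm⟩

theorem main : ReflEq.{u} := by
  intro S _ _ M _ y y' W W' h h' hact
  have hle : W' ≤ W := by
    intro w hw
    obtain ⟨v, hv, rfl⟩ := exists_comm h' w hw
    rw [← hact v (h'.le hv)]
    exact h.comm v (h'.le hv)
  exact (Subgroup.eq_of_le_of_card_ge hle (by rw [h.card, h'.card])).symm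

end Cfsg.Agent.Lib.Helper69.TLREFLEQ
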