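import Mathlib
import Cfsg.Agent.Lib.Helper44.TPStmt

/-!
# S5973 / TSEXT (second seat): a totally singular subspace of finrank `< d` is not maximal.
-/

set_option autoImplicit false

namespace Cfsg.Agent.Lib.Helper69.TPTSEXT

open Cfsg.Agent.Lib.Helper44.TPStmt
open Cfsg.Agent.Lib.Helper37.HypStmt (cc IPos)
open Cfsg.Agent.Lib.Helper44.TSStmt (Fac NumTypes)

universe u

/-- the polar form of the plus form, explicitly -/
theorem polar_plus {F : Type u} [Field F] (d : ℕ) (w v : J d → F) :
    QuadraticMap.polar (Cfsg.quadFormPlus d F) w v =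
      ∑ i : Fin d, (w (Sum.inl i) * v (Sum.inr i) + v (Sum.inl i) * w (Sum.inr i)) := by
  unfold QuadraticMap.polar Cfsg.quadFormPlus
  rw [← Finset.sum_sub_distrib, ← Finset.sum_sub_distrib]
  refine Finset.sum_congr rfl fun i _ => ?_
  simp only [Pi.add_apply]
  ring

/-- the polar form as a linear map in the first variable -/
noncomputable def polL {F : Type u} [Field F] (d : ℕ) (v : J d → F) : (J d → F) →ₗ[F] F :=
  ∑ i : Fin d, (v (Sum.inr i) • LinearMap.proj (Sum.inl i) + v (Sum.inl i) • LinearMap.proj (Sum.inr i))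

theorem polL_apply {F : Type u} [Field F] (d : ℕ) (v w : J d → F) :
    polL d v w = QuadraticMap.polar (Cfsg.quadFormPlus d F) w v := by
  rw [polar_plus]
  unfold polL
  rw [LinearMap.sum_apply]
  refine Finset.sum_congr rfl fun i _ => ?_
  simp only [LinearMap.add_apply, LinearMap.smul_apply, LinearMap.proj_apply, smul_eq_mul]
  ring

theorem main : SingCnt.{u} → TsExt.{u} := by
  intro hSC F _ _ d U hU hlt
  classical
  have hd : 1 ≤ d := by omega
  set j := Module.finrank F ↥U with hj
  let b := Module.finBasis F ↥U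
  -- the frame
  have hli : LinearIndependent F (fun a : Fin j => ((b a : ↥U) : J d → F)) :=
    b.linearIndependent.map' U.subtype (Submodule.ker_subtype U)
  have hQ : ∀ a : Fin j, Cfsg.quadFormPlus d F ((b a : ↥U) : J d → F) = 0 :=
    fun a => hU _ (b a).2
  have hB : ∀ a c : Fin j, QuadraticMap.polar (Cfsg.quadFormPlus d F)
      ((b a : ↥U) : J d → F) ((b c : ↥U) : J d → F) = 0 := by
    intro a c
    unfold QuadraticMap.polar
    rw [hU _ (U.add_mem (b a).2 (b c).2), hU _ (b a).2, hU _ (b c).2]
    simp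
  let fr : TFr d F j := ⟨fun a => ((b a : ↥U) : J d → F), hli, hQ, hB⟩
  have hcard := hSC F d j hd (by omega) fr
  -- suppose every such vector lies in `U`
  by_contra hcon
  have hall : ∀ u : J d → F, Cfsg.quadFormPlus d F u = 0 →
      (∀ a, QuadraticMap.polar (Cfsg.quadFormPlus d F) (fr.1 a) u = 0) → u ∈ U := by
    intro u hu0 hua
    by_contra huU
    apply hcon
    refine ⟨u, huU, hu0, ?_⟩
    intro w hw
    have hz : (polL d u).comp U.subtype = 0 := by
      apply b.ext
      intro a
      simp only [LinearMap.comp_apply, Submodule.subtype_apply, LinearMap.zero_apply]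
      rw [polL_apply]
      exact hua a
    have := congrArg (fun f => f ⟨w, hw⟩) hz
    simp only [LinearMap.comp_apply, Submodule.subtype_apply, LinearMap.zero_apply] at this
    rw [polL_apply] at this
    exact this
  -- cardinalities
  let g : {u : J d → F // Cfsg.quadFormPlus d F u = 0 ∧
        ∀ a, QuadraticMap.polar (Cfsg.quadFormPlus d F) (fr.1 a) u = 0} → ↥U :=
    fun u => ⟨u.1, hall u.1 u.2.1 u.2.2⟩
  have hg : Function.Injective g := by
    intro u₁ u₂ h
    apply Subtype.ext
    have h' : ((g u₁ : ↥U) : J d → F) = ((g u₂ : ↥U) : J d → F) := congrArg Subtype.val h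
    exact h'
  have hle := Nat.card_le_card_of_injective g hg
  rw [hcard] at hle
  have hUc : Nat.card ↥U = Fintype.card F ^ j := by
    rw [Nat.card_eq_fintype_card, Module.card_eq_pow_finrank (K := F)]
  rw [hUc] at hle
  have hq : 2 ≤ Fintype.card F := Fintype.one_lt_card
  have h1 : Fintype.card F ^ j ≤ Fintype.card F ^ (d - 1) :=
    Nat.pow_le_pow_right (by omega) (by omega)
  have h2 : 1 ≤ Fintype.card F ^ (d - j) := Nat.one_le_pow _ _ (by omega)
  have h3 : 1 ≤ Fintype.card F ^ (d - 1) := Nat.one_le_pow _ _ (by omega)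
  have h4 : Fintype.card F ^ (d - 1) * 2 ≤
      Fintype.card F ^ (d - 1) * (Fintype.card F ^ (d - j) + Fintype.card F - 1) :=
    Nat.mul_le_mul_left _ (by omega)
  omega

end Cfsg.Agent.Lib.Helper69.TPTSEXT
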